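import Cfsg.Agent.Lib.OrthMinDegree.Weights
import Cfsg.Agent.Lib.Classical.Transvection

/-!
The special linear group of the plane of two orthogonal hyperbolic pairs, inside `Ω`.
-/

set_option autoImplicit false
set_option linter.unusedSectionVars false

namespace CfsgLib.OrthMinDegree

open CfsgLib.Orth CfsgLib.MinIndexOrth CfsgLib.Classical Cfsg Matrix

variable {F : Type*} [Field F] [Fintype F] {ι : Type} [Fintype ι] [DecidableEq ι]
variable {Q : QuadraticForm F (ι → F)}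

local notation "B" => QuadraticMap.polar (DFunLike.coe Q)

/-- A hyperbolic pair with its two vectors exchanged. -/
def flipHP (P : HP Q) : HP Q where
  v := P.f
  f := P.v
  hv := P.hf
  hf := P.hv
  hvf := P.hfv

/-- Two orthogonal hyperbolic pairs. -/
structure Duo (Q : QuadraticForm F (ι → F)) where
  P : HP Q
  R : HP Q
  v_mem : R.v ∈ P.W
  f_mem : R.f ∈ P.W

/-- The same, with the second pair exchanged. -/
def Duo.flip (T : Duo Q) : Duo Q where
  P := T.P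
  R := flipHP T.R
  v_mem := T.f_mem
  f_mem := T.v_mem

variable (T : Duo Q)

theorem Duo.flip_flip : T.flip.flip = T := rfl

theorem Duo.rels : B T.P.v T.R.v = 0 ∧ B T.P.f T.R.v = 0 ∧ B T.P.v T.R.f = 0 ∧ B T.P.f T.R.f = 0 :=
  ⟨(T.P.mem_W.1 T.v_mem).1, (T.P.mem_W.1 T.v_mem).2, (T.P.mem_W.1 T.f_mem).1, (T.P.mem_W.1 T.f_mem).2⟩

theorem Duo.rels' : B T.R.v T.P.v = 0 ∧ B T.R.v T.P.f = 0 ∧ B T.R.f T.P.v = 0 ∧ B T.R.f T.P.f = 0 :=
  ⟨by rw [b_comm]; exact T.rels.1, by rw [b_comm]; exact T.rels.2.1,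
    by rw [b_comm]; exact T.rels.2.2.1, by rw [b_comm]; exact T.rels.2.2.2⟩

/-- The linear map attached to a matrix of determinant one. -/
noncomputable def Duo.lin (A : SpecialLinearGroup (Fin 2) F) : (ι → F) →ₗ[F] (ι → F) where
  toFun x := x
    + ((A 0 0 - 1) * B T.P.f x + A 0 1 * B T.R.f x) • T.P.v
    + (A 1 0 * B T.P.f x + (A 1 1 - 1) * B T.R.f x) • T.R.v
    + ((A 1 1 - 1) * B T.P.v x - A 1 0 * B T.R.v x) • T.P.f
    + (-(A 0 1) * B T.P.v x + (A 0 0 - 1) * B T.R.v x) • T.R.f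
  map_add' x y := by simp only [b_add_right]; module
  map_smul' c x := by simp only [b_smul_right, RingHom.id_apply]; module

theorem Duo.lin_q (A : SpecialLinearGroup (Fin 2) F) (x : ι → F) : Q (T.lin A x) = Q x := by
  obtain ⟨h1, h2, h3, h4⟩ := T.rels
  obtain ⟨h5, h6, h7, h8⟩ := T.rels'
  have hd : A 0 0 * A 1 1 - A 0 1 * A 1 0 = 1 := by
    have h := A.2; rwa [Matrix.det_fin_two] at h
  simp only [Duo.lin, LinearMap.coe_mk, AddHom.coe_mk]
  simp only [q_add, b_add_left, b_smul_left, b_smul_right, q_smul, T.P.hv, T.P.hf, T.R.hv, T.R.hf,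
    h1, h2, h3, h4, h5, h6, h7, h8, T.P.hvf, T.P.hfv, T.R.hvf, T.R.hfv, b_comm x T.P.v,
    b_comm x T.P.f, b_comm x T.R.v, b_comm x T.R.f]
  linear_combination (B T.P.f x * B T.P.v x + B T.R.f x * B T.R.v x) * hd

theorem Duo.lin_v (A : SpecialLinearGroup (Fin 2) F) :
    T.lin A T.P.v = A 0 0 • T.P.v + A 1 0 • T.R.v := by
  obtain ⟨h1, h2, h3, h4⟩ := T.rels
  obtain ⟨h5, h6, h7, h8⟩ := T.rels'
  simp only [Duo.lin, LinearMap.coe_mk, AddHom.coe_mk]
  rw [T.P.hfv, b_self_zero T.P.hv, h7, h5]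
  module

theorem Duo.lin_u (A : SpecialLinearGroup (Fin 2) F) :
    T.lin A T.R.v = A 0 1 • T.P.v + A 1 1 • T.R.v := by
  obtain ⟨h1, h2, h3, h4⟩ := T.rels
  simp only [Duo.lin, LinearMap.coe_mk, AddHom.coe_mk]
  rw [h1, h2, T.R.hfv, b_self_zero T.R.hv]
  module

theorem Duo.lin_f (A : SpecialLinearGroup (Fin 2) F) :
    T.lin A T.P.f = A 1 1 • T.P.f + -(A 0 1) • T.R.f := by
  obtain ⟨h5, h6, h7, h8⟩ := T.rels'
  simp only [Duo.lin, LinearMap.coe_mk, AddHom.coe_mk]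
  rw [T.P.hvf, b_self_zero T.P.hf, h8, h6]
  module

theorem Duo.lin_fix (A : SpecialLinearGroup (Fin 2) F) {x : ι → F} (h1 : B T.P.v x = 0)
    (h2 : B T.P.f x = 0) (h3 : B T.R.v x = 0) (h4 : B T.R.f x = 0) : T.lin A x = x := by
  simp only [Duo.lin, LinearMap.coe_mk, AddHom.coe_mk]
  rw [h1, h2, h3, h4]
  module

theorem Duo.lin_rf (A : SpecialLinearGroup (Fin 2) F) :
    T.lin A T.R.f = -(A 1 0) • T.P.f + A 0 0 • T.R.f := by
  obtain ⟨h1, h2, h3, h4⟩ := T.rels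
  simp only [Duo.lin, LinearMap.coe_mk, AddHom.coe_mk]
  rw [h3, h4, T.R.hvf, b_self_zero T.R.hf]
  module

theorem Duo.ext_of {g h : Grp Q} (h1 : ap g T.P.v = ap h T.P.v) (h2 : ap g T.P.f = ap h T.P.f)
    (h3 : ap g T.R.v = ap h T.R.v) (h4 : ap g T.R.f = ap h T.R.f)
    (h5 : ∀ x, B T.P.v x = 0 → B T.P.f x = 0 → B T.R.v x = 0 → B T.R.f x = 0 → ap g x = ap h x) :
    g = h := by
  refine ext_ap fun x => ?_
  obtain ⟨r1, r2, r3, r4⟩ := T.rels
  obtain ⟨r5, r6, r7, r8⟩ := T.rels'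
  obtain ⟨y, hy⟩ : ∃ y, y = x - B T.P.f x • T.P.v - B T.P.v x • T.P.f - B T.R.f x • T.R.v
      - B T.R.v x • T.R.f := ⟨_, rfl⟩
  have e : x = y + B T.P.f x • T.P.v + B T.P.v x • T.P.f + B T.R.f x • T.R.v + B T.R.v x • T.R.f := by
    rw [hy]; abel
  have hy' := h5 y
    (by rw [hy]; simp only [b_sub_right, b_smul_right, b_self_zero T.P.hv, T.P.hvf, r1, r3]; ring)
    (by rw [hy]; simp only [b_sub_right, b_smul_right, b_self_zero T.P.hf, T.P.hfv, r2, r4]; ring)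
    (by rw [hy]; simp only [b_sub_right, b_smul_right, b_self_zero T.R.hv, T.R.hvf, r5, r6]; ring)
    (by rw [hy]; simp only [b_sub_right, b_smul_right, b_self_zero T.R.hf, T.R.hfv, r7, r8]; ring)
  rw [e]
  simp only [ap_add, ap_smul, h1, h2, h3, h4, hy']

variable (hb : Big Q)

/-- The isometry of a matrix. -/
noncomputable def Duo.levG : SpecialLinearGroup (Fin 2) F →* Grp Q where
  toFun A := (exists_iso hb.nondeg (T.lin A) (T.lin_q A)).choose
  map_one' := ext_ap fun x => by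
    rw [(exists_iso hb.nondeg (T.lin 1) (T.lin_q 1)).choose_spec, ap_one]
    simp only [Duo.lin, LinearMap.coe_mk, AddHom.coe_mk]
    simp
  map_mul' A C := by
    have hA := (exists_iso hb.nondeg (T.lin A) (T.lin_q A)).choose_spec
    have hC := (exists_iso hb.nondeg (T.lin C) (T.lin_q C)).choose_spec
    have hAC := (exists_iso hb.nondeg (T.lin (A * C)) (T.lin_q (A * C))).choose_spec
    have e : ∀ i j, (A * C) i j = A i 0 * C 0 j + A i 1 * C 1 j := fun i j => by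
      show ((A : Matrix (Fin 2) (Fin 2) F) * (C : Matrix (Fin 2) (Fin 2) F)) i j = _
      rw [Matrix.mul_apply, Fin.sum_univ_two]
    refine T.ext_of ?_ ?_ ?_ ?_ fun x a b c d => ?_
    · rw [ap_mul, hAC, hC, T.lin_v, T.lin_v, ap_add, ap_smul, ap_smul, hA, hA, T.lin_v, T.lin_u, e, e]
      module
    · rw [ap_mul, hAC, hC, T.lin_f, T.lin_f, ap_add, ap_smul, ap_smul, hA, hA, T.lin_f, T.lin_rf, e, e]
      module
    · rw [ap_mul, hAC, hC, T.lin_u, T.lin_u, ap_add, ap_smul, ap_smul, hA, hA, T.lin_v, T.lin_u, e, e]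
      module
    · rw [ap_mul, hAC, hC, T.lin_rf, T.lin_rf, ap_add, ap_smul, ap_smul, hA, hA, T.lin_f, T.lin_rf, e, e]
      module
    · rw [ap_mul, hAC, hC, T.lin_fix _ a b c d, T.lin_fix _ a b c d, hA, T.lin_fix _ a b c d]

theorem Duo.levG_ap (A : SpecialLinearGroup (Fin 2) F) (x : ι → F) :
    ap (T.levG hb A) x = T.lin A x :=
  (exists_iso hb.nondeg (T.lin A) (T.lin_q A)).choose_spec x

variable (hq : 4 ≤ Fintype.card F)

include hq in
theorem sl2_perfect : commutator (SpecialLinearGroup (Fin 2) F) = ⊤ := by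
  refine commutator_SL_eq_top (Or.inr ?_)
  classical
  by_contra hc
  push Not at hc
  have h : (Finset.univ : Finset F) ⊆ {0, 1, -1} := fun x _ => by
    by_cases hx : x = 0
    · simp [hx]
    rcases sq_eq_one_iff.1 (hc x hx) with h | h <;> simp [h]
  have h1 := (Finset.card_le_card h).trans Finset.card_le_three
  rw [Finset.card_univ] at h1
  omega

include hq in
theorem Duo.levG_mem (A : SpecialLinearGroup (Fin 2) F) : T.levG hb A ∈ Cfsg.Omega F ⇑Q := by
  show _ ∈ commutator (Grp Q)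
  have h : (commutator (SpecialLinearGroup (Fin 2) F)).map (T.levG hb) ≤ commutator (Grp Q) := by
    rw [commutator_def, commutator_def, Subgroup.map_commutator]
    exact Subgroup.commutator_mono le_top le_top
  refine h ⟨A, ?_, rfl⟩
  rw [sl2_perfect hq]
  trivial

/-- The special linear group of the plane, in `Ω`. -/
noncomputable def Duo.lev : SpecialLinearGroup (Fin 2) F →* OG Q :=
  (T.levG hb).codRestrict _ (T.levG_mem hb hq)

theorem Duo.lev_ap (A : SpecialLinearGroup (Fin 2) F) (x : ι → F) :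
    ap (T.lev hb hq A : Grp Q) x = T.lin A x :=
  T.levG_ap hb A x

/-- The exchange of the two points. -/
def sw : SpecialLinearGroup (Fin 2) F := ⟨!![0, -1; 1, 0], by simp [Matrix.det_fin_two_of]⟩

/-- A diagonal matrix. -/
def dg (c : Fˣ) : SpecialLinearGroup (Fin 2) F :=
  ⟨!![(c : F), 0; 0, ((c⁻¹ : Fˣ) : F)], by simp [Matrix.det_fin_two_of]⟩

/-- An upper triangular transvection. -/
def tv (a : F) : SpecialLinearGroup (Fin 2) F := ⟨!![1, a; 0, 1], by simp [Matrix.det_fin_two_of]⟩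

theorem dg_mul (c d : Fˣ) : (dg (c * d) : SpecialLinearGroup (Fin 2) F) = dg c * dg d := by
  refine Subtype.ext ?_
  show (dg (c * d)).1 = (dg c).1 * (dg d).1
  ext i j
  fin_cases i <;> fin_cases j <;> simp [dg, Matrix.mul_apply, Fin.sum_univ_two, mul_comm, add_comm]

theorem dg_one : (dg 1 : SpecialLinearGroup (Fin 2) F) = 1 := by
  ext i j
  fin_cases i <;> fin_cases j <;> simp [dg]

theorem tv_add (a b : F) : (tv (a + b) : SpecialLinearGroup (Fin 2) F) = tv a * tv b := by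
  refine Subtype.ext ?_
  show (tv (a + b)).1 = (tv a).1 * (tv b).1
  ext i j
  fin_cases i <;> fin_cases j <;> simp [tv, Matrix.mul_apply, Fin.sum_univ_two, mul_comm, add_comm]

theorem Duo.sw_v : ap (T.lev hb hq sw : Grp Q) T.P.v = T.R.v := by
  rw [T.lev_ap, T.lin_v]; simp [sw]

theorem Duo.sw_u : ap (T.lev hb hq sw : Grp Q) T.R.v = -T.P.v := by
  rw [T.lev_ap, T.lin_u]; simp [sw]

theorem Duo.sw_f : ap (T.lev hb hq sw : Grp Q) T.P.f = T.R.f := by
  rw [T.lev_ap, T.lin_f]; simp [sw]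

theorem Duo.sw_rf : ap (T.lev hb hq sw : Grp Q) T.R.f = -T.P.f := by
  rw [T.lev_ap, T.lin_rf]; simp [sw]

theorem Duo.lev_fix (A : SpecialLinearGroup (Fin 2) F) {x : ι → F} (h1 : B T.P.v x = 0)
    (h2 : B T.P.f x = 0) (h3 : B T.R.v x = 0) (h4 : B T.R.f x = 0) :
    ap (T.lev hb hq A : Grp Q) x = x := by
  rw [T.lev_ap, T.lin_fix A h1 h2 h3 h4]

theorem Duo.dg_v (c : Fˣ) : ap (T.lev hb hq (dg c) : Grp Q) T.P.v = (c : F) • T.P.v := by
  rw [T.lev_ap, T.lin_v]; simp [dg]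

theorem Duo.dg_u (c : Fˣ) : ap (T.lev hb hq (dg c) : Grp Q) T.R.v = ((c⁻¹ : Fˣ) : F) • T.R.v := by
  rw [T.lev_ap, T.lin_u]; simp [dg]

theorem Duo.dg_f (c : Fˣ) : ap (T.lev hb hq (dg c) : Grp Q) T.P.f = ((c⁻¹ : Fˣ) : F) • T.P.f := by
  rw [T.lev_ap, T.lin_f]; simp [dg]

theorem Duo.dg_rf (c : Fˣ) : ap (T.lev hb hq (dg c) : Grp Q) T.R.f = (c : F) • T.R.f := by
  rw [T.lev_ap, T.lin_rf]; simp [dg]

end CfsgLib.OrthMinDegree
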