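import Mathlib

/-!
The degrees, and the divisibility that excludes the degree one below the least.
-/

set_option autoImplicit false

namespace CfsgLib.OrthMinDegree

/-- The least degree for plus type, in rank `n`. -/
def kP (q : ℕ) : ℕ → ℕ
  | 0 => 0
  | n + 1 => if n ≤ 2 then q ^ 3 + q ^ 2 + q
      else (q ^ n - 1) * (q ^ (n - 1) + 1) + 1 + kP q n

/-- The least degree for minus type, in rank `n`. -/
def kM (q : ℕ) : ℕ → ℕ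
  | 0 => 0
  | n + 1 => if n ≤ 2 then q * (q * q - q + 1)
      else (q ^ n + 1) * (q ^ (n - 1) - 1) + 1 + kM q n

theorem kP_three (q : ℕ) : kP q 3 = q ^ 3 + q ^ 2 + q := by simp [kP]

theorem kM_three (q : ℕ) : kM q 3 = q * (q * q - q + 1) := by simp [kM]

theorem kP_succ (q : ℕ) {n : ℕ} (hn : 3 ≤ n) :
    kP q (n + 1) = (q ^ n - 1) * (q ^ (n - 1) + 1) + 1 + kP q n := by
  rw [kP, if_neg (by omega)]

theorem kM_succ (q : ℕ) {n : ℕ} (hn : 3 ≤ n) :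
    kM q (n + 1) = (q ^ n + 1) * (q ^ (n - 1) - 1) + 1 + kM q n := by
  rw [kM, if_neg (by omega)]

theorem kP_formula {q : ℕ} (hq : 2 ≤ q) : ∀ i : ℕ,
    ((q : ℤ) ^ 2 - 1) * kP q (i + 3) = ((q : ℤ) ^ (i + 3) - 1) * ((q : ℤ) ^ (i + 2) + q)
  | 0 => by rw [kP_three]; push_cast; ring
  | i + 1 => by
    have h1 : 1 ≤ q ^ (i + 3) := Nat.one_le_pow _ _ (by omega)
    rw [show i + 1 + 3 = i + 3 + 1 from rfl, kP_succ q (by omega), show i + 3 - 1 = i + 2 from rfl]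
    push_cast [Nat.cast_sub h1]
    linear_combination kP_formula hq i

theorem kM_formula {q : ℕ} (hq : 2 ≤ q) : ∀ i : ℕ,
    ((q : ℤ) ^ 2 - 1) * kM q (i + 3) = ((q : ℤ) ^ (i + 3) + 1) * ((q : ℤ) ^ (i + 2) - q)
  | 0 => by
    rw [kM_three]
    push_cast [Nat.cast_sub (show q ≤ q * q from Nat.le_mul_of_pos_left q (by omega))]
    ring
  | i + 1 => by
    have h1 : 1 ≤ q ^ (i + 2) := Nat.one_le_pow _ _ (by omega)
    rw [show i + 1 + 3 = i + 3 + 1 from rfl, kM_succ q (by omega), show i + 3 - 1 = i + 2 from rfl]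
    push_cast [Nat.cast_sub h1]
    linear_combination kM_formula hq i

theorem sq_sub_one_ne {q : ℕ} (hq : 2 ≤ q) : (q : ℤ) ^ 2 - 1 ≠ 0 := by
  have : (2 : ℤ) ≤ q := by exact_mod_cast hq
  nlinarith

theorem kP_ge {q : ℕ} (hq : 4 ≤ q) (i : ℕ) : (q ^ (i + 1) : ℕ) ≤ kP q (i + 3) := by
  induction i with
  | zero => rw [kP_three, pow_one]; exact Nat.le_add_left _ _
  | succ i ih =>
    rw [show i + 1 + 3 = i + 3 + 1 from rfl, kP_succ q (by omega), show i + 3 - 1 = i + 2 from rfl]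
    have h1 : 1 ≤ q ^ (i + 3) - 1 := by
      have : q ^ 1 ≤ q ^ (i + 3) := Nat.pow_le_pow_right (by omega) (by omega)
      rw [pow_one] at this
      omega
    have : q ^ (i + 1 + 1) ≤ (q ^ (i + 3) - 1) * (q ^ (i + 2) + 1) :=
      (Nat.le_succ _).trans (Nat.le_mul_of_pos_left _ h1)
    omega

/-- A number prime to `q` dividing a product with a power of `q`. -/
theorem dvd_drop {E A : ℤ} {q : ℤ} {j : ℕ} (hc : IsCoprime E q) (h : E ∣ A * q ^ j) : E ∣ A :=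
  (hc.pow_right).dvd_of_dvd_mul_right h

theorem small_of_dvd {E A : ℤ} (hA : 0 < A) (hlt : A < E) (h : E ∣ A) : False := by
  have := Int.le_of_dvd hA h
  omega

theorem plus_excluded {q i j k : ℕ} (hq : 4 ≤ q) (hk : k + 1 = kP q (i + 4))
    (hdvd : k * (q ^ 2 - 1) ∣ (q ^ (i + 4) - 1) * (q ^ (i + 3) + 1) *
      ((q ^ (i + 3) - 1) * (q ^ (i + 2) + 1)) * q ^ j) : False := by
  have h1 : 1 ≤ q ^ (i + 4) := Nat.one_le_pow _ _ (by omega)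
  have h2 : 1 ≤ q ^ (i + 3) := Nat.one_le_pow _ _ (by omega)
  have h3 : 1 ≤ q ^ 2 := Nat.one_le_pow _ _ (by omega)
  have hd := Int.natCast_dvd_natCast.2 hdvd
  push_cast [Nat.cast_sub h1, Nat.cast_sub h2, Nat.cast_sub h3] at hd
  have hk' : (k : ℤ) + 1 = kP q (i + 4) := by exact_mod_cast hk
  have hf := kP_formula (show 2 ≤ q by omega) (i + 1)
  rw [show i + 1 + 3 = i + 4 from rfl, show i + 1 + 2 = i + 3 from rfl, ← hk'] at hf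
  obtain ⟨E, hE⟩ : ∃ E : ℤ, E = (q : ℤ) ^ (i + 4) + (q : ℤ) ^ 2 + q - 1 := ⟨_, rfl⟩
  have hfac : (k : ℤ) * ((q : ℤ) ^ 2 - 1) = ((q : ℤ) ^ (i + 3) - 1) * E := by
    rw [hE]; linear_combination hf
  rw [hfac, show ((q : ℤ) ^ (i + 4) - 1) * ((q : ℤ) ^ (i + 3) + 1) *
      (((q : ℤ) ^ (i + 3) - 1) * ((q : ℤ) ^ (i + 2) + 1)) * (q : ℤ) ^ j =
      ((q : ℤ) ^ (i + 3) - 1) * ((((q : ℤ) ^ (i + 4) - 1) * ((q : ℤ) ^ (i + 3) + 1) *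
        ((q : ℤ) ^ (i + 2) + 1)) * (q : ℤ) ^ j) by ring] at hd
  have hq' : (4 : ℤ) ≤ q := by exact_mod_cast hq
  have h0 : (q : ℤ) ^ (i + 3) - 1 ≠ 0 := by
    have : (q : ℤ) ^ 1 ≤ (q : ℤ) ^ (i + 3) := pow_le_pow_right₀ (by omega) (by omega)
    rw [pow_one] at this
    omega
  have hc : IsCoprime E (q : ℤ) := ⟨-1, (q : ℤ) ^ (i + 3) + q + 1, by rw [hE]; ring⟩
  have h4 := dvd_drop hc (Int.dvd_of_mul_dvd_mul_left h0 hd)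
  have h5 : E ∣ ((q : ℤ) ^ 2 - 1) ^ 2 := by
    refine dvd_drop (j := 1) hc ?_
    obtain ⟨A, hA⟩ : ∃ A, A = ((q : ℤ) ^ (i + 4) - 1) * ((q : ℤ) ^ (i + 3) + 1) *
        ((q : ℤ) ^ (i + 2) + 1) := ⟨_, rfl⟩
    rw [← hA] at h4
    have h7 : (((q : ℤ) ^ 2 - 1) ^ 2) * (q : ℤ) ^ 1 =
        E * (((q : ℤ) ^ (i + 4)) ^ 2 + ((q : ℤ) ^ 3 - (q : ℤ) ^ 2 - q)) - (q : ℤ) ^ 3 * A := by
      rw [hA, hE]; ring
    rw [h7]
    exact (dvd_mul_right E _).sub (h4.mul_left _)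
  refine small_of_dvd (pow_pos (by nlinarith) 2) ?_ h5
  have h6 : (q : ℤ) ^ 4 ≤ (q : ℤ) ^ (i + 4) := pow_le_pow_right₀ (by omega) (by omega)
  rw [hE]
  nlinarith

theorem minus_excluded {q i j k : ℕ} (hq : 2 ≤ q) (hk : k + 1 = kM q (i + 4))
    (hdvd : k * (q ^ 2 - 1) ∣ (q ^ (i + 4) + 1) * (q ^ (i + 3) - 1) *
      ((q ^ (i + 3) + 1) * (q ^ (i + 2) - 1)) * q ^ j) : False := by
  have h1 : 1 ≤ q ^ (i + 3) := Nat.one_le_pow _ _ (by omega)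
  have h2 : 1 ≤ q ^ (i + 2) := Nat.one_le_pow _ _ (by omega)
  have h3 : 1 ≤ q ^ 2 := Nat.one_le_pow _ _ (by omega)
  have hd := Int.natCast_dvd_natCast.2 hdvd
  push_cast [Nat.cast_sub h1, Nat.cast_sub h2, Nat.cast_sub h3] at hd
  have hk' : (k : ℤ) + 1 = kM q (i + 4) := by exact_mod_cast hk
  have hf := kM_formula hq (i + 1)
  rw [show i + 1 + 3 = i + 4 from rfl, show i + 1 + 2 = i + 3 from rfl, ← hk'] at hf
  obtain ⟨E, hE⟩ : ∃ E : ℤ, E = (q : ℤ) ^ (i + 4) - (q : ℤ) ^ 2 - q + 1 := ⟨_, rfl⟩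
  have hfac : (k : ℤ) * ((q : ℤ) ^ 2 - 1) = ((q : ℤ) ^ (i + 3) + 1) * E := by
    rw [hE]; linear_combination hf
  rw [hfac, show ((q : ℤ) ^ (i + 4) + 1) * ((q : ℤ) ^ (i + 3) - 1) *
      (((q : ℤ) ^ (i + 3) + 1) * ((q : ℤ) ^ (i + 2) - 1)) * (q : ℤ) ^ j =
      ((q : ℤ) ^ (i + 3) + 1) * ((((q : ℤ) ^ (i + 4) + 1) * ((q : ℤ) ^ (i + 3) - 1) *
        ((q : ℤ) ^ (i + 2) - 1)) * (q : ℤ) ^ j) by ring] at hd
  have hq' : (2 : ℤ) ≤ q := by exact_mod_cast hq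
  have h0 : (q : ℤ) ^ (i + 3) + 1 ≠ 0 := by
    have : (0 : ℤ) ≤ (q : ℤ) ^ (i + 3) := pow_nonneg (by omega) _
    omega
  have hc : IsCoprime E (q : ℤ) := ⟨1, -((q : ℤ) ^ (i + 3) - q - 1), by rw [hE]; ring⟩
  have h4 := dvd_drop hc (Int.dvd_of_mul_dvd_mul_left h0 hd)
  have h5 : E ∣ ((q : ℤ) ^ 2 - 1) ^ 2 := by
    refine dvd_drop (j := 1) hc ?_
    obtain ⟨A, hA⟩ : ∃ A, A = ((q : ℤ) ^ (i + 4) + 1) * ((q : ℤ) ^ (i + 3) - 1) *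
        ((q : ℤ) ^ (i + 2) - 1) := ⟨_, rfl⟩
    rw [← hA] at h4
    have h7 : (((q : ℤ) ^ 2 - 1) ^ 2) * (q : ℤ) ^ 1 = (q : ℤ) ^ 3 * A -
        E * (((q : ℤ) ^ (i + 4)) ^ 2 + ((q : ℤ) ^ 3 - (q : ℤ) ^ 2 - q)) := by
      rw [hA, hE]; ring
    rw [h7]
    exact (h4.mul_left _).sub (dvd_mul_right E _)
  refine small_of_dvd (pow_pos (by nlinarith) 2) ?_ h5
  have h6 : (q : ℤ) ^ 4 ≤ (q : ℤ) ^ (i + 4) := pow_le_pow_right₀ (by omega) (by omega)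
  rw [hE]
  nlinarith

theorem minus_four_excluded {q k : ℕ} (hq : 3 ≤ q) (hk : k + 2 = kM q 4)
    (hdvd : k * (q ^ 2 - 1) ∣ (q ^ 4 + 1) * (q ^ 3 - 1) *
      ((q ^ 3 + 1) * (q ^ 2 - 1)) * q ^ 5) : False := by
  have h1 : 1 ≤ q ^ 3 := Nat.one_le_pow _ _ (by omega)
  have h3 : 1 ≤ q ^ 2 := Nat.one_le_pow _ _ (by omega)
  have hd := Int.natCast_dvd_natCast.2 hdvd
  push_cast [Nat.cast_sub h1, Nat.cast_sub h3] at hd
  have hk' : (k : ℤ) + 2 = kM q 4 := by exact_mod_cast hk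
  have hq' : (3 : ℤ) ≤ q := by exact_mod_cast hq
  have hf : ((q : ℤ) ^ 2 - 1) * ((k : ℤ) + 2) = ((q : ℤ) ^ 4 + 1) * ((q : ℤ) ^ 3 - q) := by
    rw [hk']; exact kM_formula (show 2 ≤ q by omega) 1
  have h21 : (q : ℤ) ^ 2 - 1 ≠ 0 := by nlinarith
  have hkv : (k : ℤ) = ((q : ℤ) - 1) * ((q : ℤ) ^ 4 + (q : ℤ) ^ 3 + (q : ℤ) ^ 2 + q + 2) := by
    refine mul_left_cancel₀ h21 ?_
    linear_combination hf
  rw [hkv, show ((q : ℤ) - 1) * ((q : ℤ) ^ 4 + (q : ℤ) ^ 3 + (q : ℤ) ^ 2 + q + 2) * ((q : ℤ) ^ 2 - 1) =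
      (((q : ℤ) - 1) * ((q : ℤ) ^ 2 - 1)) * ((q : ℤ) ^ 4 + (q : ℤ) ^ 3 + (q : ℤ) ^ 2 + q + 2) by ring,
    show ((q : ℤ) ^ 4 + 1) * ((q : ℤ) ^ 3 - 1) * (((q : ℤ) ^ 3 + 1) * ((q : ℤ) ^ 2 - 1)) * (q : ℤ) ^ 5 =
      (((q : ℤ) - 1) * ((q : ℤ) ^ 2 - 1)) * ((((q : ℤ) ^ 4 + 1) * ((q : ℤ) ^ 2 + q + 1)) *
        ((q : ℤ) ^ 3 + 1) * (q : ℤ) ^ 5) by ring] at hd
  obtain ⟨t, ht⟩ := Int.dvd_of_mul_dvd_mul_left (mul_ne_zero (by omega) h21) hd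
  refine small_of_dvd (A := 2 * (q : ℤ) ^ 3 + 2 * (q : ℤ) ^ 2 + 8) (by positivity) ?_
    ⟨(q : ℤ) ^ 10 + 2 * (q : ℤ) ^ 5 - (q : ℤ) ^ 4 - 2 * q + 4 - t, ?_⟩
    (E := (q : ℤ) ^ 4 + (q : ℤ) ^ 3 + (q : ℤ) ^ 2 + q + 2)
  · nlinarith [mul_le_mul_of_nonneg_left hq' (show (0 : ℤ) ≤ (q : ℤ) ^ 3 by positivity),
      mul_le_mul_of_nonneg_left hq' (show (0 : ℤ) ≤ (q : ℤ) ^ 2 by positivity),
      mul_le_mul_of_nonneg_left hq' (show (0 : ℤ) ≤ (q : ℤ) by positivity)]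
  · linear_combination -ht

end CfsgLib.OrthMinDegree
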