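import Cfsg.Agent.Lib.MinIndexOrth.Count
import Cfsg.Agent.Lib.RankOne.Restrict

/-!
Vectors with a given value of a quadratic form and given products with one singular vector, or with
a totally singular pair.
-/

set_option autoImplicit false
set_option linter.unusedSectionVars false

namespace CfsgLib.OrthMinDegree

open CfsgLib.Orth

variable {F : Type*} [Field F] [Finite F] {ι : Type} [Fintype ι] [DecidableEq ι]
variable {Q : QuadraticForm F (ι → F)} (U : Submodule F (ι → F))

local notation "B" => QuadraticMap.polar (DFunLike.coe Q)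
local notation "q" => Nat.card F

theorem card_one {s z : ι → F} (hs : s ∈ U) (hz : z ∈ U) (hsq : Q s = 0) (hsz : B s z = 1)
    {β : F} (hβ : β ≠ 0) (c : F) :
    q * (q * Nat.card {x : U // B s (x : ι → F) = β ∧ Q (x : ι → F) = c}) = Nat.card U := by
  rw [← Nat.card_prod, ← Nat.card_prod]
  refine Nat.card_congr
    { toFun := fun p => p.2.2.1 + p.2.1 • (⟨s, hs⟩ : U) + p.1 • (⟨z, hz⟩ : U)
      invFun := fun x =>
        (B s (x : ι → F) - β,
          (Q ((x : ι → F) - (B s (x : ι → F) - β) • z) - c) / β,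
          ⟨x - (B s (x : ι → F) - β) • (⟨z, hz⟩ : U) -
            ((Q ((x : ι → F) - (B s (x : ι → F) - β) • z) - c) / β) • (⟨s, hs⟩ : U), ?_, ?_⟩)
      left_inv := ?_
      right_inv := ?_ }
  · simp only [Submodule.coe_sub, Submodule.coe_smul, b_sub_right, b_smul_right, hsz,
      b_self_zero hsq]
    ring
  · simp only [Submodule.coe_sub, Submodule.coe_smul]
    generalize hy : (x : ι → F) - (B s (x : ι → F) - β) • z = y
    have e : B s y = β := by rw [← hy, b_sub_right, b_smul_right, hsz]; ring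
    rw [q_sub, q_smul, hsq, b_smul_right, b_comm y s, e, div_mul_cancel₀ _ hβ]
    ring
  · rintro ⟨r, t, x, hx1, hx2⟩
    have e1 : B s ((x : ι → F) + t • s + r • z) - β = r := by
      rw [b_add_right, b_add_right, b_smul_right, b_smul_right, hsz, b_self_zero hsq, hx1]; ring
    have e2 : (x : ι → F) + t • s + r • z - r • z = x + t • s := add_sub_cancel_right _ _
    have e3 : (Q ((x : ι → F) + t • s) - c) / β = t := by
      rw [q_add, q_smul, hsq, b_smul_right, b_comm (x : ι → F) s, hx1, hx2, div_eq_iff hβ]; ring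
    dsimp only
    simp only [Submodule.coe_add, Submodule.coe_smul, e1, e2, e3]
    refine Prod.ext rfl (Prod.ext rfl (Subtype.ext ?_))
    dsimp only
    abel
  · intro x
    dsimp only
    abel

theorem card_pair {u y z₁ z₂ : ι → F} (hu : u ∈ U) (hy : y ∈ U) (hz₁ : z₁ ∈ U) (hz₂ : z₂ ∈ U)
    (huq : Q u = 0) (hyq : Q y = 0) (huy : B u y = 0)
    (h11 : B u z₁ = 1) (h12 : B u z₂ = 0) (h21 : B y z₁ = 0) (h22 : B y z₂ = 1)
    {β γ : F} (h : ¬ (β = 0 ∧ γ = 0)) (c : F) :
    q * (q * (q * Nat.card {x : U //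
      B u (x : ι → F) = β ∧ B y (x : ι → F) = γ ∧ Q (x : ι → F) = c})) = Nat.card U := by
  obtain ⟨l, μ, hlm⟩ : ∃ l μ : F, l * β + μ * γ = 1 := by
    by_cases hb : β = 0
    · exact ⟨0, γ⁻¹, by rw [zero_mul, zero_add, inv_mul_cancel₀ fun e => h ⟨hb, e⟩]⟩
    · exact ⟨β⁻¹, 0, by rw [zero_mul, add_zero, inv_mul_cancel₀ hb]⟩
  set w := l • u + μ • y with hw
  have hwU : w ∈ U := U.add_mem (U.smul_mem _ hu) (U.smul_mem _ hy)
  have huw : B u w = 0 := by
    rw [hw, b_add_right, b_smul_right, b_smul_right, b_self_zero huq, huy]; ring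
  have hyw : B y w = 0 := by
    rw [hw, b_add_right, b_smul_right, b_smul_right, b_self_zero hyq, b_comm y u, huy]; ring
  have hwq : Q w = 0 := by
    rw [hw, q_add, q_smul, q_smul, huq, hyq, b_smul_left, b_smul_right, huy]; ring
  have hbw : ∀ x : ι → F, B u x = β → B y x = γ → B x w = 1 := fun x h1 h2 => by
    rw [hw, b_add_right, b_smul_right, b_smul_right, b_comm x u, b_comm x y, h1, h2, hlm]
  rw [← Nat.card_prod, ← Nat.card_prod, ← Nat.card_prod]
  refine Nat.card_congr
    { toFun := fun p =>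
        p.2.2.2.1 + p.2.2.1 • (⟨w, hwU⟩ : U) + p.1 • (⟨z₁, hz₁⟩ : U) + p.2.1 • (⟨z₂, hz₂⟩ : U)
      invFun := fun x =>
        (B u (x : ι → F) - β, B y (x : ι → F) - γ,
          Q ((x : ι → F) - (B u (x : ι → F) - β) • z₁ - (B y (x : ι → F) - γ) • z₂) - c,
          ⟨x - (B u (x : ι → F) - β) • (⟨z₁, hz₁⟩ : U) - (B y (x : ι → F) - γ) • (⟨z₂, hz₂⟩ : U) -
            (Q ((x : ι → F) - (B u (x : ι → F) - β) • z₁ - (B y (x : ι → F) - γ) • z₂) - c) •
              (⟨w, hwU⟩ : U), ?_, ?_, ?_⟩)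
      left_inv := ?_
      right_inv := ?_ }
  · simp only [Submodule.coe_sub, Submodule.coe_smul, b_sub_right, b_smul_right, h11, h12, huw]
    ring
  · simp only [Submodule.coe_sub, Submodule.coe_smul, b_sub_right, b_smul_right, h21, h22, hyw]
    ring
  · simp only [Submodule.coe_sub, Submodule.coe_smul]
    generalize ha : (x : ι → F) - (B u (x : ι → F) - β) • z₁ - (B y (x : ι → F) - γ) • z₂ = a
    have e1 : B u a = β := by
      rw [← ha, b_sub_right, b_sub_right, b_smul_right, b_smul_right, h11, h12]; ring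
    have e2 : B y a = γ := by
      rw [← ha, b_sub_right, b_sub_right, b_smul_right, b_smul_right, h21, h22]; ring
    rw [q_sub, q_smul, hwq, b_smul_right, hbw a e1 e2]
    ring
  · rintro ⟨r₁, r₂, t, x, hx1, hx2, hx3⟩
    have e1 : B u ((x : ι → F) + t • w + r₁ • z₁ + r₂ • z₂) - β = r₁ := by
      simp only [b_add_right, b_smul_right, h11, h12, huw, hx1]; ring
    have e2 : B y ((x : ι → F) + t • w + r₁ • z₁ + r₂ • z₂) - γ = r₂ := by
      simp only [b_add_right, b_smul_right, h21, h22, hyw, hx2]; ring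
    have e3 : (x : ι → F) + t • w + r₁ • z₁ + r₂ • z₂ - r₁ • z₁ - r₂ • z₂ = x + t • w := by abel
    have e4 : Q ((x : ι → F) + t • w) - c = t := by
      rw [q_add, q_smul, hwq, b_smul_right, hbw x hx1 hx2, hx3]; ring
    dsimp only
    simp only [Submodule.coe_add, Submodule.coe_smul, e1, e2, e3, e4]
    refine Prod.ext rfl (Prod.ext rfl (Prod.ext rfl (Subtype.ext ?_)))
    dsimp only
    abel
  · intro x
    dsimp only
    abel

variable [Fintype F]

open Classical in
theorem card_fiber_sum {α : Type*} [Fintype U] (p : U → Prop) [Fintype α] (h : U → α) :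
    Nat.card {x : U // p x} = ∑ a : α, Nat.card {x : U // h x = a ∧ p x} := by
  rw [← Nat.card_sigma]
  exact Nat.card_congr
    { toFun := fun x => ⟨h x.1, x.1, rfl, x.2⟩
      invFun := fun s => ⟨s.2.1, s.2.2.2⟩
      left_inv := fun x => rfl
      right_inv := fun ⟨a, x, e, hp⟩ => by subst e; rfl }

open Classical in
/-- The character sum of a level set at a singular vector. -/
theorem sum_psi [Fintype U] {s z : ι → F} (hs : s ∈ U) (hz : z ∈ U) (hsq : Q s = 0)
    (hsz : B s z = 1) (c : F) :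
    (q : ℂ) * ((Nat.card {x : U // Q (x : ι → F) = c} : ℂ) -
      ∑ x : {x : U // Q (x : ι → F) = c}, RankOne.psi F (B s ((x : U) : ι → F))) =
      (Nat.card U : ℂ) := by
  classical
  set N : F → ℕ := fun β => Nat.card {x : U // B s (x : ι → F) = β ∧ Q (x : ι → F) = c} with hN
  have hL : (Nat.card {x : U // Q (x : ι → F) = c} : ℂ) = ∑ β, (N β : ℂ) := by
    rw [card_fiber_sum U (fun x : U => Q (x : ι → F) = c) (fun x : U => B s (x : ι → F))]
    push_cast
    rfl
  have hS : ∑ x : {x : U // Q (x : ι → F) = c}, RankOne.psi F (B s ((x : U) : ι → F)) =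
      ∑ β, (N β : ℂ) * RankOne.psi F β := by
    rw [← Finset.sum_fiberwise Finset.univ fun x : {x : U // Q (x : ι → F) = c} =>
      B s ((x : U) : ι → F)]
    refine Finset.sum_congr rfl fun β _ => ?_
    rw [Finset.sum_congr rfl fun x hx => by rw [(Finset.mem_filter.mp hx).2], Finset.sum_const,
      nsmul_eq_mul]
    congr 2
    rw [hN, ← Fintype.card_subtype, ← Nat.card_eq_fintype_card]
    exact Nat.card_congr
      { toFun := fun x => ⟨x.1.1, x.2, x.1.2⟩
        invFun := fun x => ⟨⟨x.1, x.2.2⟩, x.2.1⟩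
        left_inv := fun x => rfl
        right_inv := fun x => rfl }
  have hval : ∀ β : F, β ≠ 0 → (q : ℂ) * N β = (q : ℂ)⁻¹ * Nat.card U := fun β hβ => by
    rw [eq_inv_mul_iff_mul_eq₀ (Nat.cast_ne_zero.mpr Nat.card_pos.ne')]
    exact_mod_cast card_one U hs hz hsq hsz hβ c
  have hkey : ∀ β : F, (q : ℂ) * (N β * (1 - RankOne.psi F β)) =
      (q : ℂ)⁻¹ * Nat.card U * (1 - RankOne.psi F β) := fun β => by
    by_cases hβ : β = 0
    · subst hβ; simp
    · rw [← mul_assoc, hval β hβ]
  have h1 := RankOne.psi_sum (1 : F)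
  simp only [one_mul, one_ne_zero, if_false] at h1
  rw [hL, hS, ← Finset.sum_sub_distrib, Finset.mul_sum,
    Finset.sum_congr rfl fun β _ => by rw [show (N β : ℂ) - N β * RankOne.psi F β =
      N β * (1 - RankOne.psi F β) by ring, hkey β],
    ← Finset.mul_sum, Finset.sum_sub_distrib, Finset.sum_const, Finset.card_univ, h1, sub_zero,
    nsmul_one, Nat.card_eq_fintype_card (α := F)]
  field_simp

/-- The vectors of a level set perpendicular to a totally singular pair. -/
theorem card_perp_pair [Fintype U] {u y z₁ z₂ : ι → F} (hu : u ∈ U) (hy : y ∈ U) (hz₁ : z₁ ∈ U)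
    (hz₂ : z₂ ∈ U) (huq : Q u = 0) (hyq : Q y = 0) (huy : B u y = 0)
    (h11 : B u z₁ = 1) (h12 : B u z₂ = 0) (h21 : B y z₁ = 0) (h22 : B y z₂ = 1) (c : F) :
    q * (q * (q * Nat.card {x : U // Q (x : ι → F) = c})) + Nat.card U =
      q * (q * (q * Nat.card {x : U //
        B u (x : ι → F) = 0 ∧ B y (x : ι → F) = 0 ∧ Q (x : ι → F) = c})) + q * q * Nat.card U := by
  classical
  set M : F × F → ℕ := fun p => Nat.card {x : U //
    B u (x : ι → F) = p.1 ∧ B y (x : ι → F) = p.2 ∧ Q (x : ι → F) = c} with hM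
  have hL : Nat.card {x : U // Q (x : ι → F) = c} = ∑ p, M p := by
    rw [card_fiber_sum U (fun x : U => Q (x : ι → F) = c)
      (fun x : U => (B u (x : ι → F), B y (x : ι → F)))]
    refine Finset.sum_congr rfl fun p _ => Nat.card_congr (Equiv.subtypeEquivRight fun x => ?_)
    rw [Prod.ext_iff, and_assoc]
  have hsum : ∑ p ∈ Finset.univ.erase (0 : F × F), q * (q * (q * M p)) =
      (q * q - 1) * Nat.card U := by
    rw [Finset.sum_congr rfl fun p hp => card_pair U hu hy hz₁ hz₂ huq hyq huy h11 h12 h21 h22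
        (fun e => Finset.ne_of_mem_erase hp (Prod.ext e.1 e.2)) c,
      Finset.sum_const, Finset.card_erase_of_mem (Finset.mem_univ _), Finset.card_univ, smul_eq_mul,
      Fintype.card_prod, Nat.card_eq_fintype_card (α := F)]
  rw [hL, Finset.mul_sum, Finset.mul_sum, Finset.mul_sum,
    ← Finset.add_sum_erase _ _ (Finset.mem_univ (0 : F × F)), hsum, add_assoc, ← Nat.succ_mul,
    Nat.succ_eq_add_one,
    Nat.sub_add_cancel (Nat.one_le_iff_ne_zero.mpr (mul_ne_zero Nat.card_pos.ne' Nat.card_pos.ne'))]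
  rfl

end CfsgLib.OrthMinDegree
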