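import Cfsg.Agent.Lib.OrthMinDegree.Levi
import Cfsg.Agent.Lib.OrthMinDegree.Count
import Cfsg.Agent.Lib.Char.Kernel
import Cfsg.Agent.Lib.Classical.OrthStab

/-!
A character of small degree has one weight orbit of multiplicity one on the radical of a point
stabilizer, and its fixed vectors carry a non-trivial character of the smaller group.
-/

set_option autoImplicit false
set_option linter.unusedSectionVars false

namespace CfsgLib.OrthMinDegree

open CfsgLib.Orth CfsgLib.MinIndexOrth Cfsg CfsgLib.Char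

variable {F : Type*} [Field F] [Fintype F] {ι : Type} [Fintype ι] [DecidableEq ι]
variable {Q : QuadraticForm F (ι → F)}

local notation "B" => QuadraticMap.polar (DFunLike.coe Q)

/-- The non-zero vectors of the complement with a given value. -/
noncomputable def levN (P : HP Q) (a : F) : ℕ :=
  Nat.card {w : P.W // w ≠ 0 ∧ Q (w : ι → F) = a}

/-- The condition under which long root elements in the stabilizer of a weight are commutators. -/
def Room (P : HP Q) (w : P.W) : Prop :=
  4 ≤ Fintype.card F ∨ 7 ≤ Module.finrank F P.W ∨ ((Q (w : ι → F) = 0 ∨ (2 : F) ≠ 0) ∧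
    ∀ S : Submodule F (ι → F), S ≤ P.W → (∀ x ∈ S, Q x = 0) → Module.finrank F S ≤ 2)

/-- Every non-constant character of the fixer has at least a given degree. -/
def FixBound (P : HP Q) (b : ℕ) : Prop :=
  ∀ φ : fixP P → ℂ, IsCharacter (fixP P) φ → ∀ k : ℕ, φ 1 = k → k < b → ∀ g, φ g = φ 1

theorem char_commutator {G : Type*} [Group G] {φ : G → ℂ} (hφ : IsCharacter G φ) (h1 : φ 1 = 1)
    (a b : G) : φ (a * b * a⁻¹ * b⁻¹) = 1 := by
  obtain ⟨n, ρ, rfl⟩ := hφ
  obtain rfl : n = 1 := by
    rw [Representation.char_one, Module.finrank_fin_fun] at h1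
    exact_mod_cast h1
  have hc : ∀ f g : Module.End ℂ (Fin 1 → ℂ), f * g = g * f := fun f g => by
    have key : ∀ (f : Module.End ℂ (Fin 1 → ℂ)) (v : Fin 1 → ℂ), f v = (f (fun _ => 1) 0) • v := by
      intro f v
      conv_lhs => rw [show v = v 0 • (fun _ => (1 : ℂ)) by
        funext i; simp [Subsingleton.elim i 0]]
      funext i
      rw [Subsingleton.elim i 0, map_smul]
      simp [mul_comm]
    refine LinearMap.ext fun v => ?_
    rw [Module.End.mul_apply, Module.End.mul_apply, key f, key g v, key g (f v), key f v]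
    simp [smul_smul, mul_comm]
  rw [show ρ.character (a * b * a⁻¹ * b⁻¹) = ρ.character 1 from ?_, h1]
  show LinearMap.trace ℂ _ (ρ (a * b * a⁻¹ * b⁻¹)) = LinearMap.trace ℂ _ (ρ 1)
  congr 1
  rw [map_mul, map_mul, map_mul, hc (ρ a) (ρ b), mul_assoc (ρ b), ← map_mul ρ a a⁻¹,
    mul_inv_cancel, map_one, mul_one, ← map_mul, mul_inv_cancel, map_one]

variable (hb : Big Q) (P : HP Q)

theorem eq_one_of_root {d : ℕ} (hd : Module.finrank F P.W = d) (hd4 : 4 ≤ d) {χ : OG Q → ℂ}
    (hχ : IsIrrCharacter (OG Q) χ) {x : P.W} (hx : x ≠ 0) (hxq : Q (x : ι → F) = 0)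
    (h : χ (root hb P x) = χ 1) : χ = fun _ => 1 := by
  classical
  have hc := isCharacter_of_isIrr hχ
  obtain ⟨K, -, hK, -⟩ := exists_kernel hc
  have hall : ∀ g : OG Q, g ∈ K := by
    suffices hle : Cfsg.Omega F ⇑Q ≤ K.map (Cfsg.Omega F ⇑Q).subtype by
      intro g
      obtain ⟨g', hg', e⟩ := hle g.2
      rwa [Subtype.ext e] at hg'
    refine (le_of_eq (omega_eq_El hb.nondeg hb.dim)).trans ?_
    refine (Subgroup.closure_le _).2 ?_
    rintro g ⟨u, v, hg⟩
    refine (Subgroup.closure_le _).2 ?_ (siegel_mem_closure_singular hb.nondeg hb.dim hg)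
    rintro k ⟨z, hz, hk⟩
    refine ⟨⟨k, mem_omega_siegel hb hk⟩, ?_, rfl⟩
    rw [SetLike.mem_coe, hK]
    by_cases hu0 : u = 0
    · subst hu0
      rw [show (⟨k, mem_omega_siegel hb hk⟩ : OG Q) = 1 from Subtype.ext (siegel_zero_eq_one hk)]
    by_cases hzu : z ∈ Submodule.span F {u}
    · obtain ⟨t, rfl⟩ := Submodule.mem_span_singleton.1 hzu
      have h1 := siegel_add_self hk (-t)
      rw [neg_smul, add_neg_cancel] at h1
      rw [show (⟨k, mem_omega_siegel hb hk⟩ : OG Q) = 1 from
        Subtype.ext (siegel_unique h1 (siegel_one hk.1))]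
    · rw [← h]
      exact Char.eq_of_isConj (isClassFunction_of_isCharacter hc)
        (root_conj hb P hd hd4 hu0 hz hzu (g := ⟨k, mem_omega_siegel hb hk⟩) hk hx hxq)
  have hconst : ∀ g, χ g = χ 1 := fun g => (hK g).1 (hall g)
  have hinner : classInner χ (fun _ => 1) ≠ 0 := by
    rw [classInner]
    simp only [hconst, map_one, mul_one, Finset.sum_const, Finset.card_univ, nsmul_eq_mul,
      ← Nat.card_eq_fintype_card]
    rw [inv_mul_cancel_left₀ (Nat.cast_ne_zero.mpr Nat.card_pos.ne')]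
    exact irr_degree_ne_zero hχ
  exact RankOne.eq_of_inner_ne_zero hχ isIrrCharacter_one hinner

include hb in
/-- Totally singular pairs with partners in the complement. -/
theorem exists_plane {d : ℕ} (hd : Module.finrank F P.W = d) (hd5 : 5 ≤ d) :
    ∃ u y z₁ z₂ : ι → F, u ∈ P.W ∧ y ∈ P.W ∧ z₁ ∈ P.W ∧ z₂ ∈ P.W ∧ Q u = 0 ∧ Q y = 0 ∧
      B u y = 0 ∧ B u z₁ = 1 ∧ B u z₂ = 0 ∧ B y z₁ = 0 ∧ B y z₂ = 1 := by
  obtain ⟨u, f, hu, hf, -, huq, hfq, huf⟩ :=
    exists_pair_in hb.nondeg (P.nondeg hb.nondeg) (P := ⊥) bot_le (by rw [finrank_bot]; omega)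
  have hP : Submodule.span F ({u, f} : Set (ι → F)) ≤ P.W := by
    rw [Submodule.span_le]
    intro a ha
    simp only [Set.mem_insert_iff, Set.mem_singleton_iff] at ha
    rcases ha with rfl | rfl
    exacts [hu.1, hf.1]
  have hspan : Module.finrank F (Submodule.span F ({u, f} : Set (ι → F))) ≤ 2 := by
    classical
    refine le_trans (finrank_span_le_card (R := F) ({u, f} : Set (ι → F))) ?_
    simp only [Set.toFinset_insert, Set.toFinset_singleton]
    exact Finset.card_le_two
  have h1 := finrank_relOrth hb.nondeg P.W (Submodule.span F ({u, f} : Set (ι → F)))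
  obtain ⟨y, hy, hy0, hyq⟩ := exists_singular (Q := Q)
    (U := relOrth Q P.W (Submodule.span F ({u, f} : Set (ι → F)))) (by omega)
  have huy : B u y = 0 := hy.2 u (Submodule.subset_span (by simp))
  have hfy : B f y = 0 := hy.2 f (Submodule.subset_span (by simp))
  obtain ⟨z, hz, -, hyz⟩ := exists_partner_in hb.nondeg (P.nondeg hb.nondeg) hP hy (fun h => by
    obtain ⟨s, t, rfl⟩ := Submodule.mem_span_pair.1 h
    simp only [b_add_right, b_smul_right, b_self_zero huq, b_self_zero hfq, huf, b_comm f u] at huy hfy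
    rw [show t = 0 by linear_combination huy, show s = 0 by linear_combination hfy, zero_smul,
      zero_smul, add_zero] at hy0
    exact hy0 rfl) hyq
  exact ⟨u, y, f, z, hu.1, hy.1, hf.1, hz.1, huq, hyq, huy, huf,
    hz.2 u (Submodule.subset_span (by simp)), by rw [b_comm]; exact hfy, hyz⟩

theorem sum_indicator [DecidableEq F] (a : F) (h : P.W → ℂ) :
    ∑ w : P.W, (if Q (w : ι → F) = a then h w else 0) =
      ∑ w : {w : P.W // Q (w : ι → F) = a}, h w.1 := by
  rw [← Finset.sum_filter]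
  exact Finset.sum_subtype _ (fun w => by simp) h

include hb in
/-- The alternative for an irreducible character. -/
theorem step {d : ℕ} (hd : Module.finrank F P.W = d) (hd6 : 6 ≤ d) {K b : ℕ}
    (hlow : ∀ a : F, K ≤ 2 * levN P a) (hroom : ∀ w : P.W, w ≠ 0 →
      levN P (Q (w : ι → F)) < K → Room P w) (hfix : FixBound P b)
    {χ : OG Q → ℂ} (hχ : IsIrrCharacter (OG Q) χ) (h1 : χ ≠ fun _ => 1) {k : ℕ} (hk : χ 1 = k)
    (hkK : k < K) :
    ∃ a : F, levN P a + b ≤ k ∧ (∀ c : F, c ≠ 0 → c * c * a = a) ∧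
      ∀ x : P.W, x ≠ 0 → Q (x : ι → F) = 0 →
        (Fintype.card F : ℂ) * χ (root hb P x) = (Fintype.card F : ℂ) * k - (Fintype.card F : ℂ) ^ d := by
  classical
  have hc := isCharacter_of_isIrr hχ
  have hcl := isClassFunction_of_isCharacter hc
  choose m hm using fun w => exists_nat_coef hb P hc w
  have hW : Nat.card P.W = Nat.card F ^ d := by rw [← hd]; exact card_subspace P.W
  -- the degree is the sum of the multiplicities
  have hdeg : k = ∑ w : P.W, m w := by
    have := sum_coef hb P χ 1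
    simp only [hm, hk] at this
    exact_mod_cast this.symm
  obtain ⟨u, y, z₁, z₂, huW, hyW, hz₁, hz₂, huq, hyq, huy, h11, h12, h21, h22⟩ :=
    exists_plane hb P hd (by omega)
  have hy0 : y ≠ 0 := fun e => one_ne_zero (α := F) (by rw [← h22, e, b_zero_left])
  have hu0 : u ≠ 0 := fun e => one_ne_zero (α := F) (by rw [← h11, e, b_zero_left])
  -- some weight is non-zero
  obtain ⟨w₀, hw₀, hmw₀⟩ : ∃ w : P.W, w ≠ 0 ∧ m w ≠ 0 := by
    by_contra hcon
    push Not at hcon
    refine h1 (eq_one_of_root hb P hd (by omega) hχ (x := ⟨y, hyW⟩)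
      (fun e => hy0 (congrArg Subtype.val e)) hyq ?_)
    rw [chi_root hb P χ, ← sum_coef hb P χ 1]
    refine Finset.sum_congr rfl fun w _ => ?_
    by_cases hw : w = 0
    · subst hw
      simp [wch_apply, b_zero_left]
    · simp [hm, hcon w hw]
  obtain ⟨a, ha⟩ : ∃ a, a = Q (w₀ : ι → F) := ⟨_, rfl⟩
  -- the multiplicity is constant on a level
  have hconst : ∀ w w' : P.W, w ≠ 0 → w' ≠ 0 → Q (w : ι → F) = Q (w' : ι → F) → m w' = m w := by
    intro w w' hw hw' he
    obtain ⟨g, hg⟩ := move_level hb P hd (by omega) w.2 w'.2 (fun e => hw (Subtype.ext e))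
      (fun e => hw' (Subtype.ext e)) he
    have := coef_move hb P hcl one_ne_zero one_ne_zero (g := (g : OG Q))
      (by rw [one_smul]; exact g.2.1) (by rw [one_smul]; exact g.2.2) w
    simp only [inv_one, one_smul, hg, Subtype.coe_eta, hm] at this
    exact_mod_cast this
  -- counting
  have hsub : ∀ (e : F) (c : ℕ), (∀ w : P.W, w ≠ 0 → Q (w : ι → F) = e → c ≤ m w) →
      levN P e * c ≤ ∑ w ∈ Finset.univ.filter (fun w : P.W => w ≠ 0 ∧ Q (w : ι → F) = e), m w := by
    intro e c he
    rw [levN, Nat.card_eq_fintype_card, Fintype.card_subtype, ← smul_eq_mul]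
    exact Finset.card_nsmul_le_sum _ _ _ fun w hw => he w (Finset.mem_filter.1 hw).2.1
      (Finset.mem_filter.1 hw).2.2
  have hma : ∀ w : P.W, w ≠ 0 → Q (w : ι → F) = a → m w = 1 := by
    intro w hw he
    have h2 := hconst w₀ w hw₀ hw (by rw [← ha, he])
    by_contra hne
    have h3 := hsub a 2 fun v hv hv' => by
      rw [hconst w₀ v hw₀ hv (by rw [← ha, hv'])]; omega
    have h4 : _ ≤ ∑ v : P.W, m v := Finset.sum_le_sum_of_subset (Finset.subset_univ
      (Finset.univ.filter (fun v : P.W => v ≠ 0 ∧ Q (v : ι → F) = a)))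
    have := hlow a
    omega
  have honly : ∀ w : P.W, w ≠ 0 → Q (w : ι → F) ≠ a → m w = 0 := by
    intro w hw hne
    by_contra hmw
    obtain ⟨a', ha'⟩ : ∃ a', a' = Q (w : ι → F) := ⟨_, rfl⟩
    have h3 := hsub a' 1 fun v hv hv' => by
      rw [hconst w v hw hv (by rw [← ha', hv'])]; omega
    have h4 := hsub a 1 fun v hv hv' => by rw [hma v hv hv']
    have h5 : (∑ v ∈ Finset.univ.filter (fun v : P.W => v ≠ 0 ∧ Q (v : ι → F) = a'), m v) +
        ∑ v ∈ Finset.univ.filter (fun v : P.W => v ≠ 0 ∧ Q (v : ι → F) = a), m v ≤ ∑ v : P.W, m v := by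
      rw [← Finset.sum_union (Finset.disjoint_filter.2 fun v _ h h' => hne (by
        rw [← ha', ← h.2, h'.2]))]
      exact Finset.sum_le_sum_of_subset (Finset.subset_univ _)
    have := hlow a
    have := hlow a'
    omega
  -- a scaled level is the same level
  have hscale : ∀ c : F, c ≠ 0 → c * c * a = a := by
    intro c hc0
    obtain ⟨g, hgv, hgf⟩ := exists_scale hb P (by omega) (inv_ne_zero hc0)
    by_contra hne
    have h2 := coef_move hb P hcl (inv_ne_zero hc0) (inv_ne_zero (inv_ne_zero hc0)) hgv hgf w₀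
    generalize hw' : (c⁻¹⁻¹ • (⟨ap (g : Grp Q) (w₀ : ι → F), _⟩ : P.W)) = w' at h2
    have hq' : Q (w' : ι → F) = c * c * a := by
      rw [← hw', Submodule.coe_smul, q_smul, ap_q, inv_inv, ha]
    have hw'0 : w' ≠ 0 := by
      rw [← hw']
      exact smul_ne_zero (inv_ne_zero (inv_ne_zero hc0))
        (fun e => hw₀ (Subtype.ext (ap_inj _ ((congrArg Subtype.val e).trans (ap_zero _).symm))))
    rw [hm, hm, hma w₀ hw₀ ha.symm, honly w' hw'0 (by rw [hq']; exact hne)] at h2
    simp at h2
  have hmval : ∀ w : P.W, (m w : ℂ) = (if Q (w : ι → F) = a then 1 else 0) +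
      (if w = 0 then ((m 0 : ℂ) - if (0 : F) = a then 1 else 0) else 0) := by
    intro w
    by_cases hw : w = 0
    · subst hw
      simp
    · rw [if_neg hw, add_zero]
      split_ifs with h
      · rw [hma w hw h, Nat.cast_one]
      · rw [honly w hw h, Nat.cast_zero]
  set ε : ℂ := (m 0 : ℂ) - if (0 : F) = a then 1 else 0
  have hL : (k : ℂ) = (Nat.card {w : P.W // Q (w : ι → F) = a} : ℂ) + ε := by
    rw [hdeg]
    push_cast
    simp only [hmval]
    rw [Finset.sum_add_distrib, sum_indicator, Finset.sum_ite_eq', if_pos (Finset.mem_univ _),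
      Finset.sum_const, Finset.card_univ, nsmul_one, Nat.card_eq_fintype_card]
  have hroot : ∀ x : P.W, x ≠ 0 → Q (x : ι → F) = 0 →
      (Fintype.card F : ℂ) * χ (root hb P x) =
        (Fintype.card F : ℂ) * k - (Fintype.card F : ℂ) ^ d := by
    intro x hx hxq
    obtain ⟨z, hz⟩ := exists_b_ne hb P hx
    obtain ⟨z', hz'W, hxz⟩ : ∃ z' ∈ P.W, B (x : ι → F) z' = 1 :=
      ⟨(B (x : ι → F) (z : ι → F))⁻¹ • (z : ι → F), P.W.smul_mem _ z.2,
        by rw [b_smul_right, inv_mul_cancel₀ hz]⟩
    have hS := sum_psi P.W x.2 hz'W hxq hxz a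
    rw [hW, Nat.card_eq_fintype_card (α := F), Nat.cast_pow] at hS
    rw [chi_root hb P χ, hL]
    simp only [hm, hmval, add_mul, ite_mul, one_mul, zero_mul]
    rw [Finset.sum_add_distrib, sum_indicator, Finset.sum_ite_eq', if_pos (Finset.mem_univ _),
      wch_apply, show ((0 : P.W) : ι → F) = 0 from rfl, b_zero_left, AddChar.map_zero_eq_one,
      Finset.sum_congr rfl (fun (w : {w : P.W // Q (w : ι → F) = a}) _ => by
        rw [wch_apply, b_comm]), ← hS]
    ring
  refine ⟨a, ?_, hscale, hroot⟩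
  -- the fixed vectors
  have hsig : IsCharacter (fixP P) (fun g => coef hb P χ 0 (g : OG Q)) :=
    isCharacter_comp (⟨⟨fun g => ⟨g, ap_zero _⟩, rfl⟩, fun _ _ => rfl⟩ : fixP P →* wstab P 0)
      (isCharacter_coef hb P hc 0)
  have hka : levN P a + m 0 ≤ k := by
    have h4 := hsub a 1 fun v hv hv' => by rw [hma v hv hv']
    rw [hdeg, ← Finset.add_sum_erase _ _ (Finset.mem_univ (0 : P.W)), add_comm (levN P a)]
    refine Nat.add_le_add_left (((mul_one (levN P a)).ge.trans h4).trans
      (Finset.sum_le_sum_of_subset fun v hv => ?_)) _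
    exact Finset.mem_erase.2 ⟨(Finset.mem_filter.1 hv).2.1, Finset.mem_univ _⟩
  by_contra hlt
  have hm0 : m 0 < b := by omega
  have htriv := hfix _ hsig (m 0) (hm 0) hm0
  obtain ⟨g, hg⟩ := exists_root hb huq huy
  have hgfix : g ∈ fixP P := ⟨siegel_fix hg (P.mem_W.1 huW).1 (P.mem_W.1 hyW).1,
    siegel_fix hg (P.mem_W.1 huW).2 (P.mem_W.1 hyW).2⟩
  have hyu : y ∉ Submodule.span F {u} := fun h => by
    obtain ⟨t, rfl⟩ := Submodule.mem_span_singleton.1 h
    rw [b_smul_left, h11] at h21
    rw [show t = 0 by simpa using h21, zero_smul] at hy0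
    exact hy0 rfl
  have hfixed : ∀ w : P.W, (⟨g, hgfix⟩ : fixP P) ∈ wstab P w ↔
      B u (w : ι → F) = 0 ∧ B y (w : ι → F) = 0 := by
    intro w
    constructor
    · intro h
      have h' : ap (g : Grp Q) (w : ι → F) = w := h
      rw [hg.2.2, hyq, zero_mul, zero_smul, sub_zero, add_sub_assoc, add_eq_left] at h'
      have e1 := congrArg (B z₂) h'
      have e2 := congrArg (B z₁) h'
      simp only [b_sub_right, b_smul_right, b_zero_right, b_comm z₂ y, h22, b_comm z₂ u, h12,
        b_comm z₁ y, h21, b_comm z₁ u, h11] at e1 e2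
      exact ⟨by rw [b_comm]; linear_combination e1, by rw [b_comm]; linear_combination -e2⟩
    · intro h
      exact siegel_fix hg (by rw [b_comm]; exact h.1) (by rw [b_comm]; exact h.2)
  have hcoef : ∀ w : P.W, w ≠ 0 → coef hb P χ w g =
      if Q (w : ι → F) = a ∧ B u (w : ι → F) = 0 ∧ B y (w : ι → F) = 0 then 1 else 0 := by
    intro w hw
    by_cases hs : (⟨g, hgfix⟩ : fixP P) ∈ wstab P w
    · obtain ⟨hsu, hsy⟩ := (hfixed w).1 hs
      simp only [hsu, hsy, and_true]
      have hch := isCharacter_coef hb P hc w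
      by_cases hqa : Q (w : ι → F) = a
      · rw [if_pos hqa]
        have hlt' : levN P (Q (w : ι → F)) < K := by
          rw [hqa]; omega
        obtain ⟨p, r, hpr⟩ := mem_commutator_wstab hb P hd hd6 huW hyW hu0 hyq hyu
          (g := ⟨g, hgfix⟩) hg w (by rw [b_comm]; exact hsu) (by rw [b_comm]; exact hsy)
          (hd ▸ hroom w hw hlt')
        have h3 := char_commutator hch (by
          show coef hb P χ w 1 = 1
          rw [hm, hma w hw hqa, Nat.cast_one]) p r
        simp only [hpr] at h3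
        exact h3
      · rw [if_neg hqa]
        obtain ⟨n, ρ, hρ⟩ := hch
        have h0 := congrFun hρ 1
        rw [Representation.char_one, Module.finrank_fin_fun] at h0
        have h00 : coef hb P χ w 1 = 0 := by rw [hm, honly w hw hqa, Nat.cast_zero]
        obtain rfl : n = 0 := by exact_mod_cast h0.trans h00
        have h2 := congrFun hρ (⟨⟨g, hgfix⟩, hs⟩ : wstab P w)
        rw [← h2]
        show LinearMap.trace ℂ _ (ρ _) = 0
        rw [Subsingleton.elim (ρ _) 0, map_zero]
    · rw [show coef hb P χ w g = 0 from coef_eq_zero hb P hcl ⟨g, hgfix⟩ hs,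
        if_neg fun h => hs ((hfixed w).2 h.2)]
  have hval : χ g = ε + (Nat.card {w : P.W // B u (w : ι → F) = 0 ∧ B y (w : ι → F) = 0 ∧
      Q (w : ι → F) = a} : ℂ) := by
    rw [← sum_coef hb P χ g, ← Finset.add_sum_erase _ _ (Finset.mem_univ (0 : P.W)),
      show coef hb P χ 0 g = (m 0 : ℂ) by rw [← hm]; exact htriv ⟨g, hgfix⟩,
      Finset.sum_congr rfl fun w hw => hcoef w (Finset.ne_of_mem_erase hw),
      Finset.sum_erase_eq_sub (Finset.mem_univ _)]
    simp only [Finset.sum_boole, Submodule.coe_zero, QuadraticMap.map_zero, b_zero_right, and_true]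
    rw [Nat.card_eq_fintype_card, Fintype.card_subtype,
      show Finset.univ.filter (fun w : P.W => Q (w : ι → F) = a ∧ B u (w : ι → F) = 0 ∧
        B y (w : ι → F) = 0) = Finset.univ.filter (fun w : P.W => B u (w : ι → F) = 0 ∧
        B y (w : ι → F) = 0 ∧ Q (w : ι → F) = a) from Finset.filter_congr fun w _ => by
          constructor <;> intro h <;> exact ⟨by tauto, by tauto, by tauto⟩]
    ring
  have hval2 : χ g = χ (root hb P ⟨y, hyW⟩) := Char.eq_of_isConj hcl
    (root_conj hb P hd (by omega) hu0 hyq hyu hg (fun e => hy0 (congrArg Subtype.val e)) hyq)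
  have h6 := hroot ⟨y, hyW⟩ (fun e => hy0 (congrArg Subtype.val e)) hyq
  rw [← hval2, hval, hL] at h6
  have h7 := card_perp_pair P.W huW hyW hz₁ hz₂ huq hyq huy h11 h12 h21 h22 a
  rw [hW, Nat.card_eq_fintype_card (α := F)] at h7
  have h8 := congrArg (fun n : ℕ => (n : ℂ)) h7
  push_cast at h8
  have h9 : (Fintype.card F : ℂ) ^ d = 0 := by
    linear_combination h8 + ((Fintype.card F : ℂ) * (Fintype.card F : ℂ)) * h6
  exact pow_ne_zero _ (Nat.cast_ne_zero.mpr Fintype.card_ne_zero) h9

end CfsgLib.OrthMinDegree
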