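import Cfsg.Agent.Lib.OrthMinDegree.RootClass
import Cfsg.Agent.Lib.OrthMinDegree.Step
import Cfsg.Agent.Lib.Classical.OrthFix
import Cfsg.Agent.Lib.Char.Orth

/-!
Passing from the form on the complement of a hyperbolic pair to the whole space.
-/

set_option autoImplicit false
set_option linter.unusedSectionVars false

namespace CfsgLib.OrthMinDegree

open CfsgLib.Orth CfsgLib.MinIndexOrth Cfsg CfsgLib.Char

variable {F : Type*} [Field F] [Fintype F] {ι κ : Type} [Fintype ι] [DecidableEq ι] [Fintype κ]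
  [DecidableEq κ]
variable {Q : QuadraticForm F (ι → F)}

local notation "B" => QuadraticMap.polar (DFunLike.coe Q)

/-- Non-trivial irreducible characters have degree at least `b`. -/
def MinB (Q : QuadraticForm F (ι → F)) (b : ℕ) : Prop :=
  ∀ χ : OG Q → ℂ, IsIrrCharacter (OG Q) χ → χ ≠ (fun _ => 1) → ∀ k : ℕ, χ 1 = k → b ≤ k

theorem fixBound_of_minB (hb : Big Q) (P : HP Q) {Q' : QuadraticForm F (κ → F)} (hB' : Nondeg Q')
    (hκ : 5 ≤ Module.finrank F (κ → F)) {e : (κ → F) →ₗ[F] ι → F} (he : Function.Injective e)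
    (hQ : Q.comp e = Q') (hW : LinearMap.range e = P.W) {b : ℕ} (h : MinB Q' b) : FixBound P b := by
  classical
  subst hQ
  obtain ⟨f, -, -, hrange⟩ := exists_omega_extend hb.nondeg hb.dim
    (by rw [hW]; exact P.nondeg hb.nondeg) he hB' hκ
  have hmem : ∀ g : OG (Q.comp e), f g ∈ fixP P := fun g => by
    have h1 := (hrange (f g)).1 ⟨g, rfl⟩
    rw [hW] at h1
    refine ⟨h1 _ fun w hw => ?_, h1 _ fun w hw => ?_⟩
    · show B w P.v = 0
      rw [b_comm]; exact (P.mem_W.1 hw).1
    · show B w P.f = 0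
      rw [b_comm]; exact (P.mem_W.1 hw).2
  intro φ hφ k hk hkb g
  obtain ⟨g', hg'⟩ : (g : OG Q) ∈ f.range := by
    refine (hrange _).2 fun x hx => ?_
    rw [hW] at hx
    have h1 : x ∈ Submodule.span F ({P.v, P.f} : Set (ι → F)) := by
      rw [HP.W, orth_orth hb.nondeg] at hx
      exact hx
    obtain ⟨s, t, rfl⟩ := Submodule.mem_span_pair.1 h1
    rw [ap_add, ap_smul, ap_smul, g.2.1, g.2.2]
  have hφ' := isCharacter_comp (f.codRestrict (fixP P) hmem) hφ
  obtain ⟨m, hm⟩ := exists_multiplicities hφ'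
  choose n hn using fun ψ : IrrCharacter (OG (Q.comp e)) =>
    exists_nat_degree (G := OG (Q.comp e)) (isCharacter_of_isIrr ψ.2)
  have hzero : ∀ ψ : IrrCharacter (OG (Q.comp e)), (ψ : OG (Q.comp e) → ℂ) ≠ (fun _ => 1) → m ψ = 0 := by
    intro ψ hψ
    by_contra hne
    have h1 := h ψ ψ.2 hψ (n ψ) (hn ψ)
    have h2 : k = ∑ ξ, m ξ * n ξ := by
      apply Nat.cast_injective (R := ℂ)
      have h3 := congrFun hm 1
      simp only [map_one, Finset.sum_apply, Pi.smul_apply, smul_eq_mul, hn, hk] at h3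
      push_cast
      exact h3
    have h3 : m ψ * n ψ ≤ k := h2 ▸ Finset.single_le_sum (f := fun ξ => m ξ * n ξ)
      (fun _ _ => Nat.zero_le _) (Finset.mem_univ ψ)
    have h4 : n ψ ≤ m ψ * n ψ := Nat.le_mul_of_pos_left _ (Nat.pos_of_ne_zero hne)
    omega
  have hconst : ∀ x, φ ((f.codRestrict (fixP P) hmem) x) = φ ((f.codRestrict (fixP P) hmem) 1) := by
    intro x
    have h1 := congrFun hm x
    have h2 := congrFun hm 1
    simp only [Finset.sum_apply, Pi.smul_apply, smul_eq_mul] at h1 h2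
    rw [h1, h2]
    refine Finset.sum_congr rfl fun ψ _ => ?_
    by_cases hψ : (ψ : OG (Q.comp e) → ℂ) = fun _ => 1
    · simp only [hψ]
    · rw [hzero ψ hψ, Nat.cast_zero, zero_mul, zero_mul]
  have h1 := hconst g'
  rwa [map_one, show f.codRestrict (fixP P) hmem g' = g from Subtype.ext hg'] at h1

/-- The level sets of the complement, in the coordinates of a parametrisation. -/
theorem levN_eq_pull (P : HP Q) {Q' : QuadraticForm F (κ → F)} {e : (κ → F) →ₗ[F] ι → F}
    (he : Function.Injective e) (hQ : Q.comp e = Q') (hW : LinearMap.range e = P.W) (a : F) :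
    levN P a = Nat.card {y : κ → F // y ≠ 0 ∧ Q' y = a} := by
  subst hQ
  refine (Nat.card_congr (Equiv.subtypeEquiv
    ((LinearEquiv.ofInjective e he).trans (LinearEquiv.ofEq _ _ hW)).toEquiv fun y => ?_)).symm
  refine and_congr (not_congr ?_) Iff.rfl
  exact ((LinearEquiv.ofInjective e he).trans (LinearEquiv.ofEq _ _ hW)).map_eq_zero_iff.symm

theorem levN_eq_lev (P : HP Q) {a : F} (ha : a ≠ 0) : levN P a = lev Q P.W a :=
  Nat.card_congr (Equiv.subtypeEquivRight fun w => and_iff_right_of_imp fun h e => ha (by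
    rw [← h, e, Submodule.coe_zero, QuadraticMap.map_zero]))

theorem dim_le (P : HP Q) (hb : Big Q) : Module.finrank F P.W + 2 = Module.finrank F (ι → F) := by
  have := P.finrank_W hb.nondeg
  omega

end CfsgLib.OrthMinDegree
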