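import Cfsg.Agent.Lib.OrthMinDegree.Step
import Cfsg.Agent.Lib.OrthMinDegree.Induct
import Cfsg.Agent.Lib.MinIndexOrth.Minus
import Cfsg.Agent.Lib.MinIndexOrth.LevelsSmall

/-!
The bound from the weights alone.
-/

set_option autoImplicit false
set_option linter.unusedSectionVars false

namespace CfsgLib.OrthMinDegree

open CfsgLib.Orth CfsgLib.MinIndexOrth Cfsg CfsgLib.Char

variable {F : Type*} [Field F] [Fintype F] {ι : Type} [Fintype ι] [DecidableEq ι]
variable {Q : QuadraticForm F (ι → F)}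

local notation "B" => QuadraticMap.polar (DFunLike.coe Q)

variable (hb : Big Q) (P : HP Q)

include hb in
theorem weight_bound {d : ℕ} (hd : Module.finrank F P.W = d) (hd4 : 4 ≤ d) {χ : OG Q → ℂ}
    (hχ : IsIrrCharacter (OG Q) χ) (h1 : χ ≠ fun _ => 1) {k : ℕ} (hk : χ 1 = k) :
    ∃ a : F, levN P a ≤ k ∧
      ∀ c : F, c ≠ 0 → c * c * a ≠ a → levN P a + levN P (c * c * a) ≤ k := by
  classical
  have hc := isCharacter_of_isIrr hχ
  have hcl := isClassFunction_of_isCharacter hc
  choose m hm using fun w => exists_nat_coef hb P hc w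
  have hdeg : k = ∑ w : P.W, m w := by
    have := sum_coef hb P χ 1
    simp only [hm, hk] at this
    exact_mod_cast this.symm
  obtain ⟨s, hs, hs0, hsq⟩ := exists_singular (Q := Q) (U := P.W) (by omega)
  obtain ⟨w₀, hw₀, hmw₀⟩ : ∃ w : P.W, w ≠ 0 ∧ m w ≠ 0 := by
    by_contra hcon
    push Not at hcon
    refine h1 (eq_one_of_root hb P hd hd4 hχ (x := ⟨s, hs⟩)
      (fun e => hs0 (congrArg Subtype.val e)) hsq ?_)
    rw [chi_root hb P χ, ← sum_coef hb P χ 1]
    refine Finset.sum_congr rfl fun w _ => ?_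
    by_cases hw : w = 0
    · subst hw
      simp [wch_apply, b_zero_left]
    · simp [hm, hcon w hw]
  have hlevel : ∀ w : P.W, w ≠ 0 → m w ≠ 0 → ∀ w' : P.W, w' ≠ 0 →
      Q (w' : ι → F) = Q (w : ι → F) → 1 ≤ m w' := by
    intro w hw hmw w' hw' he
    obtain ⟨g, hg⟩ := move_level hb P hd hd4 w.2 w'.2 (fun e => hw (Subtype.ext e))
      (fun e => hw' (Subtype.ext e)) he.symm
    have := coef_move hb P hcl one_ne_zero one_ne_zero (g := (g : OG Q))
      (by rw [one_smul]; exact g.2.1) (by rw [one_smul]; exact g.2.2) w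
    simp only [inv_one, one_smul, hg, Subtype.coe_eta, hm] at this
    have h2 : m w' = m w := by exact_mod_cast this
    omega
  have hcount : ∀ w : P.W, w ≠ 0 → m w ≠ 0 → levN P (Q (w : ι → F)) ≤
      ∑ v ∈ Finset.univ.filter (fun v : P.W => v ≠ 0 ∧ Q (v : ι → F) = Q (w : ι → F)), m v := by
    intro w hw hmw
    rw [levN, Nat.card_eq_fintype_card, Fintype.card_subtype, Finset.card_eq_sum_ones]
    exact Finset.sum_le_sum fun v hv =>
      hlevel w hw hmw v (Finset.mem_filter.1 hv).2.1 (Finset.mem_filter.1 hv).2.2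
  refine ⟨Q (w₀ : ι → F), ?_, fun c hc0 hne => ?_⟩
  · rw [hdeg]
    exact (hcount w₀ hw₀ hmw₀).trans (Finset.sum_le_sum_of_subset (Finset.subset_univ _))
  obtain ⟨g, hgv, hgf⟩ := exists_scale hb P (by omega) (inv_ne_zero hc0)
  have h2 := coef_move hb P hcl (inv_ne_zero hc0) (inv_ne_zero (inv_ne_zero hc0)) hgv hgf w₀
  generalize hw' : (c⁻¹⁻¹ • (⟨ap (g : Grp Q) (w₀ : ι → F), _⟩ : P.W)) = w' at h2
  have hq' : Q (w' : ι → F) = c * c * Q (w₀ : ι → F) := by
    rw [← hw', Submodule.coe_smul, q_smul, ap_q, inv_inv]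
  have hw'0 : w' ≠ 0 := by
    rw [← hw']
    exact smul_ne_zero (inv_ne_zero (inv_ne_zero hc0))
      (fun e => hw₀ (Subtype.ext (ap_inj _ ((congrArg Subtype.val e).trans (ap_zero _).symm))))
  rw [hm, hm, Nat.cast_inj] at h2
  rw [hdeg, ← hq']
  refine (Nat.add_le_add (hcount w₀ hw₀ hmw₀) (hcount w' hw'0 (by omega))).trans ?_
  rw [← Finset.sum_union (Finset.disjoint_filter.2 fun v _ h h' => hne (by
    rw [← hq', ← h'.2, h.2]))]
  exact Finset.sum_le_sum_of_subset (Finset.subset_univ _)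

/-- The vectors of a level are the non-zero ones, and the zero vector for level zero. -/
theorem lev_le_levN_succ (a : F) : lev Q P.W a ≤ levN P a + 1 := by
  classical
  by_cases ha : a = 0
  · subst ha
    rw [lev, levN, ← Finite.card_option]
    refine Nat.card_le_card_of_surjective
      (fun o => o.elim (⟨0, QuadraticMap.map_zero Q⟩ : {x : P.W // Q (x : ι → F) = 0})
        fun w => ⟨w.1, w.2.2⟩) fun x => ?_
    by_cases hx : x.1 = 0
    · exact ⟨none, Subtype.ext hx.symm⟩
    · exact ⟨some ⟨x.1, hx, x.2⟩, rfl⟩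
  · exact (le_of_eq (levN_eq_lev P ha).symm).trans (Nat.le_succ _)

end CfsgLib.OrthMinDegree
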