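import Cfsg.Agent.Lib.OrthMinDegree.Weights

/-!
Transitivity of the stabilizer of a hyperbolic pair, conjugacy of long root elements, and long root
elements as commutators inside the stabilizer of a weight.
-/

set_option autoImplicit false
set_option linter.unusedSectionVars false

namespace CfsgLib.OrthMinDegree

open CfsgLib.Orth CfsgLib.MinIndexOrth Cfsg

variable {F : Type*} [Field F] [Fintype F] {ι : Type} [Fintype ι] [DecidableEq ι]
variable {Q : QuadraticForm F (ι → F)}

local notation "B" => QuadraticMap.polar (DFunLike.coe Q)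

/-- Change of basis in a totally singular plane. -/
theorem siegel_plane {u y : ι → F} {g : Grp Q} (hg : IsSiegel u y g) (hyq : Q y = 0)
    {a b c d : F} (h : a * d - b * c = 1) : IsSiegel (a • u + b • y) (c • u + d • y) g := by
  have huq := hg.1
  have huy := hg.2.1
  have hyu : B y u = 0 := by rw [b_comm]; exact huy
  refine ⟨?_, ?_, fun x => ?_⟩
  · rw [q_add, q_smul, q_smul, huq, hyq, b_smul_left, b_smul_right, huy]; ring
  · simp only [b_add_left, b_add_right, b_smul_left, b_smul_right, b_self_zero huq,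
      b_self_zero hyq, huy, hyu]
    ring
  · rw [hg.2.2, hyq, show Q (c • u + d • y) = 0 by
      rw [q_add, q_smul, q_smul, huq, hyq, b_smul_left, b_smul_right, huy]; ring]
    simp only [b_add_right, b_smul_right, zero_mul, zero_smul, sub_zero, smul_add, smul_smul]
    match_scalars <;> first | ring1 | linear_combination (B x u) * h | linear_combination (-(B x y)) * h |
      linear_combination (-(B x u)) * h | linear_combination (B x y) * h

theorem exists_sq_ne_one' (hq : 4 ≤ Fintype.card F) : ∃ c : F, c ≠ 0 ∧ c * c ≠ 1 := by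
  classical
  by_contra hc
  push Not at hc
  have h : (Finset.univ : Finset F) ⊆ {0, 1, -1} := fun x _ => by
    by_cases hx : x = 0
    · simp [hx]
    rcases mul_self_eq_one_iff.1 (hc x hx) with h | h <;> simp [h]
  have h1 := (Finset.card_le_card h).trans Finset.card_le_three
  rw [Finset.card_univ] at h1
  omega

variable (hb : Big Q) (P : HP Q)

include hb in
theorem move_level {d : ℕ} (hd : Module.finrank F P.W = d) (hd4 : 4 ≤ d) {x y : ι → F}
    (hx : x ∈ P.W) (hy : y ∈ P.W) (hx0 : x ≠ 0) (hy0 : y ≠ 0) (h : Q x = Q y) :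
    ∃ g : fixP P, ap ((g : OG Q) : Grp Q) x = y := by
  have hk : Module.finrank F (ι → F) = d + 2 := by have := P.finrank_W hb.nondeg; omega
  obtain ⟨g, hg, h1, h2, h3⟩ := P.exists_move_three hb.nondeg hk (by omega) (x := ![x]) (y := ![y])
    (by intro i; fin_cases i; exact hx) (by intro i; fin_cases i; exact hy)
    (LinearIndependent.of_subsingleton 0 hx0) (LinearIndependent.of_subsingleton 0 hy0)
    (fun c => by simp [q_smul, h]) (by
      have h1 := Submodule.finrank_mono (inf_le_left : Submodule.span F (Set.range ![x]) ⊓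
        orth Q (Submodule.span F (Set.range ![x])) ≤ _)
      have h2 := finrank_span_le (F := F) ![x]
      omega)
  exact ⟨⟨⟨g, by rw [omega_eq_El hb.nondeg hb.dim]; exact hg⟩, h1, h2⟩, h3 0⟩

include hb in
/-- Every scalar occurs on the point. -/
theorem exists_scale (hd3 : 3 ≤ Module.finrank F P.W) {c : F} (hc : c ≠ 0) :
    ∃ g : OG Q, ap (g : Grp Q) P.v = c • P.v ∧ ap (g : Grp Q) P.f = c⁻¹ • P.f := by
  let L : (ι → F) →ₗ[F] (ι → F) :=
    { toFun := fun x => P.pW x + (c * B P.f x) • P.v + (c⁻¹ * B P.v x) • P.f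
      map_add' := fun x y => by simp only [P.pW_add, b_add_right]; module
      map_smul' := fun a x => by simp only [P.pW_smul, b_smul_right, RingHom.id_apply]; module }
  obtain ⟨g, hg⟩ := exists_iso hb.nondeg L fun x => by
    have h1 := P.mem_W.1 (P.pW_mem x)
    have e : x = P.pW x + B P.f x • P.v + B P.v x • P.f := by rw [HP.pW]; abel
    conv_rhs => rw [e]
    show Q (P.pW x + (c * B P.f x) • P.v + (c⁻¹ * B P.v x) • P.f) = _
    rw [q_add, q_add, q_add (P.pW x + B P.f x • P.v), q_add (P.pW x)]
    simp only [q_smul, P.hv, P.hf, b_add_left, b_smul_left, b_smul_right, P.hvf,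
      b_comm (P.pW x) P.v, b_comm (P.pW x) P.f, h1.1, h1.2]
    field_simp
    ring
  have hv : ap g P.v = c • P.v := by
    rw [hg]
    show P.pW P.v + _ + _ = _
    rw [P.pW_v, P.hfv, b_self_zero P.hv, mul_one, mul_zero, zero_smul, zero_add, add_zero]
  have hf : ap g P.f = c⁻¹ • P.f := by
    rw [hg]
    show P.pW P.f + _ + _ = _
    have : P.pW P.f = 0 := by
      rw [HP.pW, b_self_zero P.hf, P.hvf, one_smul, zero_smul, sub_zero, sub_self]
    rw [this, P.hvf, b_self_zero P.hf, mul_one, mul_zero, zero_smul, zero_add, zero_add]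
  obtain ⟨h, hh, hm⟩ := exists_adjust hb.nondeg hb.dim (R := P.W) (univ_of_dim (by
    rw [(Submodule.eq_bot_iff (P.W ⊓ orth Q P.W)).2 fun x hx => nondeg_inf (P.nondeg hb.nondeg)
      hx.1 hx.2, finrank_bot]
    omega)) g
  refine ⟨⟨g * h, hm⟩, ?_, ?_⟩
  · show ap (g * h) P.v = _
    rw [ap_mul, hh P.v fun r hr => by rw [b_comm]; exact (P.mem_W.1 hr).1, hv]
  · show ap (g * h) P.f = _
    rw [ap_mul, hh P.f fun r hr => by rw [b_comm]; exact (P.mem_W.1 hr).2, hf]

include hb in
/-- The long root elements form one class. -/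
theorem root_conj {d : ℕ} (hd : Module.finrank F P.W = d) (hd4 : 4 ≤ d) {u y : ι → F}
    (hu0 : u ≠ 0) (hyq : Q y = 0) (hyu : y ∉ Submodule.span F {u}) {g : OG Q}
    (hg : IsSiegel u y (g : Grp Q)) {x : P.W} (hx : x ≠ 0) (hxq : Q (x : ι → F) = 0) :
    IsConj g (root hb P x) := by
  obtain ⟨e, he, heu⟩ := exists_move_singular hb.nondeg hb.dim hg.1 P.hv hu0 P.v_ne
  have he' : e ∈ Cfsg.Omega F ⇑Q := by rwa [omega_eq_El hb.nondeg hb.dim]
  have h1 := siegel_conj hg e
  rw [heu] at h1
  have hy1 : B P.v (ap e y) = 0 := h1.2.1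
  have h2 := siegel_add_self h1 (-(B P.f (ap e y)))
  have e2 : ap e y + -(B P.f (ap e y)) • P.v = P.pW (ap e y) := by
    rw [HP.pW, hy1, zero_smul, sub_zero, neg_smul, sub_eq_add_neg]
  rw [e2] at h2
  have hzq : Q (P.pW (ap e y)) = 0 := by
    rw [← e2, q_add, ap_q, hyq, q_smul, P.hv, b_smul_right, b_comm (ap e y) P.v, hy1]; ring
  have hz0 : P.pW (ap e y) ≠ 0 := fun hz => hyu (by
    rw [hz, neg_smul, ← sub_eq_add_neg, sub_eq_zero] at e2
    refine Submodule.mem_span_singleton.2 ⟨B P.f (ap e y), ap_inj e ?_⟩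
    rw [ap_smul, heu, ← e2])
  obtain ⟨k, hk⟩ := move_level hb P hd hd4 (P.pW_mem (ap e y)) x.2 hz0
    (fun h => hx (Subtype.ext h)) (hzq.trans hxq.symm)
  have h3 := siegel_conj h2 ((k : OG Q) : Grp Q)
  rw [k.2.1, hk] at h3
  refine isConj_iff.2 ⟨(k : OG Q) * ⟨e, he'⟩, root_unique ?_ (root_spec hb P x)⟩
  simpa [mul_assoc] using h3

include hb in
/-- A long root element fixing a vector is a commutator in the stabilizer of that vector. -/
theorem mem_commutator_wstab {d : ℕ} (hd : Module.finrank F P.W = d) (hd6 : 6 ≤ d) {u y : ι → F}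
    (huW : u ∈ P.W) (hyW : y ∈ P.W) (hu0 : u ≠ 0) (hyq : Q y = 0) (hyu : y ∉ Submodule.span F {u})
    {g : fixP P} (hg : IsSiegel u y ((g : OG Q) : Grp Q)) (w : P.W)
    (hwu : B (w : ι → F) u = 0) (hwy : B (w : ι → F) y = 0)
    (hroom : 4 ≤ Fintype.card F ∨ 7 ≤ d ∨ ((Q (w : ι → F) = 0 ∨ (2 : F) ≠ 0) ∧
      ∀ S : Submodule F (ι → F), S ≤ P.W → (∀ x ∈ S, Q x = 0) → Module.finrank F S ≤ 2)) :
    ∃ a b : wstab P w, ((a * b * a⁻¹ * b⁻¹ : wstab P w) : fixP P) = g := by
  have hv : ∀ {x : ι → F}, x ∈ P.W → B P.v x = 0 ∧ B P.f x = 0 := fun h => P.mem_W.1 h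
  have mk : ∀ {a b : ι → F}, a ∈ P.W → b ∈ P.W → Q a = 0 → B a b = 0 → B (w : ι → F) a = 0 →
      B (w : ι → F) b = 0 →
      ∃ h : wstab P w, IsSiegel a b (((h : fixP P) : OG Q) : Grp Q) := by
    intro a b ha hb' haq hab hwa hwb
    obtain ⟨h, hh⟩ := exists_root hb haq hab
    have fx : ∀ z, B z a = 0 → B z b = 0 → ap (h : Grp Q) z = z := fun z => siegel_fix hh
    exact ⟨⟨⟨h, fx _ (hv ha).1 (hv hb').1, fx _ (hv ha).2 (hv hb').2⟩, fx _ hwa hwb⟩, hh⟩
  have comm : ∀ {u' y' z : ι → F} (h k : wstab P w), IsSiegel u' z (((k : fixP P) : OG Q) : Grp Q) →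
      ap (((h : fixP P) : OG Q) : Grp Q) u' = u' →
      ap (((h : fixP P) : OG Q) : Grp Q) z = z + y' → IsSiegel u' y' ((g : OG Q) : Grp Q) →
      ((h * k * h⁻¹ * k⁻¹ : wstab P w) : fixP P) = g := by
    intro u' y' z h k hk h1 h2 hg'
    have h3 := siegel_conj hk (((h : fixP P) : OG Q) : Grp Q)
    rw [h1, h2] at h3
    have h4 := siegel_mul hg' hk
    rw [add_comm y' z] at h4
    have := siegel_unique h3 h4
    refine Subtype.ext (Subtype.ext ?_)
    simp only [Subgroup.coe_mul, Subgroup.coe_inv]
    rw [this, mul_inv_cancel_right]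
  set S := Submodule.span F ({u, y, (w : ι → F)} : Set (ι → F)) with hS
  have huy := hg.2.1
  have huq := hg.1
  have hyu' : B y u = 0 := by rw [b_comm]; exact huy
  by_cases hA : ∃ b ∈ P.W, b ∈ orth Q S ∧ b ∉ S
  · obtain ⟨b, hbW, hbo, hbS⟩ := hA
    rw [hS, mem_orth_span] at hbo
    simp only [Set.mem_insert_iff, Set.mem_singleton_iff, forall_eq_or_imp, forall_eq] at hbo
    obtain ⟨bu, by', bw⟩ := hbo
    have hb5 : b ∉ Submodule.span F ({P.v, P.f, u, y, (w : ι → F)} : Set (ι → F)) := fun h => by
      rw [Submodule.mem_span_insert] at h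
      obtain ⟨s, z, hz, e⟩ := h
      rw [Submodule.mem_span_insert] at hz
      obtain ⟨t, z', hz', e'⟩ := hz
      subst e'
      have hzW : z' ∈ P.W := (Submodule.span_le.2 (by
        intro a ha
        simp only [Set.mem_insert_iff, Set.mem_singleton_iff] at ha
        rcases ha with rfl | rfl | rfl
        exacts [huW, hyW, w.2])) hz'
      have e1 := congrArg (B P.f) e
      have e2 := congrArg (B P.v) e
      simp only [b_add_right, b_smul_right, P.hfv, P.hvf, b_self_zero P.hv, b_self_zero P.hf,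
        (hv hbW).1, (hv hbW).2, (hv hzW).1, (hv hzW).2] at e1 e2
      rw [show s = 0 by linear_combination -e1, show t = 0 by linear_combination -e2, zero_smul,
        zero_smul, zero_add, zero_add] at e
      exact hbS (e ▸ hz')
    obtain ⟨z, hzo, hbz⟩ := exists_orth_one hb.nondeg hb5
    rw [mem_orth_span] at hzo
    simp only [Set.mem_insert_iff, Set.mem_singleton_iff, forall_eq_or_imp, forall_eq] at hzo
    obtain ⟨zv, zf, zu, zy, zw⟩ := hzo
    have hz'W : -z ∈ P.W := P.W.neg_mem (P.mem_W.2 ⟨zv, zf⟩)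
    obtain ⟨h, hh⟩ := mk hyW hbW hyq by' hwy bw
    obtain ⟨k, hk⟩ := mk huW hz'W huq (by rw [← neg_one_smul F z, b_smul_right, zu, mul_zero]) hwu
      (by rw [← neg_one_smul F z, b_smul_right, zw, mul_zero])
    refine ⟨h, k, comm h k hk (siegel_fix hh huy bu) ?_ hg⟩
    rw [hh.2.2, ← neg_one_smul F z, b_smul_left, b_smul_left, b_comm z y, zy, b_comm z b, hbz]
    module
  · push Not at hA
    rcases hroom with hq | h7 | ⟨hw2, hno⟩
    · obtain ⟨c, hc0, hc1⟩ := exists_sq_ne_one' (F := F) hq
      -- move the vector onto the first basis vector when it lies in the plane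
      obtain ⟨u', y', hu'W, hy'W, hu'q, hy'q, huy'', hwu', hwy', hy'u, hwy'', hg'⟩ : ∃ u' y' : ι → F,
          u' ∈ P.W ∧ y' ∈ P.W ∧ Q u' = 0 ∧ Q y' = 0 ∧ B u' y' = 0 ∧ B (w : ι → F) u' = 0 ∧
          B (w : ι → F) y' = 0 ∧ y' ∉ Submodule.span F {u'} ∧
          y' ∉ Submodule.span F ({u', (w : ι → F)} : Set (ι → F)) ∧
          IsSiegel u' y' ((g : OG Q) : Grp Q) := by
        by_cases hw : y ∈ Submodule.span F ({u, (w : ι → F)} : Set (ι → F))
        · obtain ⟨s, t, e⟩ := Submodule.mem_span_pair.1 hw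
          have ht : t ≠ 0 := fun h => hyu (Submodule.mem_span_singleton.2
            ⟨s, by rw [← e, h, zero_smul, add_zero]⟩)
          have ew : (w : ι → F) = (-(s / t)) • u + t⁻¹ • y := by
            rw [← e]; match_scalars <;> field_simp; ring
          have hg' := siegel_plane hg hyq (a := -(s / t)) (b := t⁻¹) (c := -t) (d := 0)
            (by field_simp; ring)
          rw [← ew, zero_smul, add_zero] at hg'
          have hwq : Q (w : ι → F) = 0 := hg'.1
          have hnot : (-t) • u ∉ Submodule.span F {(w : ι → F)} := fun h => by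
            obtain ⟨r, hr⟩ := Submodule.mem_span_singleton.1 h
            rw [ew, smul_add, smul_smul, smul_smul] at hr
            by_cases hr0 : r = 0
            · rw [hr0, zero_mul, zero_mul, zero_smul, zero_smul, add_zero, eq_comm,
                smul_eq_zero] at hr
              exact hr.elim (fun h' => ht (neg_eq_zero.1 h')) hu0
            · exact hyu (Submodule.mem_span_singleton.2 ⟨(r * t⁻¹)⁻¹ * (-t - r * -(s / t)), by
                rw [mul_smul, sub_smul, ← hr, add_sub_cancel_left, smul_smul,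
                  inv_mul_cancel₀ (mul_ne_zero hr0 (inv_ne_zero ht)), one_smul]⟩)
          exact ⟨(w : ι → F), (-t) • u, w.2, P.W.smul_mem _ huW, hwq,
            by rw [q_smul, huq, mul_zero], hg'.2.1, b_self_zero hwq,
            by rw [b_smul_right, hwu, mul_zero], hnot, by rwa [Set.pair_eq_singleton], hg'⟩
        · exact ⟨u, y, huW, hyW, huq, hyq, huy, hwu, hwy, hyu, hw, hg⟩
      have hy5 : y' ∉ Submodule.span F ({P.v, P.f, u', (w : ι → F)} : Set (ι → F)) := fun h => by
        rw [Submodule.mem_span_insert] at h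
        obtain ⟨s, z, hz, e⟩ := h
        rw [Submodule.mem_span_insert] at hz
        obtain ⟨t, z', hz', e'⟩ := hz
        subst e'
        have hzW : z' ∈ P.W := (Submodule.span_le.2 (by
          intro a ha
          simp only [Set.mem_insert_iff, Set.mem_singleton_iff] at ha
          rcases ha with rfl | rfl
          exacts [hu'W, w.2])) hz'
        have e1 := congrArg (B P.f) e
        have e2 := congrArg (B P.v) e
        simp only [b_add_right, b_smul_right, P.hfv, P.hvf, b_self_zero P.hv, b_self_zero P.hf,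
          (hv hy'W).1, (hv hy'W).2, (hv hzW).1, (hv hzW).2] at e1 e2
        rw [show s = 0 by linear_combination -e1, show t = 0 by linear_combination -e2, zero_smul,
          zero_smul, zero_add, zero_add] at e
        exact hwy'' (e ▸ hz')
      obtain ⟨z, hzo, hyz⟩ := exists_orth_one hb.nondeg hy5
      rw [mem_orth_span] at hzo
      simp only [Set.mem_insert_iff, Set.mem_singleton_iff, forall_eq_or_imp, forall_eq] at hzo
      obtain ⟨zv, zf, zu, zw⟩ := hzo
      let P' : HP Q :=
        { v := y', f := z - Q z • y', hv := hy'q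
          hf := by
            rw [q_sub, q_smul, hy'q, b_smul_right, b_comm z y', hyz]; ring
          hvf := by rw [b_sub_right, b_smul_right, hyz, b_self_zero hy'q]; ring }
      obtain ⟨h₀, hh₀, hhy, hhf, hhfix⟩ := P'.exists_torus hb.nondeg hb.dim hc0
      have memW' : ∀ x, B x y' = 0 → B x z = 0 → x ∈ P'.W := fun x h1 h2 => P'.mem_W.2
        ⟨by rw [b_comm]; exact h1, by
          show B (z - Q z • y') x = 0
          rw [b_sub_left, b_smul_left, b_comm z x, h2, b_comm y' x, h1]; ring⟩
      let h : wstab P w := ⟨⟨⟨h₀, by rw [omega_eq_El hb.nondeg hb.dim]; exact hh₀⟩,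
        hhfix _ (memW' _ (hv hy'W).1 zv), hhfix _ (memW' _ (hv hy'W).2 zf)⟩,
        hhfix _ (memW' _ hwy' zw)⟩
      obtain ⟨k, hk⟩ := mk (a := u') (b := (c * c - 1)⁻¹ • y') hu'W (P.W.smul_mem _ hy'W) hu'q
        (by rw [b_smul_right, huy'', mul_zero]) hwu' (by rw [b_smul_right, hwy', mul_zero])
      refine ⟨h, k, comm h k hk (hhfix _ (memW' _ huy'' zu)) ?_ hg'⟩
      show ap h₀ ((c * c - 1)⁻¹ • y') = _
      rw [ap_smul, show ap h₀ y' = (c * c) • y' from hhy, smul_smul]
      match_scalars
      linear_combination mul_inv_cancel₀ (sub_ne_zero.2 hc1)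
    all_goals
      exfalso
      have hSW : S ≤ P.W := Submodule.span_le.2 (by
        intro a ha
        simp only [Set.mem_insert_iff, Set.mem_singleton_iff] at ha
        rcases ha with rfl | rfl | rfl
        exacts [huW, hyW, w.2])
      have hle : P.W ⊓ orth Q S ≤ S := fun b hb' => hA b hb'.1 hb'.2
      have hs3 : Module.finrank F S ≤ 3 := by
        classical
        refine le_trans (finrank_span_le_card (R := F) ({u, y, (w : ι → F)} : Set (ι → F))) ?_
        simp only [Set.toFinset_insert, Set.toFinset_singleton]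
        exact Finset.card_le_three
      have h1 := Submodule.finrank_mono hle
      have h2 := Submodule.finrank_sup_add_finrank_inf_eq P.W (orth Q S)
      have h3 := finrank_orth hb.nondeg S
      have h4 := Submodule.finrank_le (P.W ⊔ orth Q S)
      have hk : Module.finrank F (ι → F) = d + 2 := by have := P.finrank_W hb.nondeg; omega
    · omega
    · have hts : ∀ x ∈ S, Q x = 0 := by
        have heq : P.W ⊓ orth Q S = S := Submodule.eq_of_le_of_finrank_le hle (by omega)
        have hwS : (w : ι → F) ∈ orth Q S :=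
          (heq.ge (Submodule.subset_span (by simp))).2
        have hww : B (w : ι → F) (w : ι → F) = 0 :=
          mem_orth.1 hwS _ (Submodule.subset_span (by simp))
        have hwq : Q (w : ι → F) = 0 := hw2.elim id fun h2 => by
          rw [b_self] at hww
          exact (mul_eq_zero.1 hww).resolve_left h2
        intro x hx
        obtain ⟨s, z, hz, rfl⟩ := Submodule.mem_span_insert.1 hx
        obtain ⟨t, r, rfl⟩ := Submodule.mem_span_pair.1 hz
        simp only [q_add, q_smul, huq, hyq, hwq, b_add_right, b_smul_left, b_smul_right, huy,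
          b_comm u (w : ι → F), b_comm y (w : ι → F), hwu, hwy]
        ring
      have := hno S hSW hts
      omega

end CfsgLib.OrthMinDegree
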