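import Cfsg.Agent.Lib.OrthMinDegree.Induct
import Cfsg.Agent.Lib.OrthMinDegree.Arith
import Cfsg.Agent.Lib.MinIndexOrth.Standard
import Cfsg.Agent.Lib.Classical.Klein
import Cfsg.Agent.Lib.SLMinDegree.Main
import Cfsg.Agent.Lib.Char.Virtual

/-!
The least degree for plus type.
-/

set_option autoImplicit false
set_option linter.unusedSectionVars false

namespace CfsgLib.OrthMinDegree

open CfsgLib.Orth CfsgLib.MinIndexOrth Cfsg CfsgLib.Char

variable {F : Type*} [Field F] [Fintype F]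

local notation "q" => Fintype.card F

theorem exists_scale_ne {a : F} (hq : 4 ≤ q) (h : ∀ c : F, c ≠ 0 → c * c * a = a) : a = 0 := by
  classical
  by_contra ha
  have h1 : (Finset.univ : Finset F) ⊆ {0, 1, -1} := fun c _ => by
    by_cases hc : c = 0
    · simp [hc]
    · have h2 : c * c = 1 := mul_right_cancel₀ ha (by rw [one_mul]; exact h c hc)
      rcases mul_self_eq_one_iff.1 h2 with rfl | rfl <;> simp
  have h3 := Finset.card_le_card h1
  rw [Finset.card_univ] at h3
  have := Finset.card_le_three (a := (0 : F)) (b := 1) (c := -1)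
  omega

theorem minB_transfer {G H : Type*} [Group G] [Group H] [Finite G] {f : G →* H}
    (hf : Function.Surjective f) {b : ℕ}
    (h : ∀ χ : G → ℂ, IsIrrCharacter G χ → χ ≠ (fun _ => 1) → ∀ k : ℕ, χ 1 = k → b ≤ k)
    (χ : H → ℂ) (hχ : IsIrrCharacter H χ) (h1 : χ ≠ fun _ => 1) (k : ℕ) (hk : χ 1 = k) : b ≤ k := by
  refine h _ (isIrrCharacter_comp hf hχ) (fun e => h1 (funext fun y => ?_)) k (by rw [map_one, hk])
  obtain ⟨x, rfl⟩ := hf y
  exact congrFun e x

theorem plus_base (hq : 4 ≤ q) {Q : QuadraticForm F (Fin 3 ⊕ Fin 3 → F)}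
    (hQ : ⇑Q = Cfsg.quadFormPlus 3 F) : MinB Q (kP q 3) := by
  classical
  unfold MinB OG
  rw [hQ]
  obtain ⟨f, hf, -⟩ := CfsgLib.Classical.Klein.exists_onto (F := F)
  intro χ hχ h1 k hk
  have h := minB_transfer hf (b := q * SLMinDegree.pts q 3)
    (fun ψ => SLMinDegree.bound (F := F) 4 (by norm_num) (by omega) (by omega) ψ) χ hχ h1 k hk
  refine le_trans (le_of_eq ?_) h
  rw [kP_three]
  simp only [SLMinDegree.pts_succ, show SLMinDegree.pts q 0 = 0 from rfl]
  ring

/-- The embedding missing the first pair. -/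
def plusTail (n : ℕ) : (Fin n ⊕ Fin n → F) →ₗ[F] (Fin (n + 1) ⊕ Fin (n + 1) → F) where
  toFun y := Sum.elim (Fin.cons 0 fun i => y (.inl i)) (Fin.cons 0 fun i => y (.inr i))
  map_add' x y := by
    funext i
    rcases i with i | i <;> refine Fin.cases ?_ (fun j => ?_) i <;> simp
  map_smul' c x := by
    funext i
    rcases i with i | i <;> refine Fin.cases ?_ (fun j => ?_) i <;> simp

theorem plusTail_injective (n : ℕ) : Function.Injective (plusTail (F := F) n) := fun x y e => by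
  funext i
  rcases i with i | i
  · simpa [plusTail] using congrFun e (.inl i.succ)
  · simpa [plusTail] using congrFun e (.inr i.succ)

theorem plus_lev_ge {n : ℕ} {L : ℕ} (hq : 4 ≤ q)
    (h : q ^ (2 * (n + 3)) ≤ q * L + q ^ (n + 4)) : kP q (n + 4) ≤ 2 * (L - 1) := by
  have hf := kP_formula (show 2 ≤ q by omega) (n + 1)
  rw [show n + 1 + 3 = n + 4 from rfl, show n + 1 + 2 = n + 3 from rfl] at hf
  obtain ⟨x, hx⟩ : ∃ x : ℤ, x = (q : ℤ) ^ (n + 2) := ⟨_, rfl⟩
  have h' : (q : ℤ) ^ (2 * (n + 3)) ≤ q * L + (q : ℤ) ^ (n + 4) := by exact_mod_cast h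
  rw [show (q : ℤ) ^ (2 * (n + 3)) = q * q * (x * x) by rw [hx, show 2 * (n + 3) = n + 2 + (n + 2) + 2 by ring, pow_add, pow_add]; ring,
    show (q : ℤ) ^ (n + 4) = q * q * x by rw [hx, pow_add _ (n + 2) 2]; ring] at h'
  rw [show (q : ℤ) ^ (n + 4) = q * q * x by rw [hx, pow_add _ (n + 2) 2]; ring,
    show (q : ℤ) ^ (n + 3) = q * x by rw [hx, pow_succ]; ring] at hf
  have hq' : (4 : ℤ) ≤ q := by exact_mod_cast hq
  have hx4 : (16 : ℤ) ≤ x := by
    have : (q : ℤ) ^ 2 ≤ x := hx ▸ pow_le_pow_right₀ (by omega) (by omega)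
    nlinarith
  have hL : (q : ℤ) * (x * x) - q * x ≤ L := le_of_mul_le_mul_left
    (by linarith : (q : ℤ) * ((q : ℤ) * (x * x) - q * x) ≤ q * L) (by omega)
  suffices hsuff : (kP q (n + 4) : ℤ) + 2 ≤ 2 * L by omega
  refine le_of_mul_le_mul_left (a := (q : ℤ) ^ 2 - 1) ?_ (by nlinarith)
  have h1 : 0 ≤ (q : ℤ) * x := by nlinarith
  nlinarith [mul_le_mul_of_nonneg_left hL (show (0 : ℤ) ≤ (q : ℤ) ^ 2 - 1 by nlinarith),
    mul_le_mul_of_nonneg_left hx4 (show (0 : ℤ) ≤ (q : ℤ) ^ 3 * x by positivity),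
    mul_le_mul_of_nonneg_left hq' (show (0 : ℤ) ≤ (q : ℤ) ^ 2 * x by positivity)]

theorem plus_minB (hq : 4 ≤ q) : ∀ (i : ℕ) (Q : QuadraticForm F (Fin (i + 3) ⊕ Fin (i + 3) → F)),
    ⇑Q = Cfsg.quadFormPlus (i + 3) F → Nondeg Q → MinB Q (kP q (i + 3)) := by
  classical
  intro i
  induction i with
  | zero => intro Q hQ _; exact plus_base hq hQ
  | succ i ih =>
    rw [show i + 1 + 3 = i + 3 + 1 from rfl]
    intro Q hQ hB χ hχ h1 k hk
    by_contra hlt
    rw [Nat.not_le] at hlt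
    obtain ⟨Q', hQ', hB'⟩ := exists_quadForm_plus (F := F) (i + 3)
    have hdim : Module.finrank F (Fin (i + 3 + 1) ⊕ Fin (i + 3 + 1) → F) = 2 * (i + 4) := by
      simp [Fintype.card_sum]; ring
    have hb : Big Q := ⟨hB, by omega⟩
    let P : HP Q :=
      { v := Pi.single (.inl 0) 1
        f := Pi.single (.inr 0) 1
        hv := by rw [hQ]; simp [Cfsg.quadFormPlus]
        hf := by rw [hQ]; simp [Cfsg.quadFormPlus]
        hvf := by rw [hQ, polar_plus]; simp [Pi.single_apply] }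
    have he := plusTail_injective (F := F) (i + 3)
    have hcomp : Q.comp (plusTail (i + 3)) = Q' := by
      refine QuadraticMap.ext fun y => ?_
      rw [QuadraticMap.comp_apply, hQ, hQ']
      simp [Cfsg.quadFormPlus, plusTail, Fin.sum_univ_succ]
    have hd : Module.finrank F P.W = 2 * (i + 3) := by
      have := dim_le P hb
      omega
    have hW : LinearMap.range (plusTail (i + 3)) = P.W := by
      refine Submodule.eq_of_le_of_finrank_eq ?_ ?_
      · rintro _ ⟨y, rfl⟩
        refine P.mem_W.2 ⟨?_, ?_⟩ <;>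
          (rw [hQ, polar_plus]; simp [P, plusTail, Pi.single_apply, Fin.sum_univ_succ])
      · rw [LinearMap.finrank_range_of_inj he, hd]
        simp [Fintype.card_sum]; ring
    have hfix : FixBound P (kP q (i + 3)) :=
      fixBound_of_minB hb P hB' (by simp [Fintype.card_sum]; omega) he hcomp hW (ih Q' hQ' hB')
    have hN : levN P 0 = (q ^ (i + 3) - 1) * (q ^ (i + 2) + 1) := by
      rw [levN_eq_pull P he hcomp hW, plus_points (by omega) hQ' hB', Nat.card_eq_fintype_card,
        Nat.div_mul_cancel (Dvd.dvd.mul_right (sub_one_mul_geom _) _), show i + 3 - 1 = i + 2 from rfl]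
    have hlow : ∀ a : F, kP q (i + 4) ≤ 2 * levN P a := by
      intro a
      have h1 := (lev_bound hB _ P.W (P.nondeg hB) hd a).1
      rw [show 2 * (i + 3) / 2 + 1 = i + 4 by omega, Nat.card_eq_fintype_card] at h1
      refine (plus_lev_ge hq h1).trans (Nat.mul_le_mul_left 2 ?_)
      rw [Nat.sub_le_iff_le_add, lev, levN]
      by_cases ha : a = 0
      · subst ha
        rw [← Finite.card_option]
        refine Nat.card_le_card_of_surjective
          (fun o => o.elim (⟨0, QuadraticMap.map_zero Q⟩ : {x : P.W // Q (x : _ → F) = 0})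
            fun w => ⟨w.1, w.2.2⟩) fun x => ?_
        by_cases hx : x.1 = 0
        · exact ⟨none, Subtype.ext hx.symm⟩
        · exact ⟨some ⟨x.1, hx, x.2⟩, rfl⟩
      · exact (le_of_eq (levN_eq_lev P ha).symm).trans (Nat.le_succ _)
    obtain ⟨a, hka, hscale, hroot⟩ := step hb P hd (by omega) hlow
      (fun w _ _ => Or.inl hq) hfix hχ h1 hk hlt
    obtain rfl := exists_scale_ne hq hscale
    rw [hN] at hka
    have hrec := kP_succ q (show 3 ≤ i + 3 by omega)
    rw [show i + 3 - 1 = i + 2 from rfl] at hrec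
    obtain ⟨x, hx0, hxq⟩ : ∃ x : P.W, x ≠ 0 ∧ Q (x : _ → F) = 0 := by
      obtain ⟨v, hv, hv0, hvq⟩ := exists_singular (Q := Q) (U := P.W) (by omega)
      exact ⟨⟨v, hv⟩, fun e => hv0 (congrArg Subtype.val e), hvq⟩
    have hdvd := dvd_root hb P hd (by omega) hx0 hxq hχ hk (hroot x hx0 hxq)
    rw [hN, plus_points (by omega) hQ hB, Nat.card_eq_fintype_card,
      Nat.div_mul_cancel (Dvd.dvd.mul_right (sub_one_mul_geom _) _)] at hdvd
    exact plus_excluded hq (show k + 1 = kP q (i + 4) by rw [show i + 4 = i + 3 + 1 from rfl, hrec]; omega)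
      hdvd

end CfsgLib.OrthMinDegree
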