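import Cfsg.Agent.Lib.OrthMinDegree.Step
import Cfsg.Agent.Lib.Classical.Card

/-!
The number of long root elements, and the divisibility it gives for the degree of a character.
-/

set_option autoImplicit false
set_option linter.unusedSectionVars false

namespace CfsgLib.OrthMinDegree

open CfsgLib.Orth CfsgLib.MinIndexOrth Cfsg CfsgLib.Char

variable {F : Type*} [Field F] [Fintype F] {ι : Type} [Fintype ι] [DecidableEq ι]
variable {Q : QuadraticForm F (ι → F)}

local notation "B" => QuadraticMap.polar (DFunLike.coe Q)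

/-- The pairs spanning totally singular planes. -/
abbrev PairSet (Q : QuadraticForm F (ι → F)) : Type _ :=
  {p : (ι → F) × (ι → F) // p.1 ≠ 0 ∧ Q p.1 = 0 ∧ Q p.2 = 0 ∧
    QuadraticMap.polar (DFunLike.coe Q) p.1 p.2 = 0 ∧ p.2 ∉ Submodule.span F {p.1}}

variable (hb : Big Q) (P : HP Q)

include hb in
theorem card_second {v : ι → F} (hv0 : v ≠ 0) (hv : Q v = 0) :
    Nat.card {x : ι → F // Q x = 0 ∧ B v x = 0 ∧ x ∉ Submodule.span F {v}} =
      Fintype.card F * levN P 0 := by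
  obtain ⟨e, -, hev⟩ := exists_move_singular hb.nondeg hb.dim P.hv hv P.v_ne hv0
  rw [levN, ← Nat.card_eq_fintype_card (α := F), ← Nat.card_prod]
  have fwd : ∀ (t : F) (w : ι → F), w ∈ P.W → w ≠ 0 → Q w = 0 →
      Q (ap e (w + t • P.v)) = 0 ∧ B v (ap e (w + t • P.v)) = 0 ∧
        ap e (w + t • P.v) ∉ Submodule.span F {v} := by
    intro t w hw hw0 hwq
    refine ⟨?_, ?_, fun h => hw0 ?_⟩
    · rw [ap_q, q_add, q_smul, hwq, P.hv, b_smul_right, b_comm w P.v, (P.mem_W.1 hw).1]; ring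
    · rw [← hev, ap_b, b_add_right, b_smul_right, b_self_zero P.hv, (P.mem_W.1 hw).1]; ring
    · obtain ⟨s, hs⟩ := Submodule.mem_span_singleton.1 h
      rw [← hev, ← ap_smul] at hs
      have h1 := congrArg P.pW (ap_inj e hs)
      rw [P.pW_smul, P.pW_v, smul_zero, P.pW_add, P.pW_smul, P.pW_v, smul_zero, add_zero,
        P.pW_of_mem hw] at h1
      exact h1.symm
  have bwd : ∀ x : ι → F, Q x = 0 → B v x = 0 → x ∉ Submodule.span F {v} →
      P.pW (ap e⁻¹ x) ≠ 0 ∧ Q (P.pW (ap e⁻¹ x)) = 0 ∧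
        ap e⁻¹ x = P.pW (ap e⁻¹ x) + B P.f (ap e⁻¹ x) • P.v := by
    intro x hxq hvx hxs
    have h1 : B P.v (ap e⁻¹ x) = 0 := by rw [← ap_b e, hev, ap_ap_inv, hvx]
    have heq := P.eq_pW h1
    refine ⟨fun h => hxs ?_, ?_, heq⟩
    · rw [h, zero_add] at heq
      refine Submodule.mem_span_singleton.2 ⟨B P.f (ap e⁻¹ x), ?_⟩
      conv_rhs => rw [← ap_ap_inv e x, heq, ap_smul, hev]
    · have h2 : Q (ap e⁻¹ x) = 0 := by rw [ap_q, hxq]
      rw [heq, q_add, q_smul, P.hv, b_smul_right, b_comm _ P.v,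
        (P.mem_W.1 (P.pW_mem _)).1] at h2
      linear_combination h2
  exact (Nat.card_congr
    { toFun := fun p => ⟨ap e ((p.2.1 : ι → F) + p.1 • P.v),
        fwd p.1 _ p.2.1.2 (fun h => p.2.2.1 (Subtype.ext h)) p.2.2.2⟩
      invFun := fun x => (B P.f (ap e⁻¹ x.1), ⟨⟨P.pW (ap e⁻¹ x.1), P.pW_mem _⟩,
        fun h => (bwd x.1 x.2.1 x.2.2.1 x.2.2.2).1 (congrArg Subtype.val h),
        (bwd x.1 x.2.1 x.2.2.1 x.2.2.2).2.1⟩)
      left_inv := fun p => by
        obtain ⟨t, w, hw0, hwq⟩ := p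
        refine Prod.ext ?_ (Subtype.ext (Subtype.ext ?_))
        · show B P.f (ap e⁻¹ (ap e _)) = t
          rw [ap_inv_ap, b_add_right, b_smul_right, P.hfv, (P.mem_W.1 w.2).2]; ring
        · show P.pW (ap e⁻¹ (ap e _)) = _
          rw [ap_inv_ap, P.pW_add, P.pW_smul, P.pW_v, smul_zero, add_zero, P.pW_of_mem w.2]
      right_inv := fun x => Subtype.ext (by
        show ap e (P.pW (ap e⁻¹ x.1) + B P.f (ap e⁻¹ x.1) • P.v) = x.1
        rw [← (bwd x.1 x.2.1 x.2.2.1 x.2.2.2).2.2, ap_ap_inv]) }).symm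

include hb in
theorem card_pairSet : Nat.card (PairSet Q) =
    Nat.card {v : ι → F // v ≠ 0 ∧ Q v = 0} * (Fintype.card F * levN P 0) := by
  classical
  let e : PairSet Q ≃ Σ v : {v : ι → F // v ≠ 0 ∧ Q v = 0},
      {x : ι → F // Q x = 0 ∧ B v.1 x = 0 ∧ x ∉ Submodule.span F {v.1}} :=
    { toFun := fun p => ⟨⟨p.1.1, p.2.1, p.2.2.1⟩, ⟨p.1.2, p.2.2.2.1, p.2.2.2.2.1, p.2.2.2.2.2⟩⟩
      invFun := fun s => ⟨(s.1.1, s.2.1), s.1.2.1, s.1.2.2, s.2.2.1, s.2.2.2.1, s.2.2.2.2⟩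
      left_inv := fun p => rfl
      right_inv := fun s => rfl }
  rw [Nat.card_congr e, Nat.card_sigma,
    Finset.sum_congr rfl fun v _ => card_second hb P v.2.1 v.2.2, Finset.sum_const, smul_eq_mul,
    Finset.card_univ, Nat.card_eq_fintype_card]

theorem not_span_swap {v x : ι → F} (hv : v ≠ 0) (hx : x ∉ Submodule.span F {v}) :
    v ∉ Submodule.span F {x} := fun h => by
  obtain ⟨s, hs⟩ := Submodule.mem_span_singleton.1 h
  have hs0 : s ≠ 0 := fun e => hv (by rw [← hs, e, zero_smul])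
  exact hx (Submodule.mem_span_singleton.2 ⟨s⁻¹, by rw [← hs, smul_smul, inv_mul_cancel₀ hs0, one_smul]⟩)

include hb in
/-- The pairs of one long root element. -/
theorem pair_eq_iff {v x v' x' : ι → F} (hv0 : v ≠ 0) (hxq : Q x = 0)
    (hxs : x ∉ Submodule.span F {v}) (hv' : v' ≠ 0) (hx'q : Q x' = 0)
    (hx's : x' ∉ Submodule.span F {v'}) {g : Grp Q} (hg : IsSiegel v x g) (hg' : IsSiegel v' x' g) :
    ∃ M : Matrix.SpecialLinearGroup (Fin 2) F,
      v' = M 0 0 • v + M 0 1 • x ∧ x' = M 1 0 • v + M 1 1 • x := by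
  have key : ∀ z : ι → F, B z v • x - B z x • v = B z v' • x' - B z x' • v' := fun z => by
    have h := hg.2.2 z
    rw [hg'.2.2 z, hxq, hx'q, zero_mul, zero_mul, zero_smul, zero_smul, sub_zero, sub_zero,
      add_sub_assoc, add_sub_assoc] at h
    exact (add_left_cancel h).symm
  obtain ⟨z₁, hz₁, h11⟩ := exists_orth_one hb.nondeg (not_span_swap hv' hx's)
  obtain ⟨z₂, hz₂, h22⟩ := exists_orth_one hb.nondeg hx's
  rw [mem_orth_span] at hz₁ hz₂
  have h10 := hz₁ x' rfl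
  have h20 := hz₂ v' rfl
  rw [b_comm] at h11 h22 h10 h20
  have e1 := key z₁
  have e2 := key z₂
  rw [h11, h10, one_smul, zero_smul, sub_zero] at e1
  rw [h22, h20, one_smul, zero_smul, zero_sub] at e2
  have e2' : v' = B z₂ x • v - B z₂ v • x := by rw [← neg_neg v', ← e2, neg_sub]
  -- the determinant
  obtain ⟨w₁, hw₁, f11⟩ := exists_orth_one hb.nondeg (not_span_swap hv0 hxs)
  rw [mem_orth_span] at hw₁
  have f10 := hw₁ x rfl
  rw [b_comm] at f11 f10
  have e3 := key w₁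
  rw [f11, f10, one_smul, zero_smul, sub_zero, ← e1, e2'] at e3
  simp only [b_sub_right, b_smul_right, f11, f10, mul_one, mul_zero, zero_sub, sub_zero] at e3
  have hdet : (B z₂ x * B z₁ v - B z₂ v * B z₁ x - 1) • x = 0 := by
    linear_combination (norm := module) -e3
  have hdet' : B z₂ x * B z₁ v - B z₂ v * B z₁ x - 1 = 0 :=
    (smul_eq_zero.1 hdet).resolve_right fun e => hxs (e ▸ Submodule.zero_mem _)
  refine ⟨⟨!![B z₂ x, -(B z₂ v); -(B z₁ x), B z₁ v], ?_⟩, ?_, ?_⟩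
  · rw [Matrix.det_fin_two_of]
    linear_combination hdet'
  · show v' = B z₂ x • v + -(B z₂ v) • x
    rw [e2', neg_smul, sub_eq_add_neg]
  · show x' = -(B z₁ x) • v + B z₁ v • x
    rw [← e1, neg_smul]
    abel

include hb in
theorem card_fiber {v x : ι → F} (hv0 : v ≠ 0) (hvq : Q v = 0) (hxq : Q x = 0)
    (hxs : x ∉ Submodule.span F {v}) {g : Grp Q} (hg : IsSiegel v x g) :
    Nat.card {p : PairSet Q // IsSiegel p.1.1 p.1.2 g} =
      Fintype.card F * (Fintype.card F ^ 2 - 1) := by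
  rw [← Classical.card_SL_two]
  have hvx := hg.2.1
  have hli : ∀ a b : F, a • v + b • x = 0 → a = 0 ∧ b = 0 := by
    intro a b h
    by_cases hb0 : b = 0
    · rw [hb0, zero_smul, add_zero, smul_eq_zero] at h
      exact ⟨h.resolve_right hv0, hb0⟩
    · refine absurd (Submodule.mem_span_singleton.2 ⟨-(a / b), ?_⟩) hxs
      rw [neg_smul, neg_eq_iff_add_eq_zero, div_eq_inv_mul, mul_smul,
        ← smul_right_injective _ hb0 |>.eq_iff, smul_add, smul_inv_smul₀ hb0, smul_zero, h]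
  have hdet : ∀ M : Matrix.SpecialLinearGroup (Fin 2) F, M 0 0 * M 1 1 - M 0 1 * M 1 0 = 1 := fun M => by
    have h := M.2; rwa [Matrix.det_fin_two] at h
  let f : Matrix.SpecialLinearGroup (Fin 2) F → {p : PairSet Q // IsSiegel p.1.1 p.1.2 g} :=
    fun M => ⟨⟨(M 0 0 • v + M 0 1 • x, M 1 0 • v + M 1 1 • x),
      fun h => by
        obtain ⟨h1, h2⟩ := hli _ _ h
        simpa [h1, h2] using hdet M,
      (siegel_plane hg hxq (hdet M)).1,
      by rw [q_add, q_smul, q_smul, hvq, hxq, b_smul_left, b_smul_right, hvx]; ring,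
      (siegel_plane hg hxq (hdet M)).2.1,
      fun h => by
        obtain ⟨t, ht⟩ := Submodule.mem_span_singleton.1 h
        obtain ⟨h1, h2⟩ := hli (t * M 0 0 - M 1 0) (t * M 0 1 - M 1 1) (by
          linear_combination (norm := module) ht)
        have := hdet M
        rw [← sub_eq_zero.1 h1, ← sub_eq_zero.1 h2] at this
        exact zero_ne_one (α := F) (by linear_combination this)⟩,
      siegel_plane hg hxq (hdet M)⟩
  refine (Nat.card_congr (Equiv.ofBijective f ⟨fun M N h => ?_, fun p => ?_⟩)).symm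
  · have h1 := congrArg (fun p => (p.1.1.1 : ι → F)) h
    have h2 := congrArg (fun p => (p.1.1.2 : ι → F)) h
    simp only [f] at h1 h2
    obtain ⟨a1, a2⟩ := hli (M 0 0 - N 0 0) (M 0 1 - N 0 1) (by linear_combination (norm := module) h1)
    obtain ⟨a3, a4⟩ := hli (M 1 0 - N 1 0) (M 1 1 - N 1 1) (by linear_combination (norm := module) h2)
    refine Matrix.SpecialLinearGroup.ext _ _ fun i j => ?_
    fin_cases i <;> fin_cases j
    exacts [sub_eq_zero.1 a1, sub_eq_zero.1 a2, sub_eq_zero.1 a3, sub_eq_zero.1 a4]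
  · obtain ⟨⟨⟨v', x'⟩, hp1, hp2, hp3, hp4, hp5⟩, hp⟩ := p
    obtain ⟨M, e1, e2⟩ := pair_eq_iff hb hv0 hxq hxs hp1 hp3 hp5 hg hp
    exact ⟨M, Subtype.ext (Subtype.ext (Prod.ext e1.symm e2.symm))⟩

include hb in
/-- The size of the class of long root elements. -/
theorem index_root {d : ℕ} (hd : Module.finrank F P.W = d) (hd4 : 4 ≤ d) {x : P.W} (hx : x ≠ 0)
    (hxq : Q (x : ι → F) = 0) :
    (Subgroup.centralizer ({root hb P x} : Set (OG Q))).index *
        (Fintype.card F * (Fintype.card F ^ 2 - 1)) =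
      Nat.card {v : ι → F // v ≠ 0 ∧ Q v = 0} * (Fintype.card F * levN P 0) := by
  classical
  rw [← card_pairSet hb P, CfsgLib.Blocks.index_centralizer_eq_card]
  choose g hg using fun p : PairSet Q => exists_root hb p.2.2.1 p.2.2.2.2.1
  have hconj : ∀ p, IsConj (root hb P x) (g p) := fun p =>
    (root_conj hb P hd hd4 p.2.1 p.2.2.2.1 p.2.2.2.2.2 (hg p) hx hxq).symm
  let e : PairSet Q ≃ Σ t : {t : OG Q // IsConj (root hb P x) t},
      {p : PairSet Q // IsSiegel p.1.1 p.1.2 (t.1 : Grp Q)} :=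
    { toFun := fun p => ⟨⟨g p, hconj p⟩, ⟨p, hg p⟩⟩
      invFun := fun s => s.2.1
      left_inv := fun p => rfl
      right_inv := fun ⟨⟨t, ht⟩, ⟨p, hp⟩⟩ => by
        obtain rfl : t = g p := root_unique hp (hg p)
        rfl }
  have hxv : (x : ι → F) ∉ Submodule.span F {P.v} := fun h => by
    obtain ⟨s, hs⟩ := Submodule.mem_span_singleton.1 h
    have h1 := congrArg P.pW hs
    rw [P.pW_smul, P.pW_v, smul_zero, P.pW_of_mem x.2] at h1
    exact hx (Subtype.ext h1.symm)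
  have hf : ∀ t : {t : OG Q // IsConj (root hb P x) t},
      Nat.card {p : PairSet Q // IsSiegel p.1.1 p.1.2 (t.1 : Grp Q)} =
        Fintype.card F * (Fintype.card F ^ 2 - 1) := by
    intro t
    obtain ⟨c, hc⟩ := isConj_iff.1 t.2
    have h := siegel_conj (root_spec hb P x) (c : Grp Q)
    have e' : (c : Grp Q) * (root hb P x : Grp Q) * (c : Grp Q)⁻¹ = (t.1 : Grp Q) := by
      rw [← hc]; rfl
    rw [e'] at h
    refine card_fiber hb (fun e => P.v_ne (ap_inj _ (e.trans (ap_zero _).symm))) (by rw [ap_q, P.hv])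
      (by rw [ap_q, hxq]) (fun hm => hxv ?_) h
    obtain ⟨s, hs⟩ := Submodule.mem_span_singleton.1 hm
    exact Submodule.mem_span_singleton.2 ⟨s, ap_inj _ ((ap_smul _ _ _).trans hs)⟩
  rw [Nat.card_congr e, Nat.card_sigma, Finset.sum_congr rfl fun t _ => hf t, Finset.sum_const,
    smul_eq_mul, Finset.card_univ, ← Nat.card_eq_fintype_card, ← Nat.card_eq_fintype_card]

include hb in
/-- Integrality on the class of long root elements. -/
theorem dvd_root {d : ℕ} (hd : Module.finrank F P.W = d) (hd4 : 4 ≤ d) {x : P.W} (hx : x ≠ 0)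
    (hxq : Q (x : ι → F) = 0) {χ : OG Q → ℂ} (hχ : IsIrrCharacter (OG Q) χ) {k : ℕ} (hk : χ 1 = k)
    (hval : (Fintype.card F : ℂ) * χ (root hb P x) =
      (Fintype.card F : ℂ) * k - (Fintype.card F : ℂ) ^ d) :
    k * (Fintype.card F ^ 2 - 1) ∣
      Nat.card {v : ι → F // v ≠ 0 ∧ Q v = 0} * levN P 0 * Fintype.card F ^ (d - 1) := by
  obtain ⟨j, rfl⟩ : ∃ j, d = j + 1 := ⟨d - 1, by omega⟩
  have hq0 : (Fintype.card F : ℂ) ≠ 0 := Nat.cast_ne_zero.mpr Fintype.card_ne_zero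
  have hv : χ (root hb P x) = (k : ℂ) - (Fintype.card F : ℂ) ^ j := by
    refine mul_left_cancel₀ hq0 ?_
    rw [hval]; ring
  have h := Char.isIntegral_omega_irr hχ (root hb P x)
  rw [Char.omega, hk, hv] at h
  have hk0 : k ≠ 0 := fun e => irr_degree_ne_zero hχ (by rw [hk, e, Nat.cast_zero])
  have hk0' : (k : ℂ) ≠ 0 := Nat.cast_ne_zero.mpr hk0
  obtain ⟨C, hC⟩ : ∃ C, C = (Subgroup.centralizer ({root hb P x} : Set (OG Q))).index := ⟨_, rfl⟩
  rw [← hC] at h
  have h2 : IsIntegral ℤ (((C * Fintype.card F ^ j : ℕ) : ℂ) / k) := by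
    have h3 : IsIntegral ℤ (C : ℂ) := by simpa using isIntegral_algebraMap (R := ℤ) (A := ℂ) (x := (C : ℤ))
    have h4 := h3.sub h
    have e : (C : ℂ) - (C : ℂ) * ((k : ℂ) - (Fintype.card F : ℂ) ^ j) / k =
        ((C * Fintype.card F ^ j : ℕ) : ℂ) / k := by
      push_cast
      field_simp
      ring
    rwa [e] at h4
  have h4 := Char.dvd_of_isIntegral_div hk0 h2
  have h5 := index_root hb P hd hd4 hx hxq
  rw [← hC] at h5
  have h6 : C * (Fintype.card F ^ 2 - 1) =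
      Nat.card {v : ι → F // v ≠ 0 ∧ Q v = 0} * levN P 0 := by
    refine Nat.eq_of_mul_eq_mul_left (Fintype.card_pos (α := F)) ?_
    rw [mul_left_comm, h5]; ring
  rw [Nat.add_sub_cancel, ← h6, mul_right_comm]
  exact Nat.mul_dvd_mul_right h4 _

end CfsgLib.OrthMinDegree
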