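import Cfsg.Agent.Lib.OrthMinDegree.Base
import Cfsg.Agent.Lib.OrthMinDegree.Arith
import Cfsg.Agent.Lib.OrthMinDegree.RootClass
import Cfsg.Agent.Lib.OrthMinDegree.Plus

/-!
The least degree for minus type.
-/

set_option autoImplicit false
set_option linter.unusedSectionVars false

namespace CfsgLib.OrthMinDegree

open CfsgLib.Orth CfsgLib.MinIndexOrth Cfsg CfsgLib.Char

variable {F : Type*} [Field F] [Fintype F] {a b : F}

local notation "q" => Fintype.card F

/-- The bound proved in rank `i + 3`: one less than the least degree in rank three. -/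
def bM (s : ℕ) : ℕ → ℕ
  | 0 => kM s 3 - 1
  | i + 1 => kM s (i + 4)

theorem bM_ge (s i : ℕ) : kM s (i + 3) ≤ bM s i + 1 := by
  cases i with
  | zero => rw [bM, Nat.zero_add]; omega
  | succ i => rw [bM]; exact Nat.le_succ _

/-- The embedding missing the first pair. -/
def minusTail (j : ℕ) : ((Fin j ⊕ Fin j) ⊕ Fin 2 → F) →ₗ[F]
    ((Fin (j + 1) ⊕ Fin (j + 1)) ⊕ Fin 2 → F) where
  toFun y := Sum.elim (plusTail j fun i => y (.inl i)) fun i => y (.inr i)
  map_add' x y := by
    funext i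
    rcases i with i | i
    · exact congrFun (map_add (plusTail j) (fun i => x (.inl i)) fun i => y (.inl i)) i
    · rfl
  map_smul' c x := by
    funext i
    rcases i with i | i
    · exact congrFun (map_smul (plusTail j) c fun i => x (.inl i)) i
    · rfl

theorem minusTail_injective (j : ℕ) : Function.Injective (minusTail (F := F) j) := fun x y e => by
  have h := plusTail_injective (F := F) j (a₁ := fun i => x (.inl i)) (a₂ := fun i => y (.inl i))
    (funext fun i => congrFun e (.inl i))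
  funext i
  rcases i with i | i
  exacts [congrFun h i, congrFun e (.inr i)]

/-- The standard pair. -/
noncomputable def minusPair (j : ℕ) {Q : QuadraticForm F ((Fin (j + 1) ⊕ Fin (j + 1)) ⊕ Fin 2 → F)}
    (hQ : ⇑Q = Cfsg.quadFormMinus (j + 1) F a b) : HP Q where
  v := Pi.single (.inl (.inl 0)) 1
  f := Pi.single (.inl (.inr 0)) 1
  hv := by classical rw [hQ]; simp [Cfsg.quadFormMinus]
  hf := by classical rw [hQ]; simp [Cfsg.quadFormMinus]
  hvf := by classical rw [hQ, polar_minus]; simp [Pi.single_apply]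

theorem minus_range (j : ℕ) {Q : QuadraticForm F ((Fin (j + 1) ⊕ Fin (j + 1)) ⊕ Fin 2 → F)}
    (hQ : ⇑Q = Cfsg.quadFormMinus (j + 1) F a b) (hB : Nondeg Q) :
    LinearMap.range (minusTail j) = (minusPair j hQ).W := by
  classical
  refine Submodule.eq_of_le_of_finrank_eq ?_ ?_
  · rintro _ ⟨y, rfl⟩
    refine (minusPair j hQ).mem_W.2 ⟨?_, ?_⟩ <;>
      (rw [hQ, polar_minus]
       simp [minusPair, minusTail, plusTail, Pi.single_apply, Fin.sum_univ_succ])
  · have := (minusPair j hQ).finrank_W hB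
    rw [LinearMap.finrank_range_of_inj (minusTail_injective j), minus_dim]
    rw [minus_dim] at this
    omega

theorem minus_comp (j : ℕ) {Q : QuadraticForm F ((Fin (j + 1) ⊕ Fin (j + 1)) ⊕ Fin 2 → F)}
    (hQ : ⇑Q = Cfsg.quadFormMinus (j + 1) F a b)
    {Q' : QuadraticForm F ((Fin j ⊕ Fin j) ⊕ Fin 2 → F)} (hQ' : ⇑Q' = Cfsg.quadFormMinus j F a b) :
    Q.comp (minusTail j) = Q' := by
  refine QuadraticMap.ext fun y => ?_
  rw [QuadraticMap.comp_apply, hQ, hQ']
  simp [Cfsg.quadFormMinus, minusTail, plusTail, Fin.sum_univ_succ]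

variable (hab : ∀ z₁ z₂ : F, z₁ ^ 2 + a * z₁ * z₂ + b * z₂ ^ 2 = 0 → z₁ = 0 ∧ z₂ = 0)

theorem minus_lev_ge {i L : ℕ} {s : ℕ} (hs : 2 ≤ s) (h : s ^ (2 * (i + 3)) ≤ s * L + s ^ (i + 4)) :
    kM s (i + 4) ≤ 2 * (L - 1) := by
  have hf := kM_formula hs (i + 1)
  rw [show i + 1 + 3 = i + 4 from rfl, show i + 1 + 2 = i + 3 from rfl] at hf
  obtain ⟨x, hx⟩ : ∃ x : ℤ, x = (s : ℤ) ^ (i + 2) := ⟨_, rfl⟩
  have h' : (s : ℤ) ^ (2 * (i + 3)) ≤ s * L + (s : ℤ) ^ (i + 4) := by exact_mod_cast h
  rw [show (s : ℤ) ^ (2 * (i + 3)) = s * s * (x * x) by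
      rw [hx, show 2 * (i + 3) = i + 2 + (i + 2) + 2 by ring, pow_add, pow_add]; ring,
    show (s : ℤ) ^ (i + 4) = s * s * x by rw [hx, pow_add _ (i + 2) 2]; ring] at h'
  rw [show (s : ℤ) ^ (i + 4) = s * s * x by rw [hx, pow_add _ (i + 2) 2]; ring,
    show (s : ℤ) ^ (i + 3) = s * x by rw [hx, pow_succ]; ring] at hf
  have hs' : (2 : ℤ) ≤ s := by exact_mod_cast hs
  have hx4 : (s : ℤ) ^ 2 ≤ x := hx ▸ pow_le_pow_right₀ (by omega) (by omega)
  have hL : (s : ℤ) * (x * x) - s * x ≤ L := le_of_mul_le_mul_left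
    (by linarith : (s : ℤ) * ((s : ℤ) * (x * x) - s * x) ≤ s * L) (by omega)
  suffices hsuff : (kM s (i + 4) : ℤ) + 2 ≤ 2 * L by omega
  refine le_of_mul_le_mul_left (a := (s : ℤ) ^ 2 - 1) ?_ (by nlinarith)
  have h22 : (2 : ℤ) ≤ (s : ℤ) ^ 2 - 2 := by nlinarith
  have hx0 : (0 : ℤ) ≤ (s : ℤ) * x := by nlinarith
  nlinarith [mul_le_mul_of_nonneg_left hL (show (0 : ℤ) ≤ (s : ℤ) ^ 2 - 1 by nlinarith),
    mul_le_mul_of_nonneg_left hx4 (mul_nonneg hx0 (by linarith : (0 : ℤ) ≤ (s : ℤ) ^ 2 - 2)),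
    mul_le_mul_of_nonneg_left hx4 (show (0 : ℤ) ≤ (s : ℤ) by linarith),
    mul_le_mul_of_nonneg_left h22 (mul_nonneg (show (0 : ℤ) ≤ (s : ℤ) ^ 3 by positivity)
      (show (0 : ℤ) ≤ x by nlinarith))]

theorem minus_big {i L : ℕ} {s : ℕ} (hs : 2 ≤ s)
    (h : s ^ (2 * (i + 3)) + s ^ (i + 3) ≤ s * L) :
    (s ^ (i + 3) + 1) * (s ^ (i + 2) - 1) + 2 ≤ L := by
  have h1 : 1 ≤ s ^ (i + 2) := Nat.one_le_pow _ _ (by omega)
  have h4 : s ^ 1 ≤ s ^ (i + 3) := Nat.pow_le_pow_right (by omega) (by omega)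
  rw [pow_one] at h4
  obtain ⟨y, hy⟩ : ∃ y, s ^ (i + 2) = y + 1 := ⟨s ^ (i + 2) - 1, by omega⟩
  rw [hy, Nat.add_sub_cancel]
  refine Nat.le_of_mul_le_mul_left (le_trans ?_ h) (show 0 < s by omega)
  rw [show s ^ (2 * (i + 3)) = s ^ (i + 2) * s ^ (i + 2) * (s * s) by ring,
    show s ^ (i + 3) = s ^ (i + 2) * s by ring, hy]
  nlinarith [Nat.mul_le_mul_left (s * (y + 1)) hs, Nat.mul_le_mul_left y hs, Nat.zero_le y]

include hab in
theorem minus_base {Q : QuadraticForm F ((Fin 2 ⊕ Fin 2) ⊕ Fin 2 → F)}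
    (hQ : ⇑Q = Cfsg.quadFormMinus 2 F a b) (hB : Nondeg Q) : MinB Q (bM q 0) := by
  classical
  intro χ hχ h1 k hk
  obtain ⟨Q', hQ', hB'⟩ := exists_quadForm_minus (F := F) 1 hab
  have hb : Big Q := ⟨hB, by rw [minus_dim]; norm_num⟩
  let P := minusPair 1 hQ
  have hd : Module.finrank F P.W = 4 := by
    have := dim_le P hb
    rw [minus_dim] at this
    omega
  obtain ⟨c₀, hc0, hc0'⟩ := weight_bound hb P hd le_rfl hχ h1 hk
  have hq := Fintype.one_lt_card (α := F)
  have h3 := kM_three q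
  have hq2 : q ≤ q * q := Nat.le_mul_of_pos_left q (by omega)
  by_cases h0 : c₀ = 0
  · subst h0
    rw [levN_eq_pull P (minusTail_injective 1) (minus_comp 1 hQ hQ') (minus_range 1 hQ hB),
      minus_points hab hQ' hB', Nat.card_eq_fintype_card,
      Nat.div_mul_cancel (Dvd.dvd.mul_left (sub_one_mul_geom _) _)] at hc0
    refine le_trans ?_ hc0
    rw [bM, h3, pow_one]
    zify [show 1 ≤ q by omega, hq2, show 1 ≤ q * (q * q - q + 1) from Nat.mul_pos (by omega) (Nat.succ_pos _)]
    ring_nf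
    rfl
  · rw [bM, h3]
    by_cases hq4 : 4 ≤ q
    · obtain ⟨c, hc, hne⟩ : ∃ c : F, c ≠ 0 ∧ c * c * c₀ ≠ c₀ := by
        by_contra hcon
        push Not at hcon
        exact h0 (exists_scale_ne hq4 hcon)
      have h4 := hc0' c hc hne
      rw [levN_eq_lev P h0, levN_eq_lev P (mul_ne_zero (mul_ne_zero hc hc) h0)] at h4
      have l1 := (lev_bound hB 4 P.W (P.nondeg hB) hd c₀).1
      have l2 := (lev_bound hB 4 P.W (P.nondeg hB) hd (c * c * c₀)).1
      rw [Nat.card_eq_fintype_card] at l1 l2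
      norm_num at l1 l2
      refine le_trans ?_ h4
      zify [hq2, show 1 ≤ q * (q * q - q + 1) from Nat.mul_pos (by omega) (Nat.succ_pos _)] at l1 l2 ⊢
      have hq' : (4 : ℤ) ≤ (q : ℤ) := by exact_mod_cast hq4
      refine le_of_mul_le_mul_left (a := (q : ℤ)) ?_ (by omega)
      nlinarith [mul_le_mul_of_nonneg_left hq' (show (0 : ℤ) ≤ (q : ℤ) ^ 3 by positivity),
        mul_le_mul_of_nonneg_left hq' (show (0 : ℤ) ≤ (q : ℤ) ^ 2 by positivity)]
    · rw [levN_eq_lev P h0] at hc0
      have l1 := lev_minus_ge hB (by rw [Nat.card_eq_fintype_card]; omega) 2 P.W (P.nondeg hB) hd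
        (minus_no_half_point hab hQ P) _ h0
      rw [Nat.card_eq_fintype_card] at l1
      norm_num at l1
      refine le_trans ?_ hc0
      zify [hq2, show 1 ≤ q * (q * q - q + 1) from Nat.mul_pos (by omega) (Nat.succ_pos _)] at l1 ⊢
      refine le_of_mul_le_mul_left (a := (q : ℤ)) ?_ (by omega)
      nlinarith [sq_nonneg (q : ℤ), sq_nonneg ((q : ℤ) - 1), pow_nonneg (show (0 : ℤ) ≤ q by omega) 3]

/-- No character of degree 32 for minus type in dimension eight over two elements. -/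
def NoThirtyTwo (F : Type*) [Field F] [Fintype F] (a b : F) : Prop :=
  ∀ Q : QuadraticForm F ((Fin 3 ⊕ Fin 3) ⊕ Fin 2 → F), ⇑Q = Cfsg.quadFormMinus 3 F a b → Nondeg Q →
    Fintype.card F = 2 → ∀ χ : OG Q → ℂ, IsIrrCharacter (OG Q) χ → χ 1 = (32 : ℕ) → False

include hab in
theorem minus_minB (hhole : NoThirtyTwo F a b) :
    ∀ (i : ℕ) (Q : QuadraticForm F ((Fin (i + 2) ⊕ Fin (i + 2)) ⊕ Fin 2 → F)),
    ⇑Q = Cfsg.quadFormMinus (i + 2) F a b → Nondeg Q → MinB Q (bM q i) := by
  classical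
  intro i
  induction i with
  | zero => intro Q hQ hB; exact minus_base hab hQ hB
  | succ i ih =>
    rw [show i + 1 + 2 = i + 2 + 1 from rfl]
    intro Q hQ hB χ hχ h1 k hk
    by_contra hlt
    rw [Nat.not_le, bM] at hlt
    have hq := Fintype.one_lt_card (α := F)
    obtain ⟨Q', hQ', hB'⟩ := exists_quadForm_minus (F := F) (i + 2) hab
    have hb : Big Q := ⟨hB, by rw [minus_dim]; omega⟩
    let P := minusPair (i + 2) hQ
    have hcomp := minus_comp (i + 2) hQ hQ'
    have hW := minus_range (i + 2) hQ hB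
    have hd : Module.finrank F P.W = 2 * (i + 3) := by
      have := dim_le P hb
      rw [minus_dim] at this
      omega
    have hfix : FixBound P (bM q i) :=
      fixBound_of_minB hb P hB' (by rw [minus_dim]; omega) (minusTail_injective _) hcomp hW
        (ih Q' hQ' hB')
    have hN : levN P 0 = (q ^ (i + 3) + 1) * (q ^ (i + 2) - 1) := by
      rw [levN_eq_pull P (minusTail_injective _) hcomp hW, minus_points hab hQ' hB',
        Nat.card_eq_fintype_card, Nat.div_mul_cancel (Dvd.dvd.mul_left (sub_one_mul_geom _) _)]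
    have hlow : ∀ c : F, kM q (i + 4) ≤ 2 * levN P c := by
      intro c
      have h2 := (lev_bound hB _ P.W (P.nondeg hB) hd c).1
      rw [show 2 * (i + 3) / 2 + 1 = i + 4 by omega, Nat.card_eq_fintype_card] at h2
      refine (minus_lev_ge (by omega) h2).trans (Nat.mul_le_mul_left 2 ?_)
      have := lev_le_levN_succ P c
      omega
    have hnh : ¬ HasHalf Q P.W (i + 3) := minus_no_half_point hab hQ P
    have hsmall : ∀ c : F, c ≠ 0 → q = 2 ∨ q = 3 → kM q (i + 4) ≤ levN P c + bM q i := by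
      intro c hc hq23
      have l1 := lev_minus_ge hB (by rw [Nat.card_eq_fintype_card]; exact hq23) (i + 3) P.W
        (P.nondeg hB) hd hnh c hc
      rw [Nat.card_eq_fintype_card, ← levN_eq_lev P hc] at l1
      have h2 := minus_big (by omega) l1
      have h4 := bM_ge q i
      rw [show i + 4 = i + 3 + 1 from rfl, kM_succ q (by omega), show i + 3 - 1 = i + 2 from rfl]
      omega
    have hroom : ∀ w : P.W, w ≠ 0 → levN P (Q (w : _ → F)) < kM q (i + 4) → Room P w := by
      intro w _ hw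
      rcases Nat.lt_or_ge q 4 with hq3 | hq4
      · rcases Nat.eq_zero_or_pos i with rfl | hi
        · refine Or.inr (Or.inr ⟨?_, fun S hS hSq => ?_⟩)
          · by_cases hc : Q (w : _ → F) = 0
            · exact Or.inl hc
            refine Or.inr fun h2 => ?_
            have hq2 : q = 2 := by
              by_contra hne
              have h30 := three_eq_zero (F := F) (by rw [Nat.card_eq_fintype_card]; omega)
              exact one_ne_zero (α := F) (by linear_combination h30 - h2)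
            have l1 := lev_minus_ge hB (by rw [Nat.card_eq_fintype_card]; exact Or.inl hq2) 3 P.W
              (P.nondeg hB) hd hnh _ hc
            rw [Nat.card_eq_fintype_card, ← levN_eq_lev P hc, hq2] at l1
            have h4 : kM 2 4 = 34 := by
              rw [kM_succ 2 (le_refl 3), kM_three]; norm_num
            rw [hq2, h4] at hw
            omega
          · by_contra hcon
            exact hnh ⟨S, hS, hSq, by omega⟩
        · exact Or.inr (Or.inl (by omega))
      · exact Or.inl hq4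
    obtain ⟨c, hka, hscale, hroot⟩ := step hb P hd (by omega) hlow hroom hfix hχ h1 hk hlt
    have hc0 : c = 0 := by
      by_contra hne
      rcases Nat.lt_or_ge q 4 with hq3 | hq4
      · have := hsmall c hne (by omega)
        omega
      · exact hne (exists_scale_ne hq4 hscale)
    subst hc0
    rw [hN] at hka
    obtain ⟨x, hx0, hxq⟩ : ∃ x : P.W, x ≠ 0 ∧ Q (x : _ → F) = 0 := by
      obtain ⟨v, hv, hv0, hvq⟩ := exists_singular (Q := Q) (U := P.W) (by omega)
      exact ⟨⟨v, hv⟩, fun e => hv0 (congrArg Subtype.val e), hvq⟩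
    have hdvd := dvd_root hb P hd (by omega) hx0 hxq hχ hk (hroot x hx0 hxq)
    rw [hN, minus_points hab hQ hB, Nat.card_eq_fintype_card,
      Nat.div_mul_cancel (Dvd.dvd.mul_left (sub_one_mul_geom _) _)] at hdvd
    have hrec := kM_succ q (show 3 ≤ i + 3 by omega)
    rw [show i + 3 - 1 = i + 2 from rfl] at hrec
    by_cases hlast : k + 1 = kM q (i + 4)
    · exact minus_excluded (by omega) hlast hdvd
    cases i with
    | succ i =>
      rw [bM] at hka
      rw [show i + 1 + 3 = i + 4 from rfl, show i + 1 + 2 = i + 3 from rfl] at hrec hka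
      rw [show i + 1 + 4 = i + 4 + 1 from rfl] at hlast hlt
      omega
    | zero =>
      rw [bM] at hka
      simp only [Nat.zero_add, show (3 : ℕ) + 1 = 4 from rfl] at hlt hlast hrec hka
      have h2 : k + 2 = kM q 4 := by omega
      rcases (show q = 2 ∨ 3 ≤ q by omega) with hq2 | hq3
      · have h4 : kM q 4 = 34 := by
          rw [hq2, kM_succ 2 (le_refl 3), kM_three]; norm_num
        exact hhole Q hQ hB hq2 χ hχ (by rw [hk, show k = 32 by omega])
      · exact minus_four_excluded hq3 h2 hdvd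

end CfsgLib.OrthMinDegree
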