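import Mathlib

/-!
The degree `n` below the least one, in odd dimension, is excluded by divisibility.
-/

set_option autoImplicit false

namespace CfsgLib.OrthMinDegree

/-- The geometric sum of the even powers. -/
def oK (Q n : ℕ) : ℕ := ∑ l ∈ Finset.range n, Q ^ l

theorem oK_succ (Q n : ℕ) : oK Q (n + 1) = Q * oK Q n + 1 := by
  rw [oK, oK, Finset.sum_range_succ', Finset.mul_sum, pow_zero]
  congr 1
  exact Finset.sum_congr rfl fun l _ => pow_succ' Q l

theorem oK_succ' (Q n : ℕ) : oK Q (n + 1) = oK Q n + Q ^ n := by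
  rw [oK, oK, Finset.sum_range_succ]

theorem oK_add (Q a b : ℕ) : oK Q (a + b) = oK Q a + Q ^ a * oK Q b := by
  rw [oK, oK, oK, Finset.sum_range_add, Finset.mul_sum]
  congr 1
  exact Finset.sum_congr rfl fun l _ => pow_add Q a l

theorem oK_lt {Q : ℕ} (hQ : 2 ≤ Q) : ∀ n, oK Q n < Q ^ n
  | 0 => by simp [oK]
  | n + 1 => by
    rw [oK_succ', pow_succ]
    have := oK_lt hQ n
    have := Nat.mul_le_mul_left (Q ^ n) hQ
    omega

theorem cube_le {Q : ℕ} (hQ : 25 ≤ Q) : ∀ i : ℕ, (i + 7) ^ 3 + (i + 7) + 1 ≤ Q ^ (i + 3)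
  | 0 => by
    refine le_trans ?_ (Nat.pow_le_pow_left hQ 3)
    norm_num
  | i + 1 => by
    have h := cube_le hQ i
    rw [pow_succ Q (i + 3)]
    refine le_trans ?_ (Nat.mul_le_mul h hQ)
    ring_nf
    omega

theorem odd_excluded {q n k : ℕ} (hq : IsPrimePow q) (hq5 : 5 ≤ q) (hn : 3 ≤ n)
    (hk : k + n = oK (q ^ 2) n)
    (hdvd : k * (q ^ 2 - 1) ∣ (q ^ (2 * n) - 1) * (q ^ (2 * n - 2) - 1) * q ^ (2 * n - 2)) :
    False := by
  obtain ⟨p, f, hp, hf, rfl⟩ := hq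
  have hpp : p.Prime := hp.nat_prime
  obtain ⟨Q, hQ⟩ : ∃ Q, Q = (p ^ f) ^ 2 := ⟨_, rfl⟩
  have hQ25 : 25 ≤ Q := hQ ▸ (by nlinarith)
  obtain ⟨m, rfl⟩ : ∃ m, n = m + 1 := ⟨n - 1, by omega⟩
  rw [← hQ] at hk hdvd
  rw [pow_mul, show 2 * (m + 1) - 2 = 2 * m by omega, pow_mul, ← hQ] at hdvd
  obtain ⟨K, hK⟩ : ∃ K, K = oK Q (m + 1) := ⟨_, rfl⟩
  obtain ⟨K', hK'⟩ : ∃ K', K' = oK Q m := ⟨_, rfl⟩
  have hKK : K = Q * K' + 1 := by rw [hK, hK', oK_succ]
  have hg : ∀ i, (Q - 1) * oK Q i = Q ^ i - 1 := fun i => by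
    rw [mul_comm]; exact geom_sum_mul_of_one_le (by omega) i
  rw [← hg, ← hg, ← hK, ← hK'] at hdvd
  rw [← hK] at hk
  have hd : k ∣ K * (K' * (Q ^ m * (Q - 1))) := by
    refine Nat.dvd_of_mul_dvd_mul_right (show 0 < Q - 1 by omega) (hdvd.trans (dvd_of_eq ?_))
    ring
  have hk0 : 0 < k := by
    by_contra h
    have h1 := oK_lt (show 2 ≤ Q by omega) m
    have h2 : Q * K' + 1 = m + 1 := by omega
    have h3 : m ≤ K' := by
      rw [hK', oK]
      refine le_trans (le_of_eq (Finset.card_range m).symm) ?_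
      rw [Finset.card_eq_sum_ones]
      exact Finset.sum_le_sum fun l _ => Nat.one_le_pow _ _ (by omega)
    have := Nat.mul_le_mul hQ25 h3
    omega
  have d1 := (Nat.dvd_gcd_mul_iff_dvd_mul.2 hd)
  have d2 : k ∣ Nat.gcd k K * (Nat.gcd k K' * (Nat.gcd k (Q ^ m) * (Q - 1))) := by
    have h1 : k ∣ K' * (Nat.gcd k K * (Q ^ m * (Q - 1))) := d1.trans (dvd_of_eq (by ring))
    have h2 := Nat.dvd_gcd_mul_iff_dvd_mul.2 h1
    have h3 : k ∣ Q ^ m * (Nat.gcd k K * (Nat.gcd k K' * (Q - 1))) := h2.trans (dvd_of_eq (by ring))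
    exact (Nat.dvd_gcd_mul_iff_dvd_mul.2 h3).trans (dvd_of_eq (by ring))
  have hA : Nat.gcd k K ∣ m + 1 := by
    rw [← Nat.dvd_add_right (Nat.gcd_dvd_left k K), hk]
    exact Nat.gcd_dvd_right k K
  have hB : Nat.gcd k K' ∣ m := by
    rw [← Nat.dvd_add_right (Nat.gcd_dvd_left k K'), show k + m = Q * K' by omega]
    exact (Nat.gcd_dvd_right k K').mul_left Q
  obtain ⟨a, -, ha⟩ := (Nat.dvd_prime_pow hpp).1
    (show Nat.gcd k (Q ^ m) ∣ p ^ (f * 2 * m) by
      rw [pow_mul, pow_mul, ← hQ]; exact Nat.gcd_dvd_right _ _)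
  have hQp : ∀ r, Q ^ r = p ^ (f * 2 * r) := fun r => by rw [hQ, ← pow_mul, ← pow_mul, mul_assoc]
  have hbound : ∀ G, Nat.gcd k (Q ^ m) ≤ G → k ≤ (m + 1) * (m * (G * (Q - 1))) := by
    intro G hG
    refine (Nat.le_of_dvd ?_ d2).trans (Nat.mul_le_mul (Nat.le_of_dvd (by omega) hA)
      (Nat.mul_le_mul (Nat.le_of_dvd (by omega) hB) (Nat.mul_le_mul_right _ hG)))
    have := Nat.gcd_pos_of_pos_left K hk0
    have := Nat.gcd_pos_of_pos_left K' hk0
    have := Nat.gcd_pos_of_pos_left (Q ^ m) hk0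
    have : 0 < Q - 1 := by omega
    positivity
  have hlow : Q ^ m ≤ k + (m + 1) := by
    rw [hk, hK, oK_succ']; exact Nat.le_add_left _ _
  by_cases hsmall : m ≤ 5
  · have hgm : Nat.gcd k (Q ^ m) ≤ m := by
      refine Nat.le_of_dvd (by omega) ?_
      rw [ha]
      rcases Nat.lt_or_ge a (f * 2) with h | h
      · rw [← Nat.dvd_add_right (show p ^ a ∣ k from ha ▸ Nat.gcd_dvd_left _ _),
          show k + m = Q * K' by omega]
        refine Dvd.dvd.mul_right ?_ _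
        rw [show Q = p ^ (f * 2) by rw [hQ, ← pow_mul]]
        exact pow_dvd_pow p h.le
      · have h1 : Q ∣ k := by
          rw [show Q = p ^ (f * 2) by rw [hQ, ← pow_mul]]
          exact (pow_dvd_pow p h).trans (ha ▸ Nat.gcd_dvd_left _ _)
        have h2 : Q ∣ m := by
          rw [← Nat.dvd_add_right h1, show k + m = Q * K' by omega]
          exact dvd_mul_right Q K'
        have := Nat.le_of_dvd (by omega) h2
        omega
    have h := hbound m hgm
    obtain ⟨R, rfl⟩ : ∃ R, Q = R + 25 := ⟨Q - 25, by omega⟩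
    have : 2 ≤ m := by omega
    interval_cases m
    · have hK3 : K = (R + 25) ^ 2 + (R + 25) + 1 := by
        rw [hK]; simp only [oK, Finset.sum_range_succ, Finset.sum_range_zero]; ring
      rw [show R + 25 - 1 = R + 24 by omega] at h
      nlinarith
    all_goals
      rw [show R + 25 - 1 = R + 24 by omega] at h
      nlinarith [Nat.zero_le (R ^ 2), Nat.zero_le (R ^ 3), Nat.zero_le (R ^ 4), Nat.zero_le (R ^ 5)]
  · obtain ⟨s, hs1, hs2⟩ : ∃ s, Q ^ s ≤ m + 1 ∧ m + 1 < Q ^ (s + 1) :=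
      ⟨Nat.log Q (m + 1), Nat.pow_log_le_self Q (by omega), Nat.lt_pow_succ_log_self (by omega) _⟩
    have hsm : s + 2 ≤ m + 1 := by
      have h1 : 2 ^ s ≤ m + 1 := le_trans (Nat.pow_le_pow_left (by omega) s) hs1
      have h2 := Nat.lt_two_pow_self (n := s)
      rcases Nat.lt_or_ge s 3 with h | h
      · omega
      · have h3 : 2 * (s - 1) ≤ 2 ^ s := by
          obtain ⟨i, rfl⟩ : ∃ i, s = i + 1 := ⟨s - 1, by omega⟩
          have h4 := Nat.lt_two_pow_self (n := i)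
          rw [pow_succ]
          omega
        omega
    have hgs : Nat.gcd k (Q ^ m) ∣ Q ^ (s + 2) := by
      rw [ha, hQp]
      rcases Nat.lt_or_ge a (f * 2 * (s + 2)) with h | h
      · exact pow_dvd_pow p h.le
      · exfalso
        have h1 : Q ^ (s + 2) ∣ k := by
          rw [hQp]; exact (pow_dvd_pow p h).trans (ha ▸ Nat.gcd_dvd_left _ _)
        obtain ⟨t, ht⟩ : ∃ t, m + 1 = s + 2 + t := ⟨m + 1 - (s + 2), by omega⟩
        have hL := oK_lt (show 2 ≤ Q by omega) (s + 2)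
        have hL2 : Q ^ (s + 1) ≤ oK Q (s + 2) := by rw [oK_succ']; exact Nat.le_add_left _ _
        have hdec : k = (oK Q (s + 2) - (m + 1)) + Q ^ (s + 2) * oK Q t := by
          have : k + (m + 1) = oK Q (s + 2) + Q ^ (s + 2) * oK Q t := by
            rw [hk, hK, ← oK_add, ← ht]
          omega
        rw [hdec, Nat.dvd_add_left (dvd_mul_right _ _)] at h1
        have := Nat.le_of_dvd (by omega) h1
        omega
    have h := hbound ((m + 1) * (Q * Q)) (le_trans (Nat.le_of_dvd (Nat.pow_pos (by omega)) hgs) (by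
      rw [pow_add, pow_two]; exact Nat.mul_le_mul_right _ hs1))
    obtain ⟨i, rfl⟩ : ∃ i, m = i + 6 := ⟨m - 6, by omega⟩
    have hc := cube_le hQ25 i
    have e : Q ^ (i + 6) = Q ^ (i + 3) * (Q * Q * Q) := by rw [pow_add, pow_add]; ring
    have h1 := Nat.mul_le_mul_right (Q * Q * Q) hc
    have h2 : (i + 6 + 1) * ((i + 6) * ((i + 6 + 1) * (Q * Q) * (Q - 1))) ≤ (i + 7) ^ 3 * (Q * Q * Q) := by
      calc _ ≤ (i + 7) * ((i + 7) * ((i + 7) * (Q * Q) * Q)) := by gcongr <;> omega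
        _ = _ := by ring
    have h3 : i + 7 < Q * Q * Q * 1 + i + 7 := by
      have : 0 < Q * Q * Q := by positivity
      omega
    have h4 : i + 7 ≤ (i + 7) ^ 3 * 1 := by rw [mul_one]; exact Nat.le_self_pow (by norm_num) _
    have h5 : i + 7 ≤ (i + 7) * (Q * Q * Q) := Nat.le_mul_of_pos_right _ (by positivity)
    have h6 : 0 < Q * Q * Q := by positivity
    nlinarith [h1, h2, h5, h6]

end CfsgLib.OrthMinDegree
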