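import Cfsg.Agent.Lib.OrthMinDegree.OddSigns
import Cfsg.Agent.Lib.Classical.SympMinDegree

/-!
The space fixed by the whole chain has dimension at least the rank, when it is not zero.
-/

set_option autoImplicit false
set_option linter.unusedSectionVars false

namespace CfsgLib.OrthMinDegree

open CfsgLib.Orth CfsgLib.MinIndexOrth Cfsg

variable {F : Type*} [Field F] [Fintype F] {ι : Type} [Fintype ι] [DecidableEq ι]
variable {Q : QuadraticForm F (ι → F)}
variable {M : Type*} [AddCommGroup M] [Module ℂ M] [FiniteDimensional ℂ M]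

local notation "B" => QuadraticMap.polar (DFunLike.coe Q)

variable (ρ : Representation ℂ (OG Q) M) {n : ℕ} (Fr : Frame Q n)
variable (hb : Big Q) (hq : 4 ≤ Fintype.card F) (hn : 3 ≤ n)
  (h0 : Single ρ ⊤ (Fr.p 0).v (Fr.dsp 1)) {c : Fˣ} (hc : ∀ x : Fˣ, x ∈ Subgroup.zpowers c)
  (hodd : Odd (Fintype.card F))

include hb hq hn h0 hc hodd in
/-- A pair with a later neighbour. -/
theorem Frame.sides_right {j : ℕ} (hj : j + 2 < n) {gz gh gb : OG Q} (hz : Fr.IsDiag gz (dz j c))
    (hh : Fr.IsDiag gh (dh j c)) (hgb : Fr.IsDiag gb (dz (j + 1) c)) :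
    Fr.Sides ρ j c gz gh gb (gb * gh) (dz (j + 1) c) := by
  have hd : (dz (j + 1) c ∘ Equiv.swap j (j + 1)) = fun i => dz (j + 1) c i * dh j c i := by
    funext i
    simp only [Function.comp_apply, Equiv.swap_apply_def, dz, dh]
    split_ifs <;> first | omega | simp_all
  refine ⟨hz, hh, hgb, hd ▸ hgb.mul Fr hh, fun m hm => ?_, fun m hm => ?_⟩
  · obtain ⟨h1, h2⟩ := (Fr.mem_emin ρ).1 hm
    rw [rho_mul, ← (Fr.invol ρ hb hq (by omega) h0 hc hodd (by omega) hz hh h1).1, h2, map_neg]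
  · exact (Fr.invol ρ hb hq (by omega) h0 hc hodd (j := j + 1) (by omega) hgb
      (Fr.diag_dh hb hq (show j + 1 + 1 < n by omega) c) hm).2

include hb hq hn h0 hc hodd in
/-- A pair with an earlier neighbour. -/
theorem Frame.sides_left {j l : ℕ} (hl : l + 1 = j) (hj : j + 1 < n) {gz gh gb : OG Q}
    (hz : Fr.IsDiag gz (dz j c)) (hh : Fr.IsDiag gh (dh j c)) (hgb : Fr.IsDiag gb (dz l c)) :
    ∃ g, Fr.Sides ρ j c gz gh gb g (dz l c) := by
  obtain ⟨g, hg⟩ : ∃ g, Fr.IsDiag g (dz l c ∘ Equiv.swap j (j + 1)) :=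
    ⟨_, Fr.diag_conj hb hq hj hgb⟩
  refine ⟨g, hz, hh, hgb, hg, fun m hm => ?_, fun m hm => ?_⟩
  · obtain ⟨h1, h2⟩ := (Fr.mem_emin ρ).1 hm
    have e : gb = g * gh := hgb.ext Fr (hg.mul Fr hh) fun i _ => by
      simp only [Function.comp_apply, Equiv.swap_apply_def, dz, dh]
      split_ifs <;> first | omega | simp_all
    rw [e, rho_mul, ← (Fr.invol ρ hb hq (by omega) h0 hc hodd hj hz hh h1).1, h2, map_neg, neg_neg]
  · exact (Fr.invol ρ hb hq (by omega) h0 hc hodd (j := l) (by omega) hgb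
      (Fr.diag_dh hb hq (show l + 1 < n by omega) c) hm).2

variable {z : ℕ → OG Q} (hz : ∀ j, j + 1 < n → Fr.IsDiag (z j) (dz j c))

include hb hq hn h0 hc hodd hz in
/-- Neighbours: the signs occur equally often. -/
theorem Frame.near {j l : ℕ} (hj : j + 1 < n) (hl : l + 1 < n) (hjl : l = j + 1 ∨ l + 1 = j) :
    (Fr.emin ρ (z j) ≠ ⊥ → Fr.asp ρ (z j) (z l) 1 ≠ ⊥ ∧ Fr.asp ρ (z j) (z l) (-1) ≠ ⊥) ∧
      ∀ i, i + 1 < n → j + 2 ≤ i → ∀ m ∈ Fr.emin ρ (z j), ρ (z i) m = m := by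
  have hjz := hz j hj
  have hh := Fr.diag_dh hb hq hj c
  obtain ⟨g, d, hS⟩ : ∃ g d, Fr.Sides ρ j c (z j) ((Fr.duo hj).lev hb hq (dg c)) (z l) g d := by
    rcases hjl with rfl | hjl
    · exact ⟨_, _, Fr.sides_right ρ hb hq hn h0 hc hodd hl hjz hh (hz _ hl)⟩
    · obtain ⟨g, hg⟩ := Fr.sides_left ρ hb hq hn h0 hc hodd hjl hj hjz hh (hz _ hl)
      exact ⟨g, _, hg⟩
  obtain ⟨heq, hle⟩ := Fr.sign_eq ρ hj hb hq (by omega) h0 hc hodd hS
  refine ⟨fun hne => ?_, fun i hi hij => Fr.far_one ρ hj hb hq (by omega) h0 hc hodd hS hi hij (hz i hi)⟩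
  have h1 := Submodule.finrank_mono (Fr.asp_sup ρ hj hb hq h0 hS)
  have h2 := Submodule.finrank_add_le_finrank_add_finrank (Fr.asp ρ (z j) (z l) 1)
    (Fr.asp ρ (z j) (z l) (-1))
  have h3 := Submodule.one_le_finrank_iff.2 hne
  constructor <;> intro e <;> have e' := Submodule.finrank_eq_zero.2 e <;> omega

include hb hq hn h0 hc hodd hz in
theorem Frame.far {j l : ℕ} (hj : j + 1 < n) (hl : l + 1 < n) (hjl : j + 2 ≤ l ∨ l + 2 ≤ j) {m : M}
    (hm : m ∈ Fr.emin ρ (z j)) : ρ (z l) m = m := by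
  rcases hjl with h | h
  · exact (Fr.near ρ hb hq hn h0 hc hodd hz (l := j + 1) hj (by omega) (Or.inl rfl)).2 l hl h m hm
  · obtain ⟨h1, h2⟩ := (Fr.mem_emin ρ).1 hm
    have hk := (Fr.invol ρ hb hq (by omega) h0 hc hodd hl (hz l hl) (Fr.diag_dh hb hq hl c) h1).2
    have hcm : ρ (z j) (ρ (z l) m) = ρ (z l) (ρ (z j) m) := by
      rw [← rho_mul, Fr.diag_comm (hz j hj) (hz l hl), rho_mul]
    have ha : m - ρ (z l) m ∈ Fr.emin ρ (z l) := (Fr.mem_emin ρ).2
      ⟨sub_mem h1 ((hz l hl).fx_mem Fr ρ hb le_rfl h1), by rw [map_sub, hk, neg_sub]⟩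
    have h4 := (Fr.near ρ hb hq hn h0 hc hodd hz (j := l) (l := l + 1) hl (by omega) (Or.inl rfl)).2
      j hj h _ ha
    rw [map_sub, hcm, h2, map_neg] at h4
    linear_combination (norm := module) ((1 : ℂ) / 2) • h4

include hb hq hn h0 hc hodd hz in
theorem Frame.emin_spread {j : ℕ} (hj : j + 1 < n) (hne : Fr.emin ρ (z j) ≠ ⊥) :
    ∀ l, l + 1 < n → Fr.emin ρ (z l) ≠ ⊥ := by
  have step : ∀ a b, a + 1 < n → b + 1 < n → (b = a + 1 ∨ b + 1 = a) → Fr.emin ρ (z a) ≠ ⊥ →
      Fr.emin ρ (z b) ≠ ⊥ := by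
    intro a b ha hb' hab h
    obtain ⟨-, h2⟩ := (Fr.near ρ hb hq hn h0 hc hodd hz ha hb' hab).1 h
    obtain ⟨m, hm, hm0⟩ := Submodule.exists_mem_ne_zero_of_ne_bot h2
    obtain ⟨e1, -, e3⟩ := (Fr.mem_asp ρ).1 hm
    exact (Submodule.ne_bot_iff _).2 ⟨m, (Fr.mem_emin ρ).2 ⟨e1, by rw [e3, neg_one_smul]⟩, hm0⟩
  have down : ∀ t a, a + 1 < n → t ≤ a → Fr.emin ρ (z a) ≠ ⊥ → Fr.emin ρ (z (a - t)) ≠ ⊥ := by
    intro t
    induction t with
    | zero => intro a _ _ h; exact h
    | succ t ih =>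
      intro a ha hta h
      exact step (a - t) (a - (t + 1)) (by omega) (by omega) (Or.inr (by omega)) (ih a ha (by omega) h)
  have h00 : Fr.emin ρ (z 0) ≠ ⊥ := by simpa using down j j hj le_rfl hne
  intro l
  induction l with
  | zero => exact fun _ => h00
  | succ l ih => exact fun h => step l (l + 1) (by omega) h (Or.inl rfl) (ih (by omega))

include hb hq hn h0 hc hodd hz in
/-- If the central elements are trivial then so is the whole group. -/
theorem Frame.all_fixed (hall : ∀ j, j + 1 < n → Fr.emin ρ (z j) = ⊥) {m : M}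
    (hm : m ∈ Fr.fx ρ 0 n) : ∀ g : OG Q, ρ g m = m := by
  have hone : ∀ j, j + 1 < n → ∀ a ∈ Fr.fx ρ 0 n, ρ (z j) a = a := by
    intro j hj a ha
    have hk := (Fr.invol ρ hb hq (by omega) h0 hc hodd hj (hz j hj) (Fr.diag_dh hb hq hj c) ha).2
    have h1 : a - ρ (z j) a ∈ Fr.emin ρ (z j) := (Fr.mem_emin ρ).2
      ⟨sub_mem ha ((hz j hj).fx_mem Fr ρ hb le_rfl ha), by rw [map_sub, hk, neg_sub]⟩
    rw [hall j hj, Submodule.mem_bot] at h1
    exact (sub_eq_zero.1 h1).symm
  -- the groups of the pairs are trivial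
  have hA : ∀ j (hj : j + 1 < n) A, ρ ((Fr.duo hj).lev hb hq A) m = m := fun j hj A => by
    have h := Fr.lev_trivial ρ hb hq hj h0 hc hodd (hz j hj) A m (Fr.fx_le_xsp ρ hj hm)
    rw [hone j hj m hm, map_add] at h
    linear_combination (norm := module) ((1 : ℂ) / 2) • h
  have hn2 : n - 2 + 1 < n := by omega
  have hA' : ∀ A, ρ ((Fr.flipLast.duo hn2).lev hb hq A) m = m := by
    intro A
    have hH := Fr.diag_dh hb hq hn2 c
    have hH' : Fr.flipLast.IsDiag ((Fr.duo hn2).lev hb hq (dg c)) (dz (n - 2) c) := by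
      have h := hH.flipLast Fr
      have e : Function.update (dh (n - 2) c) (n - 1) (dh (n - 2) c (n - 1))⁻¹ = dz (n - 2) c := by
        funext i
        simp only [Function.update_apply, dz, dh, show n - 2 + 1 = n - 1 by omega]
        split_ifs <;> first | omega | simp_all
      rwa [e] at h
    have hm' : m ∈ Fr.flipLast.fx ρ 0 n := by
      rw [Fr.flipLast_fx_last ρ hb hq (by omega) h0]; exact hm
    have h := Fr.flipLast.lev_trivial ρ hb hq hn2 (Fr.flipLast_single ρ (by omega) h0) hc hodd hH' A m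
      (Fr.flipLast.fx_le_xsp ρ hn2 hm')
    rw [← (Fr.invol ρ hb hq (by omega) h0 hc hodd hn2 (hz _ hn2) hH hm).1, hone _ hn2 m hm,
      map_add] at h
    linear_combination (norm := module) ((1 : ℂ) / 2) • h
  let St : Subgroup (OG Q) :=
    { carrier := {g | ρ g m = m}
      one_mem' := by show ρ 1 m = m; rw [map_one, Module.End.one_apply]
      mul_mem' := fun {a b} ha hb' => by show ρ (a * b) m = m; rw [rho_mul, hb', ha]
      inv_mem' := fun {a} ha => by
        show ρ a⁻¹ m = m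
        conv_lhs => rw [← (show ρ a m = m from ha), rho_inv_apply] }
  let Mst : Subgroup (Grp Q) := St.map (Cfsg.Omega F ⇑Q).subtype
  -- the points whose root groups fix the vector
  let P : (ι → F) → Prop := fun a => ∀ v k, IsSiegel a v k → k ∈ Mst
  have hmove : ∀ (w : OG Q) (a b : ι → F), ρ w m = m → ap (w : Grp Q) a = b → P a → P b := by
    intro w a b hw e ha v k hk
    have h1 := siegel_conj hk ((w : Grp Q)⁻¹)
    rw [← e, ap_inv_ap, inv_inv] at h1
    have hwM : (w : Grp Q) ∈ Mst := ⟨w, hw, rfl⟩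
    have h2 := mul_mem (mul_mem hwM (ha _ _ h1)) (inv_mem hwM)
    simpa only [mul_assoc, mul_inv_cancel, mul_one, mul_inv_cancel_left] using h2
  have hneg : ∀ a, Q a = 0 → P (-a) → P a := by
    intro a ha h v k hk
    obtain ⟨r, hr⟩ := exists_siegel hb.nondeg ha hk.2.1
    obtain ⟨r', hr'⟩ := exists_siegel hb.nondeg (show Q (-a) = 0 by
      rw [← neg_one_smul F a, q_smul, ha, mul_zero]) (show B (-a) v = 0 by
        rw [← neg_one_smul F a, b_smul_left, hk.2.1, mul_zero])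
    have h2 := siegel_smul hr' (-1) (show IsSiegel ((-1 : F) • (-a)) v k by
      rw [neg_one_smul, neg_neg]; exact hk)
    rw [neg_one_smul] at h2
    exact h _ _ h2
  have hv0 : P (Fr.p 0).v := by
    intro v k hk
    obtain ⟨r, hr⟩ := exists_root hb (Fr.p 0).hv hk.2.1
    have hx : v + (-(B (Fr.p 0).f v)) • (Fr.p 0).v ∈ Fr.dsp 1 := by
      intro i hi
      obtain rfl : i = 0 := by omega
      refine (Fr.p 0).mem_W.2 ⟨?_, ?_⟩
      · rw [b_add_right, b_smul_right, hk.2.1, b_self_zero (Fr.p 0).hv]; ring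
      · rw [b_add_right, b_smul_right, (Fr.p 0).hfv]; ring
    refine ⟨r, hm 0 le_rfl (by omega) _ hx r (siegel_add_self hr _), siegel_unique hr hk⟩
  have hv : ∀ i, i < n → P (Fr.p i).v := by
    intro i
    induction i with
    | zero => exact fun _ => hv0
    | succ i ih => exact fun h => hmove _ _ _ (hA i h _) ((Fr.duo h).sw_v hb hq) (ih (by omega))
  have hflast : P (Fr.p (n - 1)).f := by
    have e1 : (Fr.flipLast.duo hn2).P.v = (Fr.p (n - 2)).v := by
      show (Fr.flipLast.p (n - 2)).v = _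
      rw [Fr.flipLast_p (by omega)]
    have e2 : (Fr.flipLast.duo hn2).R.v = (Fr.p (n - 1)).f := by
      show (Fr.flipLast.p (n - 2 + 1)).v = _
      rw [show n - 2 + 1 = n - 1 by omega,
        show Fr.flipLast.p (n - 1) = flipHP (Fr.p (n - 1)) from Function.update_self _ _ _]
      rfl
    have h := hmove _ _ _ (hA' sw) ((Fr.flipLast.duo hn2).sw_v hb hq) (e1 ▸ hv (n - 2) (by omega))
    exact e2 ▸ h
  have hf : ∀ t, t < n → P (Fr.p (n - 1 - t)).f := by
    intro t
    induction t with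
    | zero => exact fun _ => hflast
    | succ t ih =>
      intro ht
      have h1 : n - 1 - (t + 1) + 1 < n := by omega
      refine hneg _ (Fr.p _).hf (hmove _ _ _ (hA _ h1 sw) ((Fr.duo h1).sw_rf hb hq) ?_)
      show P (Fr.p (n - 1 - (t + 1) + 1)).f
      rw [show n - 1 - (t + 1) + 1 = n - 1 - t by omega]
      exact ih (by omega)
  have hEl : El Q ≤ Mst := by
    refine El_le_of_two hb.nondeg (Fr.p 0).hv (Fr.p 0).hf (by rw [(Fr.p 0).hvf]; exact one_ne_zero)
      hv0 ?_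
    have h := hf (n - 1) (by omega)
    rwa [Nat.sub_self] at h
  intro g
  obtain ⟨g', hg', e⟩ := hEl (by rw [← omega_eq_El hb.nondeg hb.dim]; exact g.2)
  rw [show g = g' from Subtype.ext e.symm]
  exact hg'

include hb hq hn h0 hc hodd hz in
/-- The joint signs are at least as many as the pairs. -/
theorem Frame.le_finrank_of_emin (hne : ∀ l, l + 1 < n → Fr.emin ρ (z l) ≠ ⊥) :
    n ≤ Module.finrank ℂ (Fr.fx ρ 0 n) := by
  have hkeep : ∀ i : Fin (n - 1), ∀ a ∈ Fr.fx ρ 0 n, ρ (z i) a ∈ Fr.fx ρ 0 n := fun i a ha =>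
    (hz i (by omega)).fx_mem Fr ρ hb le_rfl ha
  let A : Fin (n - 1) → Module.End ℂ (Fr.fx ρ 0 n) := fun i => (ρ (z i)).restrict (hkeep i)
  let lo : ℕ → ℕ := fun t => if t + 2 < n then t else if t + 2 = n then 0 else n - 2
  let hi : ℕ → ℕ := fun t => if t + 2 < n then t + 1 else if t + 2 = n then 0 else n - 2
  let μ : Fin n → Fin (n - 1) → ℂ := fun t i => if lo t ≤ i ∧ (i : ℕ) ≤ hi t then -1 else 1
  have hμ : Function.Injective μ := by
    intro s t e
    have hne' : (-1 : ℂ) ≠ 1 := by norm_num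
    have key : ∀ i, i + 1 < n → ((lo s ≤ i ∧ i ≤ hi s) ↔ (lo t ≤ i ∧ i ≤ hi t)) := by
      intro i hi'
      have h := congrFun e ⟨i, by omega⟩
      simp only [μ] at h
      constructor <;> intro h' <;> by_contra h''
      · rw [if_pos h', if_neg h''] at h; exact hne' h
      · rw [if_neg h'', if_pos h'] at h; exact hne' h.symm
    have hs := s.2
    have ht := t.2
    have k1 := key (lo s) (by simp only [lo]; split_ifs <;> omega)
    have k2 := key (hi s) (by simp only [hi]; split_ifs <;> omega)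
    have k3 := key (lo t) (by simp only [lo]; split_ifs <;> omega)
    have k4 := key (hi t) (by simp only [hi]; split_ifs <;> omega)
    refine Fin.ext ?_
    simp only [lo, hi] at k1 k2 k3 k4
    split_ifs at k1 k2 k3 k4 <;> omega
  have hw : ∀ t, CfsgLib.Classical.SympMinDegree.IsWeight A (μ t) := by
    intro t
    have ht := t.2
    obtain ⟨m, hm0, hm, hval⟩ : ∃ m : M, m ≠ 0 ∧ m ∈ Fr.fx ρ 0 n ∧
        ∀ i : Fin (n - 1), ρ (z i) m = μ t i • m := by
      by_cases h1 : (t : ℕ) + 2 < n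
      · obtain ⟨-, h2⟩ := (Fr.near ρ hb hq hn h0 hc hodd hz (j := t) (l := t + 1) (by omega) (by omega)
          (Or.inl rfl)).1 (hne t (by omega))
        obtain ⟨m, hm, hm0⟩ := Submodule.exists_mem_ne_zero_of_ne_bot h2
        obtain ⟨e1, e2, e3⟩ := (Fr.mem_asp ρ).1 hm
        refine ⟨m, hm0, e1, fun i => ?_⟩
        have hi' := i.2
        simp only [μ, lo, hi, if_pos h1]
        split_ifs with h
        · rcases (show (i : ℕ) = t ∨ (i : ℕ) = t + 1 by omega) with h' | h'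
          · rw [h', e2, neg_one_smul]
          · rw [h', e3]
        · rw [one_smul]
          by_cases h' : (i : ℕ) + 1 ≤ t
          · exact Fr.far ρ hb hq hn h0 hc hodd hz (j := (t : ℕ) + 1) (by omega) (by omega)
              (Or.inr (by omega)) ((Fr.mem_emin ρ).2 ⟨e1, by rw [e3, neg_one_smul]⟩)
          · exact Fr.far ρ hb hq hn h0 hc hodd hz (j := (t : ℕ)) (by omega) (by omega)
              (Or.inl (by omega)) ((Fr.mem_emin ρ).2 ⟨e1, e2⟩)
      by_cases h2 : (t : ℕ) + 2 = n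
      · obtain ⟨h3, -⟩ := (Fr.near ρ hb hq hn h0 hc hodd hz (j := 0) (l := 1) (by omega) (by omega)
          (Or.inl rfl)).1 (hne 0 (by omega))
        obtain ⟨m, hm, hm0⟩ := Submodule.exists_mem_ne_zero_of_ne_bot h3
        obtain ⟨e1, e2, e3⟩ := (Fr.mem_asp ρ).1 hm
        refine ⟨m, hm0, e1, fun i => ?_⟩
        simp only [μ, lo, hi, if_neg h1, if_pos h2]
        split_ifs with h
        · rw [show (i : ℕ) = 0 by omega, e2, neg_one_smul]
        · rw [one_smul]
          by_cases h' : (i : ℕ) = 1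
          · rw [h', e3, one_smul]
          · exact Fr.far ρ hb hq hn h0 hc hodd hz (j := 0) (by omega) (by omega) (Or.inl (by omega))
              ((Fr.mem_emin ρ).2 ⟨e1, e2⟩)
      · obtain ⟨h3, -⟩ := (Fr.near ρ hb hq hn h0 hc hodd hz (j := n - 2) (l := n - 3) (by omega)
          (by omega) (Or.inr (by omega))).1 (hne (n - 2) (by omega))
        obtain ⟨m, hm, hm0⟩ := Submodule.exists_mem_ne_zero_of_ne_bot h3
        obtain ⟨e1, e2, e3⟩ := (Fr.mem_asp ρ).1 hm
        refine ⟨m, hm0, e1, fun i => ?_⟩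
        have hi' := i.2
        simp only [μ, lo, hi, if_neg h1, if_neg h2]
        split_ifs with h
        · rw [show (i : ℕ) = n - 2 by omega, e2, neg_one_smul]
        · rw [one_smul]
          by_cases h' : (i : ℕ) = n - 3
          · rw [h', e3, one_smul]
          · exact Fr.far ρ hb hq hn h0 hc hodd hz (j := n - 2) (by omega) (by omega) (Or.inr (by omega))
              ((Fr.mem_emin ρ).2 ⟨e1, e2⟩)
    exact ⟨⟨m, hm⟩, fun e => hm0 (congrArg Subtype.val e), fun i => Subtype.ext (hval i)⟩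
  have h := CfsgLib.Classical.SympMinDegree.card_le_finrank A μ hμ hw
  rwa [Fintype.card_fin] at h

include hb hq hn h0 hc hodd in
/-- The fixed space of the chain is zero or large. -/
theorem Frame.fx_dichotomy (hfix : ∀ m : M, (∀ g : OG Q, ρ g m = m) → m = 0) :
    Module.finrank ℂ (Fr.fx ρ 0 n) = 0 ∨ n ≤ Module.finrank ℂ (Fr.fx ρ 0 n) := by
  classical
  let z : ℕ → OG Q := fun j => if h : j + 1 < n then (Fr.duo h).flip.lev hb hq (dg c) else 1
  have hz : ∀ j, j + 1 < n → Fr.IsDiag (z j) (dz j c) := fun j hj => by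
    simp only [z, dif_pos hj]; exact Fr.diag_dz hb hq hj c
  by_cases hall : ∀ j, j + 1 < n → Fr.emin ρ (z j) = ⊥
  · refine Or.inl (Submodule.finrank_eq_zero.2 ((Submodule.eq_bot_iff _).2 fun m hm => hfix m ?_))
    exact Fr.all_fixed ρ hb hq hn h0 hc hodd hz hall hm
  · push Not at hall
    obtain ⟨j, hj, hne⟩ := hall
    exact Or.inr (Fr.le_finrank_of_emin ρ hb hq hn h0 hc hodd hz
      (Fr.emin_spread ρ hb hq hn h0 hc hodd hz hj hne))

end CfsgLib.OrthMinDegree
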