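import Cfsg.Agent.Lib.OrthMinDegree.OddInherit

/-!
A torus element acts by minus one on the weight it fixes, by taking determinants.
-/

set_option autoImplicit false
set_option linter.unusedSectionVars false

namespace CfsgLib.OrthMinDegree

open CfsgLib.Orth CfsgLib.MinIndexOrth Cfsg Matrix

variable {F : Type*} [Field F] [Fintype F] {ι : Type} [Fintype ι] [DecidableEq ι]
variable {Q : QuadraticForm F (ι → F)}
variable {M : Type*} [AddCommGroup M] [Module ℂ M] [FiniteDimensional ℂ M]

local notation "B" => QuadraticMap.polar (DFunLike.coe Q)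

/-- Left multiplication by a generator is one cycle. -/
theorem sign_mulLeft_gen [DecidableEq F] {c : Fˣ} (hc : ∀ x : Fˣ, x ∈ Subgroup.zpowers c)
    (hodd : Odd (Fintype.card F)) (h3 : 3 ≤ Fintype.card F) :
    Equiv.Perm.sign (Equiv.mulLeft c) = -1 := by
  have hc1 : c ≠ 1 := fun e => by
    have h2 : ∀ x : Fˣ, x = 1 := fun x => by
      obtain ⟨i, hi⟩ := hc x
      rw [← hi, e]; simp
    have := Fintype.card_le_one_iff.2 fun a b : Fˣ => (h2 a).trans (h2 b).symm
    rw [Fintype.card_units] at this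
    omega
  have hcyc : Equiv.Perm.IsCycle (Equiv.mulLeft c) := by
    refine ⟨1, by simpa using hc1, fun y _ => ?_⟩
    obtain ⟨i, hi⟩ := hc y
    refine ⟨i, ?_⟩
    show ((MulAction.toPermHom Fˣ Fˣ c) ^ i) 1 = y
    rw [← map_zpow, MulAction.toPermHom_apply, MulAction.toPerm_apply, smul_eq_mul, mul_one]
    exact hi
  have hsupp : (Equiv.mulLeft c).support = Finset.univ := by
    ext x
    simp [hc1]
  rw [hcyc.sign, hsupp, Finset.card_univ, Fintype.card_units, Even.neg_one_pow]
  obtain ⟨r, hr⟩ := hodd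
  exact ⟨r, by omega⟩

/-- Determinant of a weighted permutation of a basis. -/
theorem det_monomial {V : Type*} [AddCommGroup V] [Module ℂ V] {κ : Type*} [Fintype κ]
    [DecidableEq κ] (b : Module.Basis κ ℂ V) (f : Module.End ℂ V) (π : Equiv.Perm κ) (s : κ → ℂ)
    (h : ∀ i, f (b i) = s i • b (π i)) :
    LinearMap.det f = (Equiv.Perm.sign π : ℂ) * ∏ i, s i := by
  have e : LinearMap.toMatrix b b f = (π.permMatrix ℂ)ᵀ * Matrix.diagonal s := by
    ext j i
    rw [LinearMap.toMatrix_apply, h, map_smul, b.repr_self, Matrix.mul_diagonal,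
      Matrix.transpose_apply]
    simp [Equiv.Perm.permMatrix, PEquiv.toMatrix_apply, Finsupp.single_apply, mul_comm]
  rw [← LinearMap.det_toMatrix b, e, Matrix.det_mul, Matrix.det_transpose, Matrix.det_permutation,
    Matrix.det_diagonal]

variable (ρ : Representation ℂ (OG Q) M)
variable (T : Duo Q) {D : Submodule F (ι → F)} (hT : DuoIn T D)
variable (hb : Big Q) {S : Submodule ℂ M} (hS : Inv ρ S D) (hq : 4 ≤ Fintype.card F)
  (hn : NondegOn Q D)

/-- The singular weight over a vector of the inner space. -/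
def Duo.wv (γ : F) (x : ι → F) : ι → F := γ • T.R.f + x + (-(Q x) / γ) • T.R.v

include hT in
theorem Duo.wv_mem (γ : F) {x : ι → F} (hx : x ∈ T.inner D) : T.wv γ x ∈ T.outer D :=
  (T.outer D).add_mem ((T.outer D).add_mem ((T.outer D).smul_mem _ (T.rf_outer hT))
    (T.inner_le_outer hx)) ((T.outer D).smul_mem _ (T.rv_outer hT))

theorem Duo.wv_b {γ : F} {x : ι → F} (hx : x ∈ T.inner D) : B (T.wv γ x) T.R.v = γ := by
  obtain ⟨-, -, h3, -⟩ := T.inner_perp hx
  rw [Duo.wv, b_add_left, b_add_left, b_smul_left, b_smul_left, b_self_zero T.R.hv, T.R.hfv,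
    b_comm x, h3]
  ring

theorem Duo.wv_q {γ : F} (hγ : γ ≠ 0) {x : ι → F} (hx : x ∈ T.inner D) : Q (T.wv γ x) = 0 := by
  obtain ⟨-, -, h3, h4⟩ := T.inner_perp hx
  simp only [Duo.wv, q_add, q_smul, T.R.hf, T.R.hv, b_add_left, b_smul_left, b_smul_right,
    h4, b_comm x T.R.v, h3, T.R.hfv]
  field_simp
  ring

theorem Duo.wv_pW {γ : F} {x : ι → F} (hx : x ∈ T.inner D) : T.R.pW (T.wv γ x) = x := by
  rw [Duo.wv, T.R.pW_add, T.R.pW_add, T.R.pW_smul, T.R.pW_smul, T.R.pW_v,
    T.R.pW_of_mem hx.2, smul_zero, add_zero]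
  rw [show T.R.pW T.R.f = 0 by
    rw [HP.pW, b_self_zero T.R.hf, T.R.hvf, one_smul, zero_smul, sub_zero, sub_self], smul_zero,
    zero_add]

theorem Duo.wv_zero (γ : F) : T.wv γ 0 = γ • T.R.f := by
  rw [Duo.wv, QuadraticMap.map_zero, neg_zero, zero_div, zero_smul, add_zero, add_zero]

/-- The block of the weights over one value. -/
noncomputable def Duo.block (S : Submodule ℂ M) (γ : F) : Submodule ℂ M :=
  Wt ρ S T.P.v (Submodule.span F {T.R.v}) (γ • T.R.f)

theorem Duo.block_b : ∀ y ∈ Submodule.span F {T.R.v}, B T.P.v y = 0 := fun y hy => by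
  obtain ⟨t, rfl⟩ := Submodule.mem_span_singleton.1 hy
  rw [b_smul_right, T.rels.1, mul_zero]

include hb hT hS hq in
theorem Duo.block_inv (γ : F) (A : SpecialLinearGroup (Fin 2) F) {m : M}
    (hm : m ∈ T.block ρ S γ) : ρ (T.lev hb hq A) m ∈ T.block ρ S γ := by
  obtain ⟨g, hg⟩ : ∃ g, g = T.lev hb hq A := ⟨_, rfl⟩
  rw [← hg]
  refine ⟨hS g (hg ▸ fixes_lev T hb hq hT.pv hT.pf hT.rv hT.rf A) m hm.1, fun y hy k hk => ?_⟩
  have e : k * g = g * k := by
    obtain ⟨t, rfl⟩ := Submodule.mem_span_singleton.1 hy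
    by_cases ht : t = 0
    · subst ht
      rw [zero_smul] at hk
      rw [show k = 1 from root_unique hk (siegel_one T.P.hv), one_mul, mul_one]
    · have h1 := siegel_conj hk (g : Grp Q)
      rw [ap_smul, hg, T.lev_ap, T.lev_ap, T.lin_v, T.lin_u] at h1
      have hd : A 0 0 * A 1 1 - A 0 1 * A 1 0 = 1 := by
        have h := A.2; rwa [Matrix.det_fin_two] at h
      have h2 := siegel_plane hk (show Q (t • T.R.v) = 0 by rw [q_smul, T.R.hv, mul_zero])
        (a := A 0 0) (b := A 1 0 / t) (c := A 0 1 * t) (d := A 1 1) (by field_simp; linear_combination hd)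
      rw [smul_smul, div_mul_cancel₀ _ ht, smul_smul, mul_comm (A 0 1) t] at h2
      rw [smul_add, smul_smul, smul_smul, mul_comm t (A 1 1)] at h1
      have h3 : g * k * g⁻¹ = k := Subtype.ext (by
        rw [hg]
        exact siegel_unique h1 h2)
      calc k * g = g * k * g⁻¹ * g := by rw [h3]
        _ = g * k := by group
  rw [← rho_mul, e, rho_mul, hm.2 y hy k hk, map_smul]

/-- The permutation of the free orbits. -/
noncomputable def freePerm (c : Fˣ) (P : Type*) : Equiv.Perm (Option (P × Fˣ)) :=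
  Equiv.optionCongr (Equiv.prodCongrRight fun _ => Equiv.mulLeft c)

include hb hT hS hq hn in
/-- The diagonal generator is minus one on the weight that it fixes. -/
theorem Duo.weight_neg (hs : Single ρ S T.P.v (T.outer D)) (hodd : Odd (Fintype.card F))
    (hd : Odd (Module.finrank F (T.inner D))) {c : Fˣ} (hc : ∀ x : Fˣ, x ∈ Subgroup.zpowers c)
    {γ : F} (hγ : γ ≠ 0) {m : M} (hm : m ∈ Wt ρ S T.P.v (T.outer D) (γ • T.R.f)) :
    ρ (T.lev hb hq (dg c)) m = -m := by
  classical
  let P := Projectivization F (T.inner D)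
  haveI : Finite P := inferInstanceAs (Finite (Quotient _))
  haveI : Fintype P := Fintype.ofFinite _
  -- the index of a weight
  let idx : Option (P × Fˣ) → T.inner D :=
    fun i => i.elim 0 fun pa => ((pa.2⁻¹ : Fˣ) : F) • pa.1.rep
  have hidx : Function.Bijective idx := by
    refine ⟨fun i j e => ?_, fun x => ?_⟩
    · rcases i with _ | ⟨p, a⟩ <;> rcases j with _ | ⟨p', a'⟩
      · rfl
      · exact absurd (e.symm : _ = (0 : T.inner D))
          (smul_ne_zero (Units.ne_zero _) (Projectivization.rep_nonzero _))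
      · exact absurd (e : _ = (0 : T.inner D))
          (smul_ne_zero (Units.ne_zero _) (Projectivization.rep_nonzero _))
      · have e' : ((a⁻¹ : Fˣ) : F) • p.rep = ((a'⁻¹ : Fˣ) : F) • p'.rep := e
        have hp : p = p' := by
          rw [← p.mk_rep, ← p'.mk_rep, Projectivization.mk_eq_mk_iff]
          refine ⟨a * a'⁻¹, ?_⟩
          rw [Units.smul_def, Units.val_mul, mul_smul, ← e', smul_smul, ← Units.val_mul,
            mul_inv_cancel, Units.val_one, one_smul]
        subst hp
        have h2 := smul_left_injective F (Projectivization.rep_nonzero p) e'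
        rw [inv_injective (Units.ext h2)]
    · by_cases hx : x = 0
      · exact ⟨none, hx.symm⟩
      · obtain ⟨a, ha⟩ := Projectivization.exists_smul_eq_mk_rep F x hx
        refine ⟨some (Projectivization.mk F x hx, a), ?_⟩
        show ((a⁻¹ : Fˣ) : F) • (Projectivization.mk F x hx).rep = x
        rw [← ha, Units.smul_def, smul_smul, ← Units.val_mul, inv_mul_cancel, Units.val_one, one_smul]
  have hN : Odd (Fintype.card P) := by
    have h1 := Fintype.card_of_bijective hidx
    rw [Fintype.card_option, Fintype.card_prod, Fintype.card_units,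
      Module.card_eq_pow_finrank (K := F) (V := T.inner D)] at h1
    have h2 := geom_sum_mul_of_one_le (show 1 ≤ Fintype.card F by omega)
      (Module.finrank F (T.inner D))
    have h3 : Fintype.card P = ∑ i ∈ Finset.range (Module.finrank F (T.inner D)),
        Fintype.card F ^ i := by
      refine Nat.eq_of_mul_eq_mul_right (show 0 < Fintype.card F - 1 by omega) ?_
      omega
    rw [h3, Finset.odd_sum_iff_odd_card_odd, Finset.filter_true_of_mem fun i _ => hodd.pow,
      Finset.card_range]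
    exact hd
  -- the lines
  have hline : ∀ x : T.inner D,
      ∃ l ∈ Wt ρ S T.P.v (T.outer D) (T.wv γ (x : ι → F)), l ≠ 0 := fun x =>
    Submodule.exists_mem_ne_zero_of_ne_bot fun e => by
      have h1 := (hs _ (T.wv_mem hT γ x.2) (ne_zero_of_b (y := T.R.v) (by rw [T.wv_b x.2]; exact hγ))).1
        (T.wv_q hγ x.2)
      rw [e, finrank_bot] at h1; omega
  choose l hl hl0 using hline
  have hmove : ∀ (a : Fˣ) (x : T.inner D) (n : M), n ∈ Wt ρ S T.P.v (T.outer D) (T.wv γ (x : ι → F)) →
      ρ (T.lev hb hq (dg a)) n ∈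
        Wt ρ S T.P.v (T.outer D) (T.wv γ (((a⁻¹ : Fˣ) : F) • (x : ι → F))) := by
    intro a x n hn'
    obtain ⟨h1, h2, h3, h4⟩ := T.inner_perp x.2
    have hx : ap (T.lev hb hq (dg a) : Grp Q) (x : ι → F) = x := T.lev_fix hb hq _ h1 h2 h3 h4
    have h := wt_map ρ hb T.P.hv (T.b_outer (D := D)) (T.lev hb hq (dg a)) a.ne_zero
      (T.dg_v hb hq a) (fun z hz => by
        obtain ⟨z1, z2, z3, z4⟩ := T.inner_perp (pW_mem_of T.R (T.rv_outer hT) (T.rf_outer hT) hz)
        rw [pair_decomp T.R z, ap_add, ap_add, ap_smul, ap_smul, T.dg_u, T.dg_rf,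
          T.lev_fix hb hq _ z1 z2 z3 z4]
        exact (T.outer D).add_mem ((T.outer D).add_mem
          (T.inner_le_outer (pW_mem_of T.R (T.rv_outer hT) (T.rf_outer hT) hz))
          ((T.outer D).smul_mem _ ((T.outer D).smul_mem _ (T.rv_outer hT))))
          ((T.outer D).smul_mem _ ((T.outer D).smul_mem _ (T.rf_outer hT))))
      (fun b hb' => hS _ (fixes_lev T hb hq hT.pv hT.pf hT.rv hT.rf _) b hb') hn'
    convert h using 2
    rw [Duo.wv, Duo.wv, ap_add, ap_add, ap_smul, ap_smul, hx, T.dg_rf, T.dg_u, q_smul]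
    simp only [Units.val_inv_eq_inv_val]
    match_scalars <;> field_simp [a.ne_zero]
  -- the basis
  obtain ⟨Y, hY⟩ : ∃ Y, Y = T.block ρ S γ := ⟨_, rfl⟩
  have hmem : ∀ (x : T.inner D) (n : M), n ∈ Wt ρ S T.P.v (T.outer D) (T.wv γ (x : ι → F)) → n ∈ Y := by
    intro x n hn'
    rw [hY]
    refine eig_le ρ ((Submodule.span_singleton_le_iff_mem _ _).2 (T.rv_outer hT)) (fun y hy => ?_) hn'
    obtain ⟨t, rfl⟩ := Submodule.mem_span_singleton.1 hy
    rw [chw, chw, b_smul_right, b_smul_right, T.wv_b x.2, b_smul_left, T.R.hfv, mul_one]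
  let vec : Option (P × Fˣ) → M :=
    fun i => i.elim (l 0) fun pa => ρ (T.lev hb hq (dg pa.2)) (l pa.1.rep)
  have hvec : ∀ i, vec i ∈ Wt ρ S T.P.v (T.outer D) (T.wv γ (idx i : ι → F)) ∧ vec i ≠ 0 := by
    rintro (_ | ⟨p, a⟩)
    · exact ⟨hl 0, hl0 0⟩
    · refine ⟨?_, fun e => hl0 _ (rho_injective ρ _ (e.trans (map_zero _).symm))⟩
      exact hmove a p.rep _ (hl _)
  have hwinj : ∀ x x' : T.inner D, T.wv γ (x : ι → F) = T.wv γ (x' : ι → F) → x = x' := fun x x' e =>
    Subtype.ext (by rw [← T.wv_pW (γ := γ) x.2, e, T.wv_pW x'.2])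
  let vecY : Option (P × Fˣ) → Y := fun i => ⟨vec i, hmem _ _ (hvec i).1⟩
  have hli : LinearIndependent ℂ vecY := by
    rw [Fintype.linearIndependent_iff]
    intro a ha i
    have h := congrArg (fun n : Y => proj ρ hb T.P.hv (T.b_outer (D := D)) (T.wv γ (idx i : ι → F)) (n : M)) ha
    simp only [Submodule.coe_sum, Submodule.coe_smul, map_sum, map_smul, Submodule.coe_zero, map_zero,
      vecY] at h
    rw [Finset.sum_eq_single i (fun j _ hj => by
        rw [proj_eq_zero ρ hb T.P.hv (T.b_outer (D := D)) (T.outer_nondeg hT hn)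
          (T.wv_mem hT γ (idx j).2) (T.wv_mem hT γ (idx i).2)
          (fun e => hj (hidx.1 (hwinj _ _ e))) (hvec j).1, smul_zero])
      (fun h => absurd (Finset.mem_univ _) h),
      proj_eq_self ρ hb T.P.hv (T.b_outer (D := D)) (hvec i).1] at h
    exact (smul_eq_zero.1 h).resolve_right (hvec i).2
  have hspan : ⊤ ≤ Submodule.span ℂ (Set.range vecY) := by
    rintro ⟨n, hn'⟩ -
    suffices h : n ∈ Submodule.span ℂ (Set.range vec) by
      rw [← Submodule.apply_mem_span_image_iff_mem_span (f := Y.subtype) Y.injective_subtype,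
        ← Set.range_comp]
      exact h
    rw [← sum_proj ρ hb T.P.hv (T.b_outer (D := D)) (T.outer_nondeg hT hn) n]
    refine Submodule.sum_mem _ fun w _ => ?_
    by_cases hne : proj ρ hb T.P.hv (T.b_outer (D := D)) (w : ι → F) n = 0
    · rw [hne]; exact zero_mem _
    rw [hY] at hn'
    have hwu : B (w : ι → F) T.R.v = γ := by
      rw [proj_agree ρ hb T.P.hv (T.b_outer (D := D))
        ((Submodule.span_singleton_le_iff_mem _ _).2 (T.rv_outer hT)) hn' hne _
        (Submodule.mem_span_singleton_self _), b_smul_left, T.R.hfv, mul_one]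
    have hp := T.proj_outer_mem ρ hT hb hS (w : ι → F) hn'.1
    have hw0 : (w : ι → F) ≠ 0 := ne_zero_of_b (y := T.R.v) (by rw [hwu]; exact hγ)
    have hwq : Q (w : ι → F) = 0 := by
      by_contra h
      rw [(hs _ w.2 hw0).2 h] at hp
      exact hne ((Submodule.mem_bot ℂ).1 hp)
    have hx := pW_mem_of T.R (T.rv_outer hT) (T.rf_outer hT) w.2
    obtain ⟨i, hi⟩ := hidx.2 ⟨T.R.pW (w : ι → F), hx⟩
    have hwv : T.wv γ (idx i : ι → F) = w := by
      rw [hi]
      obtain ⟨-, -, h3, h4⟩ := T.inner_perp hx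
      have e := pair_decomp T.R (w : ι → F)
      rw [b_comm T.R.v (w : ι → F), hwu] at e
      have h5 : Q (T.R.pW (w : ι → F)) + B T.R.f (w : ι → F) * γ = 0 := by
        have h := hwq
        rw [e, q_add, q_add, q_smul, q_smul, T.R.hv, T.R.hf, b_add_left, b_smul_left, b_smul_right,
          b_smul_right, b_smul_right, b_comm (T.R.pW (w : ι → F)), h3, b_comm (T.R.pW (w : ι → F)),
          h4, T.R.hvf] at h
        linear_combination h
      conv_rhs => rw [e]
      rw [Duo.wv, show -Q (T.R.pW (w : ι → F)) / γ = B T.R.f (w : ι → F) by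
        field_simp; linear_combination -h5]
      abel
    obtain ⟨s, hs'⟩ := exists_smul_eq_of_finrank_eq_one
      ((hs _ w.2 hw0).1 hwq) (x := ⟨vec i, hwv ▸ (hvec i).1⟩)
      (fun e => (hvec i).2 (congrArg Subtype.val e)) ⟨_, hp⟩
    have hs'' : s • vec i = proj ρ hb T.P.hv (T.b_outer (D := D)) (w : ι → F) n :=
      congrArg Subtype.val hs'
    rw [← hs'']
    exact Submodule.smul_mem _ _ (Submodule.subset_span ⟨i, rfl⟩)
  let bas := Module.Basis.mk hli hspan
  -- the homomorphism to the determinant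
  let f : SpecialLinearGroup (Fin 2) F →* Module.End ℂ Y :=
    { toFun := fun A => (ρ (T.lev hb hq A)).restrict (p := Y) (q := Y) fun n hn' =>
        hY ▸ T.block_inv ρ hT hb hS hq γ A (hY ▸ hn')
      map_one' := LinearMap.ext fun n => Subtype.ext (by simp [map_one])
      map_mul' := fun A A' => LinearMap.ext fun n => Subtype.ext (by simp [map_mul]) }
  have hdet : LinearMap.det (f (dg c)) = 1 := by
    have h : dg c ∈ ((LinearMap.det (M := Y)).comp f).toHomUnits.ker :=
      Abelianization.commutator_subset_ker _ (by rw [sl2_perfect hq]; trivial)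
    rw [MonoidHom.mem_ker, Units.ext_iff] at h
    simpa using h
  obtain ⟨z, hz⟩ := exists_smul_eq_of_finrank_eq_one
    ((hs _ (T.wv_mem hT γ (zero_mem _)) (ne_zero_of_b (y := T.R.v) (by
      rw [T.wv_b (D := D) (zero_mem _)]; exact hγ))).1 (T.wv_q (D := D) hγ (zero_mem _)))
    (x := ⟨l 0, hl 0⟩) (fun e => hl0 0 (congrArg Subtype.val e))
    ⟨ρ (T.lev hb hq (dg c)) (l 0), by
      have h := hmove c 0 _ (hl 0)
      simpa only [Submodule.coe_zero, smul_zero] using h⟩
  have hz' : z • l 0 = ρ (T.lev hb hq (dg c)) (l 0) := congrArg Subtype.val hz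
  have hact : ∀ i, f (dg c) (bas i) = (i.elim z fun _ => (1 : ℂ)) • bas (freePerm c P i) := by
    intro i
    simp only [bas, Module.Basis.mk_apply]
    refine Subtype.ext ?_
    rcases i with _ | ⟨p, a⟩
    · exact hz'.symm
    · show ρ (T.lev hb hq (dg c)) (ρ (T.lev hb hq (dg a)) (l p.rep)) =
        (1 : ℂ) • ρ (T.lev hb hq (dg (c * a))) (l p.rep)
      rw [one_smul, ← rho_mul, ← map_mul, dg_mul]
  rw [det_monomial bas _ (freePerm c P) _ hact, freePerm, Equiv.optionCongr_sign,
    Equiv.Perm.sign_prodCongrRight, Finset.prod_const, sign_mulLeft_gen hc hodd (by omega),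
    Finset.card_univ, hN.neg_one_pow, Fintype.prod_option] at hdet
  simp only [Option.elim, Finset.prod_const_one, mul_one, Units.val_neg, Units.val_one,
    Int.cast_neg, Int.cast_one, neg_one_mul] at hdet
  have hzv : z = -1 := by linear_combination -hdet
  obtain ⟨s, hs'⟩ := exists_smul_eq_of_finrank_eq_one
    ((hs _ (T.wv_mem hT γ (zero_mem _)) (ne_zero_of_b (y := T.R.v) (by
      rw [T.wv_b (D := D) (zero_mem _)]; exact hγ))).1 (T.wv_q (D := D) hγ (zero_mem _)))
    (x := ⟨l 0, hl 0⟩) (fun e => hl0 0 (congrArg Subtype.val e))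
    ⟨m, by rw [T.wv_zero]; exact hm⟩
  have hs'' : s • l 0 = m := congrArg Subtype.val hs'
  rw [← hs'', map_smul, ← hz', hzv, neg_one_smul, smul_neg]

end CfsgLib.OrthMinDegree
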