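import Cfsg.Agent.Lib.OrthMinDegree.OddLevi
import Cfsg.Agent.Lib.RankOne.Restrict

/-!
Joint eigenspaces of root groups in a representation of `Ω`.
-/

set_option autoImplicit false
set_option linter.unusedSectionVars false

namespace CfsgLib.OrthMinDegree

open CfsgLib.Orth CfsgLib.MinIndexOrth Cfsg

variable {F : Type*} [Field F] [Fintype F] {ι : Type} [Fintype ι] [DecidableEq ι]
variable {Q : QuadraticForm F (ι → F)}
variable {M : Type*} [AddCommGroup M] [Module ℂ M] [FiniteDimensional ℂ M]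

local notation "B" => QuadraticMap.polar (DFunLike.coe Q)

variable (ρ : Representation ℂ (OG Q) M)

/-- The vectors of `S` on which the root elements at `u` with parameters in `D` act by `φ`. -/
def Eig (S : Submodule ℂ M) (u : ι → F) (D : Submodule F (ι → F)) (φ : (ι → F) → ℂ) :
    Submodule ℂ M where
  carrier := {m | m ∈ S ∧ ∀ x ∈ D, ∀ g : OG Q, IsSiegel u x (g : Grp Q) → ρ g m = φ x • m}
  add_mem' {a b} ha hb := ⟨add_mem ha.1 hb.1, fun x hx g hg => by
    rw [map_add, ha.2 x hx g hg, hb.2 x hx g hg, smul_add]⟩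
  zero_mem' := ⟨zero_mem S, fun x _ g _ => by rw [map_zero, smul_zero]⟩
  smul_mem' c a ha := ⟨S.smul_mem c ha.1, fun x hx g hg => by
    rw [map_smul, ha.2 x hx g hg, smul_comm]⟩

/-- The character attached to a vector. -/
noncomputable def chw (Q : QuadraticForm F (ι → F)) (w : ι → F) (x : ι → F) : ℂ :=
  RankOne.psi F (QuadraticMap.polar (DFunLike.coe Q) w x)

theorem chw_zero (x : ι → F) : chw Q 0 x = 1 := by
  rw [chw, b_zero_left, AddChar.map_zero_eq_one]

theorem chw_add (w x y : ι → F) : chw Q w (x + y) = chw Q w x * chw Q w y := by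
  rw [chw, b_add_right, AddChar.map_add_eq_mul]; rfl

theorem chw_ne_zero (w x : ι → F) : chw Q w x ≠ 0 := fun h => by
  have h1 := chw_add (Q := Q) w x (-x)
  rw [add_neg_cancel, h, zero_mul, chw, b_zero_right, AddChar.map_zero_eq_one] at h1
  exact one_ne_zero h1

theorem rho_inv_apply (g : OG Q) (m : M) : ρ g⁻¹ (ρ g m) = m := by
  rw [← Module.End.mul_apply, ← map_mul, inv_mul_cancel, map_one, Module.End.one_apply]

theorem rho_apply_inv (g : OG Q) (m : M) : ρ g (ρ g⁻¹ m) = m := by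
  rw [← Module.End.mul_apply, ← map_mul, mul_inv_cancel, map_one, Module.End.one_apply]

theorem rho_mul (g h : OG Q) (m : M) : ρ (g * h) m = ρ g (ρ h m) := by
  rw [map_mul, Module.End.mul_apply]

theorem rho_injective (g : OG Q) : Function.Injective (ρ g) := fun a b h => by
  rw [← rho_inv_apply ρ g a, h, rho_inv_apply]

/-- Transport of an eigenspace. -/
theorem eig_map {S S' : Submodule ℂ M} {u : ι → F} {D D' : Submodule F (ι → F)}
    {φ φ' : (ι → F) → ℂ} (g : OG Q) (hS : ∀ m ∈ S, ρ g m ∈ S')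
    (hD : ∀ y ∈ D', ap (g : Grp Q)⁻¹ y ∈ D) (hφ : ∀ y ∈ D', φ (ap (g : Grp Q)⁻¹ y) = φ' y)
    {m : M} (hm : m ∈ Eig ρ S u D φ) : ρ g m ∈ Eig ρ S' (ap (g : Grp Q) u) D' φ' := by
  refine ⟨hS m hm.1, fun y hy k hk => ?_⟩
  have h1 := siegel_conj hk ((g : Grp Q)⁻¹)
  rw [ap_inv_ap] at h1
  have h2 := hm.2 _ (hD y hy) (g⁻¹ * k * g) (by
    rw [inv_inv] at h1
    exact h1)
  rw [← rho_mul, show k * g = g * (g⁻¹ * k * g) by group, rho_mul, h2, map_smul, hφ y hy]

/-- A scaled point has the same eigenspace. -/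
theorem eig_smul (hb : Big Q) {S : Submodule ℂ M} {u : ι → F} (hu : Q u = 0)
    {D : Submodule F (ι → F)} (hD : ∀ y ∈ D, B u y = 0)
    {φ φ' : (ι → F) → ℂ} {c : F} (hφ : ∀ y ∈ D, φ' y = φ (c • y)) :
    Eig ρ S u D φ ≤ Eig ρ S (c • u) D φ' := by
  intro m hm
  refine ⟨hm.1, fun y hy k hk => ?_⟩
  obtain ⟨g, hg⟩ := exists_root hb hu (hD y hy)
  rw [hm.2 (c • y) (D.smul_mem c hy) k (siegel_smul hg c hk), hφ y hy]

/-- A chosen root element. -/
noncomputable def rt (hb : Big Q) {u : ι → F} (hu : Q u = 0) {D : Submodule F (ι → F)}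
    (hD : ∀ y ∈ D, B u y = 0) (x : D) : OG Q :=
  (exists_root hb hu (hD _ x.2)).choose

theorem rt_spec (hb : Big Q) {u : ι → F} (hu : Q u = 0) {D : Submodule F (ι → F)}
    (hD : ∀ y ∈ D, B u y = 0) (x : D) : IsSiegel u (x : ι → F) (rt hb hu hD x : Grp Q) :=
  (exists_root hb hu (hD _ x.2)).choose_spec

theorem rt_add (hb : Big Q) {u : ι → F} (hu : Q u = 0) {D : Submodule F (ι → F)}
    (hD : ∀ y ∈ D, B u y = 0) (x y : D) : rt hb hu hD (x + y) = rt hb hu hD x * rt hb hu hD y :=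
  root_unique (rt_spec hb hu hD (x + y)) (siegel_mul (rt_spec hb hu hD x) (rt_spec hb hu hD y))

/-- The projection to an eigenspace. -/
noncomputable def proj (hb : Big Q) {u : ι → F} (hu : Q u = 0) {D : Submodule F (ι → F)}
    (hD : ∀ y ∈ D, B u y = 0) (w : ι → F) : Module.End ℂ M :=
  (Fintype.card D : ℂ)⁻¹ • ∑ x : D, (chw Q w x)⁻¹ • ρ (rt hb hu hD x)


theorem proj_apply (hb : Big Q) {u : ι → F} (hu : Q u = 0) {D : Submodule F (ι → F)}
    (hD : ∀ y ∈ D, B u y = 0) (w : ι → F) (m : M) : proj ρ hb hu hD w m =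
    (Fintype.card D : ℂ)⁻¹ • ∑ x : D, (chw Q w x)⁻¹ • ρ (rt hb hu hD x) m := by
  simp [proj]

theorem proj_mem (hb : Big Q) {u : ι → F} (hu : Q u = 0) {D : Submodule F (ι → F)}
    (hD : ∀ y ∈ D, B u y = 0) {S : Submodule ℂ M} (hS : ∀ x : D, ∀ m ∈ S, ρ (rt hb hu hD x) m ∈ S) (w : ι → F)
    {m : M} (hm : m ∈ S) : proj ρ hb hu hD w m ∈ Eig ρ S u D (chw Q w) := by
  refine ⟨by
    rw [proj_apply]
    exact S.smul_mem _ (Submodule.sum_mem _ fun x _ => S.smul_mem _ (hS x m hm)), fun x hx g hg => ?_⟩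
  obtain rfl : g = rt hb hu hD ⟨x, hx⟩ := root_unique hg (rt_spec hb hu hD ⟨x, hx⟩)
  rw [proj_apply, map_smul, map_sum, smul_comm, Finset.smul_sum (r := chw Q w x)]
  congr 1
  refine Fintype.sum_equiv (Equiv.addLeft (⟨x, hx⟩ : D)) _ _ fun z => ?_
  rw [map_smul, ← rho_mul, ← rt_add, smul_smul, Equiv.coe_addLeft]
  congr 1
  rw [Submodule.coe_add, chw_add, mul_inv, ← mul_assoc, mul_inv_cancel₀ (chw_ne_zero _ _), one_mul]

theorem proj_eq_self (hb : Big Q) {u : ι → F} (hu : Q u = 0) {D : Submodule F (ι → F)}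
    (hD : ∀ y ∈ D, B u y = 0) {S : Submodule ℂ M} {w : ι → F} {m : M} (hm : m ∈ Eig ρ S u D (chw Q w)) :
    proj ρ hb hu hD w m = m := by
  rw [proj_apply, Finset.sum_congr rfl fun x _ => by
    rw [hm.2 x x.2 _ (rt_spec hb hu hD x), inv_smul_smul₀ (chw_ne_zero _ _)],
    Finset.sum_const, Finset.card_univ, ← Nat.cast_smul_eq_nsmul ℂ, smul_smul,
    inv_mul_cancel₀ (Nat.cast_ne_zero.mpr Fintype.card_ne_zero), one_smul]

theorem sum_chw {D : Submodule F (ι → F)} (hn : NondegOn Q D) (x : D) [Decidable (x = 0)] :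
    ∑ w : D, chw Q (w : ι → F) x = if x = 0 then (Fintype.card D : ℂ) else 0 := by
  split_ifs with hx
  · subst hx
    simp [chw, b_zero_right]
  · obtain ⟨y, hy, hyx⟩ : ∃ y ∈ D, B (x : ι → F) y ≠ 0 := by
      by_contra hc
      push Not at hc
      exact hx (Subtype.ext (hn x x.2 hc))
    classical
    obtain ⟨c, hc⟩ := SLMinDegree.exists_psi_ne_one hyx
    have e : chw Q (c • y) (x : ι → F) ≠ 1 := by
      rw [chw, b_smul_left, b_comm, mul_comm]; exact hc
    have h : chw Q (c • y) (x : ι → F) * ∑ w : D, chw Q (w : ι → F) x =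
        ∑ w : D, chw Q (w : ι → F) x := by
      rw [Finset.mul_sum]
      refine Fintype.sum_equiv (Equiv.addLeft (⟨c • y, D.smul_mem c hy⟩ : D)) _ _ fun w => ?_
      rw [Equiv.coe_addLeft, chw, chw, chw, Submodule.coe_add, b_add_left, AddChar.map_add_eq_mul]
    exact (mul_eq_zero.1 (show (chw Q (c • y) (x : ι → F) - 1) * ∑ w : D, chw Q (w : ι → F) x = 0 by
      rw [sub_mul, one_mul, h, sub_self])).resolve_left (sub_ne_zero.2 e)

theorem sum_proj (hb : Big Q) {u : ι → F} (hu : Q u = 0) {D : Submodule F (ι → F)}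
    (hD : ∀ y ∈ D, B u y = 0) (hn : NondegOn Q D) (m : M) :
    ∑ w : D, proj ρ hb hu hD (w : ι → F) m = m := by
  classical
  have hinv : ∀ w x : D, (chw Q (w : ι → F) x)⁻¹ = chw Q (w : ι → F) ((-x : D) : ι → F) :=
    fun w x => inv_eq_of_mul_eq_one_right (by
      rw [← chw_add, ← Submodule.coe_add, add_neg_cancel, Submodule.coe_zero, chw, b_zero_right,
        AddChar.map_zero_eq_one])
  simp only [proj_apply, ← Finset.smul_sum]
  rw [Finset.sum_comm]
  simp only [hinv, ← Finset.sum_smul, sum_chw hn, neg_eq_zero, ite_smul, zero_smul,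
    Finset.sum_ite_eq', Finset.mem_univ, if_true]
  rw [smul_smul, inv_mul_cancel₀ (Nat.cast_ne_zero.mpr Fintype.card_ne_zero), one_smul,
    show rt hb hu hD 0 = 1 from root_unique (rt_spec hb hu hD 0) (siegel_one hu), map_one,
    Module.End.one_apply]

theorem proj_eq_zero (hb : Big Q) {u : ι → F} (hu : Q u = 0) {D : Submodule F (ι → F)}
    (hD : ∀ y ∈ D, B u y = 0) (hn : NondegOn Q D) {S : Submodule ℂ M} {w z : ι → F} (hw : w ∈ D) (hz : z ∈ D)
    (hne : w ≠ z) {m : M} (hm : m ∈ Eig ρ S u D (chw Q w)) : proj ρ hb hu hD z m = 0 := by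
  classical
  have hd : (⟨w - z, D.sub_mem hw hz⟩ : D) ≠ 0 := fun e => hne (sub_eq_zero.1 (congrArg Subtype.val e))
  have h : ∑ x : D, (chw Q z x)⁻¹ * chw Q w x = 0 := by
    rw [Finset.sum_congr rfl fun (x : D) _ => show (chw Q z x)⁻¹ * chw Q w x =
      chw Q (x : ι → F) ((⟨w - z, D.sub_mem hw hz⟩ : D) : ι → F) by
        rw [inv_mul_eq_iff_eq_mul₀ (chw_ne_zero _ _), chw, chw, chw, ← AddChar.map_add_eq_mul,
          b_comm (x : ι → F), ← b_add_left]
        congr 2
        simp,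
      sum_chw hn, if_neg hd]
  rw [proj_apply, Finset.sum_congr rfl fun x _ => by
    rw [hm.2 x x.2 _ (rt_spec hb hu hD x), smul_smul], ← Finset.sum_smul, h, zero_smul, smul_zero]

/-- The projection commutes with elements fixing the point and the parameters. -/
theorem proj_conj (hb : Big Q) {u : ι → F} (hu : Q u = 0) {D : Submodule F (ι → F)}
    (hD : ∀ y ∈ D, B u y = 0) (w : ι → F) (g : OG Q) (hg : ap (g : Grp Q) u = u)
    (hgD : ∀ y ∈ D, ap (g : Grp Q) y ∈ D) (m : M) :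
    ρ g (proj ρ hb hu hD w m) = proj ρ hb hu hD (ap (g : Grp Q) w) (ρ g m) := by
  rw [proj_apply, proj_apply, map_smul, map_sum]
  congr 1
  let e : D → D := fun x => ⟨ap (g : Grp Q) (x : ι → F), hgD x x.2⟩
  have he : Function.Bijective e := (Finite.injective_iff_bijective (f := e)).1 fun a b h =>
    Subtype.ext (ap_inj _ (congrArg Subtype.val h))
  refine Fintype.sum_bijective e he _ _ fun x => ?_
  have h1 := siegel_conj (rt_spec hb hu hD x) (g : Grp Q)
  rw [hg] at h1
  rw [map_smul, ← rho_mul, ← rho_mul, show chw Q (ap (g : Grp Q) w) (e x : ι → F) = chw Q w x by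
    rw [chw, chw]; show RankOne.psi F (B (ap _ w) (ap _ (x : ι → F))) = _; rw [ap_b],
    show rt hb hu hD (e x) * g = g * rt hb hu hD x by
      rw [show rt hb hu hD (e x) = g * rt hb hu hD x * g⁻¹ from
        root_unique (rt_spec hb hu hD (e x)) h1]
      group]

/-- A space is the product of its eigenspaces. -/
theorem finrank_eq_sum (hb : Big Q) {u : ι → F} (hu : Q u = 0) {D : Submodule F (ι → F)}
    (hD : ∀ y ∈ D, B u y = 0) (hn : NondegOn Q D) {S : Submodule ℂ M}
    (hS : ∀ x : D, ∀ m ∈ S, ρ (rt hb hu hD x) m ∈ S) :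
    Module.finrank ℂ S = ∑ w : D, Module.finrank ℂ (Eig ρ S u D (chw Q (w : ι → F))) := by
  classical
  let e : S ≃ₗ[ℂ] ((w : D) → Eig ρ S u D (chw Q (w : ι → F))) :=
    { toFun := fun m w => ⟨proj ρ hb hu hD (w : ι → F) m, proj_mem ρ hb hu hD hS w m.2⟩
      map_add' := fun m m' => by funext w; exact Subtype.ext (map_add _ _ _)
      map_smul' := fun c m => by funext w; exact Subtype.ext (map_smul _ _ _)
      invFun := fun f => ⟨∑ w : D, (f w : M), Submodule.sum_mem _ fun w _ => (f w).2.1⟩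
      left_inv := fun m => Subtype.ext (sum_proj ρ hb hu hD hn m)
      right_inv := fun f => by
        funext w
        refine Subtype.ext ?_
        show proj ρ hb hu hD (w : ι → F) (∑ z : D, (f z : M)) = f w
        rw [map_sum, Finset.sum_eq_single w
          (fun z _ hz => proj_eq_zero ρ hb hu hD hn z.2 w.2 (fun h => hz (Subtype.ext h)) (f z).2)
          (fun h => absurd (Finset.mem_univ _) h), proj_eq_self ρ hb hu hD (f w).2] }
  rw [e.finrank_eq, Module.finrank_pi_fintype]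

end CfsgLib.OrthMinDegree
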