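import Cfsg.Agent.Lib.OrthMinDegree.OddDet
import Cfsg.Agent.Lib.MinIndexOrth.Count

/-!
A frame of hyperbolic pairs in odd dimension, the chain of fixed spaces, and diagonal elements.
-/

set_option autoImplicit false
set_option linter.unusedSectionVars false

namespace CfsgLib.OrthMinDegree

open CfsgLib.Orth CfsgLib.MinIndexOrth Cfsg

variable {F : Type*} [Field F] [Fintype F] {ι : Type} [Fintype ι] [DecidableEq ι]
variable {Q : QuadraticForm F (ι → F)}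
variable {M : Type*} [AddCommGroup M] [Module ℂ M] [FiniteDimensional ℂ M]

local notation "B" => QuadraticMap.polar (DFunLike.coe Q)
local notation "q" => Fintype.card F

/-- Mutually orthogonal pairs, spanning all but one dimension. -/
structure Frame (Q : QuadraticForm F (ι → F)) (n : ℕ) where
  p : ℕ → HP Q
  perp : ∀ i < n, ∀ j < n, i ≠ j → (p j).v ∈ (p i).W ∧ (p j).f ∈ (p i).W
  dim : Module.finrank F (ι → F) = 2 * n + 1

variable {n : ℕ} (Fr : Frame Q n)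

/-- The common complement of the first pairs. -/
def Frame.dsp (j : ℕ) : Submodule F (ι → F) where
  carrier := {x | ∀ i < j, x ∈ (Fr.p i).W}
  add_mem' ha hb := fun i hi => (Fr.p i).W.add_mem (ha i hi) (hb i hi)
  zero_mem' := fun i _ => zero_mem _
  smul_mem' c _ ha := fun i hi => (Fr.p i).W.smul_mem c (ha i hi)

theorem Frame.dsp_zero : Fr.dsp 0 = ⊤ :=
  eq_top_iff.2 fun _ _ _ hi => absurd hi (Nat.not_lt_zero _)

theorem Frame.dsp_succ (j : ℕ) : Fr.dsp (j + 1) = Fr.dsp j ⊓ (Fr.p j).W := by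
  ext x
  refine ⟨fun h => ⟨fun i hi => h i (Nat.lt_succ_of_lt hi), h j (Nat.lt_succ_self j)⟩, fun h i hi => ?_⟩
  rcases Nat.lt_succ_iff_lt_or_eq.1 hi with h' | rfl
  exacts [h.1 i h', h.2]

theorem Frame.dsp_mono {i j : ℕ} (h : i ≤ j) : Fr.dsp j ≤ Fr.dsp i :=
  fun _ hx l hl => hx l (lt_of_lt_of_le hl h)

theorem Frame.v_mem {j l : ℕ} (hjl : j ≤ l) (hl : l < n) : (Fr.p l).v ∈ Fr.dsp j :=
  fun i hi => (Fr.perp i (by omega) l hl (by omega)).1

theorem Frame.f_mem {j l : ℕ} (hjl : j ≤ l) (hl : l < n) : (Fr.p l).f ∈ Fr.dsp j :=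
  fun i hi => (Fr.perp i (by omega) l hl (by omega)).2

theorem Frame.b_dsp {l : ℕ} : ∀ y ∈ Fr.dsp (l + 1), B (Fr.p l).v y = 0 :=
  fun _ hy => ((Fr.p l).mem_W.1 (hy l (Nat.lt_succ_self l))).1

variable (hb : Big Q)

include hb in
theorem Frame.dsp_nondeg : ∀ j, j ≤ n → NondegOn Q (Fr.dsp j) := by
  intro j
  induction j with
  | zero =>
    intro _ x _ h
    exact hb.nondeg x fun y => h y (by rw [Fr.dsp_zero]; trivial)
  | succ j ih =>
    intro hj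
    rw [Fr.dsp_succ]
    exact nondeg_split (ih (by omega)) _ (Fr.v_mem le_rfl (by omega)) (Fr.f_mem le_rfl (by omega))

theorem Frame.dsp_dim : ∀ j, j ≤ n → Module.finrank F (Fr.dsp j) + 2 * j = 2 * n + 1 := by
  intro j
  induction j with
  | zero => intro _; rw [Fr.dsp_zero, finrank_top, Fr.dim, Nat.mul_zero, add_zero]
  | succ j ih =>
    intro hj
    have h1 := finrank_split (D := Fr.dsp j) (Fr.p j) (Fr.v_mem le_rfl (by omega)) (Fr.f_mem le_rfl (by omega))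
    have h2 := ih (by omega)
    rw [Fr.dsp_succ]
    omega

/-- Two neighbouring pairs. -/
def Frame.duo {j : ℕ} (hj : j + 1 < n) : Duo Q where
  P := Fr.p j
  R := Fr.p (j + 1)
  v_mem := (Fr.perp j (by omega) (j + 1) hj (by omega)).1
  f_mem := (Fr.perp j (by omega) (j + 1) hj (by omega)).2

theorem Frame.duo_in {j : ℕ} (hj : j + 1 < n) : DuoIn (Fr.duo hj) (Fr.dsp j) :=
  ⟨Fr.v_mem le_rfl (by omega), Fr.f_mem le_rfl (by omega), Fr.v_mem (by omega) hj,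
    Fr.f_mem (by omega) hj⟩

theorem Frame.duo_outer {j : ℕ} (hj : j + 1 < n) :
    (Fr.duo hj).outer (Fr.dsp j) = Fr.dsp (j + 1) := (Fr.dsp_succ j).symm

theorem Frame.duo_inner {j : ℕ} (hj : j + 1 < n) :
    (Fr.duo hj).inner (Fr.dsp j) = Fr.dsp (j + 2) := by
  rw [Duo.inner, Fr.dsp_succ (j + 1), Fr.dsp_succ j]
  rfl

variable (ρ : Representation ℂ (OG Q) M)

/-- The vectors fixed by a range of the root groups of the chain. -/
def Frame.fx (a b : ℕ) : Submodule ℂ M where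
  carrier := {m | ∀ l, a ≤ l → l < b → ∀ y ∈ Fr.dsp (l + 1), ∀ g : OG Q,
    IsSiegel (Fr.p l).v y (g : Grp Q) → ρ g m = m}
  add_mem' ha hb' := fun l h1 h2 y hy g hg => by rw [map_add, ha l h1 h2 y hy g hg, hb' l h1 h2 y hy g hg]
  zero_mem' := fun _ _ _ _ _ _ _ => map_zero _
  smul_mem' c _ ha := fun l h1 h2 y hy g hg => by rw [map_smul, ha l h1 h2 y hy g hg]

theorem Frame.fx_zero : Fr.fx ρ 0 0 = ⊤ :=
  eq_top_iff.2 fun _ _ _ _ h => absurd h (Nat.not_lt_zero _)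

theorem Frame.fx_succ (j : ℕ) :
    Wt ρ (Fr.fx ρ 0 j) (Fr.p j).v (Fr.dsp (j + 1)) 0 = Fr.fx ρ 0 (j + 1) := by
  ext m
  constructor
  · intro h l h1 h2 y hy g hg
    rcases Nat.lt_succ_iff_lt_or_eq.1 h2 with h' | rfl
    · exact h.1 l h1 h' y hy g hg
    · rw [h.2 y hy g hg, chw_zero, one_smul]
  · exact fun h => ⟨fun l h1 h2 => h l h1 (by omega), fun y hy g hg => by
      rw [chw_zero, one_smul]; exact h j (Nat.zero_le _) (Nat.lt_succ_self _) y hy g hg⟩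

theorem Frame.inv_fx {j : ℕ} : Inv ρ (Fr.fx ρ 0 j) (Fr.dsp j) := by
  intro g hg m hm l hl1 hl y hy k hk
  have hfix : ∀ i < j, ap (g : Grp Q) (Fr.p i).v = (Fr.p i).v ∧ ap (g : Grp Q) (Fr.p i).f = (Fr.p i).f :=
    fun i hi => ⟨hg _ fun z hz => ((Fr.p i).mem_W.1 (hz i hi)).1,
      hg _ fun z hz => ((Fr.p i).mem_W.1 (hz i hi)).2⟩
  have hgy : ap (g : Grp Q)⁻¹ y ∈ Fr.dsp (l + 1) := fun i hi => by
    obtain ⟨e1, e2⟩ := hfix i (by omega)
    obtain ⟨y1, y2⟩ := (Fr.p i).mem_W.1 (hy i hi)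
    refine (Fr.p i).mem_W.2 ⟨?_, ?_⟩
    · rw [← ap_b (g : Grp Q), e1, ap_ap_inv, y1]
    · rw [← ap_b (g : Grp Q), e2, ap_ap_inv, y2]
  have h1 := siegel_conj hk ((g : Grp Q)⁻¹)
  rw [show ap (g : Grp Q)⁻¹ (Fr.p l).v = (Fr.p l).v by
    conv_lhs => rw [← (hfix l hl).1, ap_inv_ap], inv_inv] at h1
  have h2 := hm l hl1 hl _ hgy (g⁻¹ * k * g) h1
  rw [← rho_mul, show k * g = g * (g⁻¹ * k * g) by group, rho_mul, h2]

variable (hq : 4 ≤ Fintype.card F)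

include hb hq in
theorem Frame.single_all (h0 : Single ρ ⊤ (Fr.p 0).v (Fr.dsp 1)) :
    ∀ j, j < n → Single ρ (Fr.fx ρ 0 j) (Fr.p j).v (Fr.dsp (j + 1)) := by
  intro j
  induction j with
  | zero => intro _; rw [Fr.fx_zero]; exact h0
  | succ j ih =>
    intro hj
    have h1 := ih (by omega)
    rw [← Fr.duo_outer hj] at h1
    have h2 := (Fr.duo hj).inherit ρ (Fr.duo_in hj) hb (Fr.inv_fx ρ) hq
      (Fr.dsp_nondeg hb j (by omega)) h1
    rw [Fr.duo_inner hj, Fr.duo_outer hj] at h2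
    rw [← Fr.fx_succ]
    exact h2

theorem Frame.proj_fx_mem {j : ℕ} (hj : j < n) (w : ι → F) {m : M} (hm : m ∈ Fr.fx ρ 0 j) :
    proj ρ hb (Fr.p j).hv (Fr.b_dsp (l := j)) w m ∈
      Wt ρ (Fr.fx ρ 0 j) (Fr.p j).v (Fr.dsp (j + 1)) w :=
  proj_mem ρ hb (Fr.p j).hv (Fr.b_dsp (l := j))
    (fun x a ha => Fr.inv_fx ρ _ (fixes_siegel (Fr.v_mem le_rfl hj) (Fr.dsp_mono (Nat.le_succ j) x.2)
      (rt_spec hb (Fr.p j).hv (Fr.b_dsp (l := j)) x)) a ha) w hm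

include hb in
theorem card_singular {U : Submodule F (ι → F)} (hU : NondegOn Q U) {m : ℕ}
    (hd : Module.finrank F U = 2 * m + 1) :
    Nat.card {w : U // w ≠ 0 ∧ Q (w : ι → F) = 0} + 1 = q ^ (2 * m) := by
  classical
  have h := (lev_bound hb.nondeg (2 * m + 1) U hU hd 0).2.2 ⟨m, rfl⟩ rfl
  rw [Nat.card_eq_fintype_card (α := F), pow_succ'] at h
  rw [← Nat.eq_of_mul_eq_mul_left (show 0 < q from Fintype.card_pos) h, lev, ← Finite.card_option]
  exact Nat.card_congr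
    { toFun := fun o => o.elim ⟨0, QuadraticMap.map_zero Q⟩ fun w => ⟨w.1, w.2.2⟩
      invFun := fun w => if h : w.1 = 0 then none else some ⟨w.1, h, w.2⟩
      left_inv := fun o => by
        rcases o with _ | ⟨w, h1, h2⟩
        · simp
        · simp [h1]
      right_inv := fun ⟨w, hw⟩ => by
        by_cases h : w = 0
        · subst h; simp
        · simp [h] }

include hb hq in
/-- One step of the chain. -/
theorem Frame.finrank_step (h0 : Single ρ ⊤ (Fr.p 0).v (Fr.dsp 1)) {j : ℕ} (hj : j < n) :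
    Module.finrank ℂ (Fr.fx ρ 0 j) + 1 =
      Module.finrank ℂ (Fr.fx ρ 0 (j + 1)) + q ^ (2 * (n - (j + 1))) := by
  classical
  have hs := Fr.single_all hb ρ hq h0 j hj
  have hn := Fr.dsp_nondeg hb (j + 1) (by omega)
  have hd : Module.finrank F (Fr.dsp (j + 1)) = 2 * (n - (j + 1)) + 1 := by
    have := Fr.dsp_dim (j + 1) (by omega); omega
  rw [← card_singular hb hn hd, finrank_eq_sum ρ hb (Fr.p j).hv (Fr.b_dsp (l := j)) hn
      (fun x a ha => Fr.inv_fx ρ _ (fixes_siegel (Fr.v_mem le_rfl hj) (Fr.dsp_mono (Nat.le_succ j) x.2)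
        (rt_spec hb (Fr.p j).hv (Fr.b_dsp (l := j)) x)) a ha),
    ← Finset.add_sum_erase _ _ (Finset.mem_univ (0 : Fr.dsp (j + 1))), Nat.card_eq_fintype_card,
    Fintype.card_subtype]
  have h : ∑ w ∈ Finset.univ.erase (0 : Fr.dsp (j + 1)), Module.finrank ℂ
      (Eig ρ (Fr.fx ρ 0 j) (Fr.p j).v (Fr.dsp (j + 1)) (chw Q (w : ι → F))) =
      ∑ w ∈ Finset.univ.erase (0 : Fr.dsp (j + 1)), if Q (w : ι → F) = 0 then 1 else 0 := by
    refine Finset.sum_congr rfl fun w hw => ?_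
    have hw0 : (w : ι → F) ≠ 0 := fun e => Finset.ne_of_mem_erase hw (Subtype.ext e)
    split_ifs with hwq
    · exact (hs _ w.2 hw0).1 hwq
    · show Module.finrank ℂ (Wt ρ _ _ _ _) = 0
      rw [(hs _ w.2 hw0).2 hwq, finrank_bot]
  rw [h, Finset.sum_boole, Nat.cast_id, add_assoc]
  congr 1
  · rw [show chw Q (((0 : Fr.dsp (j + 1))) : ι → F) = chw Q 0 from rfl]
    exact congrArg (fun S : Submodule ℂ M => Module.finrank ℂ S) (Fr.fx_succ ρ j)
  · congr 1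
    congr 1
    ext w
    simp

include hb hq in
/-- The degree from the fixed space of the whole chain. -/
theorem Frame.finrank_total (h0 : Single ρ ⊤ (Fr.p 0).v (Fr.dsp 1)) :
    ∀ i, i ≤ n → Module.finrank ℂ (Fr.fx ρ 0 (n - i)) + i =
      Module.finrank ℂ (Fr.fx ρ 0 n) + ∑ l ∈ Finset.range i, q ^ (2 * l) := by
  intro i
  induction i with
  | zero => intro _; simp
  | succ i ih =>
    intro hi
    have h1 := ih (by omega)
    have h2 := Fr.finrank_step hb ρ hq h0 (j := n - (i + 1)) (by omega)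
    rw [show n - (i + 1) + 1 = n - i by omega, show n - (n - i) = i by omega] at h2
    rw [Finset.sum_range_succ]
    omega

/-! ### Diagonal elements -/

/-- The element is diagonal in the frame. -/
def Frame.IsDiag (g : OG Q) (d : ℕ → Fˣ) : Prop :=
  (∀ i < n, ap (g : Grp Q) (Fr.p i).v = (d i : F) • (Fr.p i).v ∧
    ap (g : Grp Q) (Fr.p i).f = ((d i)⁻¹ : Fˣ) • (Fr.p i).f) ∧
  ∀ x ∈ Fr.dsp n, ap (g : Grp Q) x = x

theorem Frame.IsDiag.mul {g h : OG Q} {d e : ℕ → Fˣ} (hg : Fr.IsDiag g d) (hh : Fr.IsDiag h e) :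
    Fr.IsDiag (g * h) (fun i => d i * e i) := by
  refine ⟨fun i hi => ⟨?_, ?_⟩, fun x hx => ?_⟩
  · rw [Subgroup.coe_mul, ap_mul, (hh.1 i hi).1, ap_smul, (hg.1 i hi).1, smul_smul, Units.val_mul, mul_comm]
  · rw [Subgroup.coe_mul, ap_mul, (hh.1 i hi).2, Units.smul_def, ap_smul, (hg.1 i hi).2, Units.smul_def,
      smul_smul, Units.smul_def, mul_inv, Units.val_mul, mul_comm]
  · rw [Subgroup.coe_mul, ap_mul, hh.2 x hx, hg.2 x hx]

theorem Frame.IsDiag.maps {g : OG Q} {d : ℕ → Fˣ} (hg : Fr.IsDiag g d) {j : ℕ} (hj : j ≤ n) :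
    ∀ y ∈ Fr.dsp j, ap (g : Grp Q) y ∈ Fr.dsp j := fun y hy i hi => by
  obtain ⟨e1, e2⟩ := hg.1 i (by omega)
  rw [Units.smul_def] at e2
  exact mem_W_move (Fr.p i) (d i).ne_zero ((d i)⁻¹).ne_zero e1 e2 (hy i hi)

theorem Frame.IsDiag.fx_mem {g : OG Q} {d : ℕ → Fˣ} (hg : Fr.IsDiag g d) (hb : Big Q) {a b : ℕ}
    (hbn : b ≤ n) {m : M} (hm : m ∈ Fr.fx ρ a b) : ρ g m ∈ Fr.fx ρ a b := by
  intro l hl1 hl y hy k hk
  have hinv := maps_inv (hg.maps Fr (show l + 1 ≤ n by omega)) y hy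
  have h1 := siegel_conj hk ((g : Grp Q)⁻¹)
  have e : ap (g : Grp Q)⁻¹ (Fr.p l).v = ((d l : F))⁻¹ • (Fr.p l).v := by
    refine ap_inj (g : Grp Q) ?_
    rw [ap_ap_inv, ap_smul, (hg.1 l (by omega)).1, smul_smul, inv_mul_cancel₀ (d l).ne_zero, one_smul]
  rw [e, inv_inv] at h1
  obtain ⟨r, hr⟩ := exists_root hb (Fr.p l).hv (show B (Fr.p l).v (ap (g : Grp Q)⁻¹ y) = 0 from
    Fr.b_dsp _ hinv)
  have h2 := siegel_smul hr ((d l : F))⁻¹ h1
  have h3 := hm l hl1 hl _ ((Fr.dsp (l + 1)).smul_mem _ hinv) (g⁻¹ * k * g) h2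
  rw [← rho_mul, show k * g = g * (g⁻¹ * k * g) by group, rho_mul, h3]

include hb in
theorem Frame.IsDiag.fixes {g : OG Q} {d : ℕ → Fˣ} (hg : Fr.IsDiag g d) {j : ℕ} (hj : j ≤ n)
    (h1 : ∀ i < j, d i = 1) : Fixes (Fr.dsp j) g := by
  suffices ∀ t i, i + t = j → ∀ x ∈ Fr.dsp i, (∀ y ∈ Fr.dsp j, B x y = 0) → ap (g : Grp Q) x = x from
    fun x hx => this j 0 (by omega) x (by rw [Fr.dsp_zero]; trivial) hx
  intro t
  induction t with
  | zero =>
    intro i hi x hx hxo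
    obtain rfl : i = j := by omega
    rw [Fr.dsp_nondeg hb i hj x hx hxo, ap_zero]
  | succ t ih =>
    intro i hi x hx hxo
    obtain ⟨e1, e2⟩ := hg.1 i (by omega)
    rw [h1 i (by omega), Units.val_one, one_smul] at e1
    rw [h1 i (by omega), inv_one, one_smul] at e2
    have hp : (Fr.p i).pW x ∈ Fr.dsp (i + 1) := by
      rw [Fr.dsp_succ]
      exact pW_mem_of _ (Fr.v_mem le_rfl (by omega)) (Fr.f_mem le_rfl (by omega)) hx
    have h := ih (i + 1) (by omega) _ hp fun y hy => by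
      obtain ⟨y1, y2⟩ := (Fr.p i).mem_W.1 (hy i (by omega))
      rw [HP.pW, b_sub_left, b_sub_left, b_smul_left, b_smul_left, y1, y2, hxo y hy]
      ring
    rw [pair_decomp (Fr.p i) x, ap_add, ap_add, ap_smul, ap_smul, e1, e2, h]

theorem Frame.IsDiag.ext {g h : OG Q} {d e : ℕ → Fˣ} (hg : Fr.IsDiag g d) (hh : Fr.IsDiag h e)
    (hde : ∀ i < n, d i = e i) : g = h := by
  suffices ∀ t i, i + t = n → ∀ x ∈ Fr.dsp i, ap (g : Grp Q) x = ap (h : Grp Q) x from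
    Subtype.ext (ext_ap fun x => this n 0 (by omega) x (by rw [Fr.dsp_zero]; trivial))
  intro t
  induction t with
  | zero =>
    intro i hi x hx
    obtain rfl : i = n := by omega
    rw [hg.2 x hx, hh.2 x hx]
  | succ t ih =>
    intro i hi x hx
    have hp : (Fr.p i).pW x ∈ Fr.dsp (i + 1) := by
      rw [Fr.dsp_succ]
      exact pW_mem_of _ (Fr.v_mem le_rfl (by omega)) (Fr.f_mem le_rfl (by omega)) hx
    rw [pair_decomp (Fr.p i) x, ap_add, ap_add, ap_smul, ap_smul, ap_add, ap_add, ap_smul, ap_smul,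
      (hg.1 i (by omega)).1, (hg.1 i (by omega)).2, (hh.1 i (by omega)).1, (hh.1 i (by omega)).2,
      hde i (by omega), ih (i + 1) (by omega) _ hp]

/-- The exponents of the central element of a neighbouring pair. -/
def dz (j : ℕ) (c : Fˣ) (i : ℕ) : Fˣ := if i = j ∨ i = j + 1 then c else 1

/-- The exponents of the diagonal element of a neighbouring pair. -/
def dh (j : ℕ) (c : Fˣ) (i : ℕ) : Fˣ := if i = j then c else if i = j + 1 then c⁻¹ else 1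

/-- The exponents of the torus of one pair. -/
def ds (j : ℕ) (c : Fˣ) (i : ℕ) : Fˣ := if i = j then c else 1

variable {j : ℕ} (hj : j + 1 < n)

include hj in
theorem Frame.lev_fix_other (A : Matrix.SpecialLinearGroup (Fin 2) F) {i : ℕ} (hi : i < n) (h1 : i ≠ j)
    (h2 : i ≠ j + 1) :
    ap ((Fr.duo hj).lev hb hq A : Grp Q) (Fr.p i).v = (Fr.p i).v ∧
      ap ((Fr.duo hj).lev hb hq A : Grp Q) (Fr.p i).f = (Fr.p i).f := by
  obtain ⟨a1, a2⟩ := Fr.perp j (by omega) i hi (Ne.symm h1)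
  obtain ⟨b1, b2⟩ := Fr.perp (j + 1) hj i hi (Ne.symm h2)
  obtain ⟨c1, c2⟩ := (Fr.p j).mem_W.1 a1
  obtain ⟨c3, c4⟩ := (Fr.p (j + 1)).mem_W.1 b1
  obtain ⟨c5, c6⟩ := (Fr.p j).mem_W.1 a2
  obtain ⟨c7, c8⟩ := (Fr.p (j + 1)).mem_W.1 b2
  exact ⟨(Fr.duo hj).lev_fix hb hq A c1 c2 c3 c4, (Fr.duo hj).lev_fix hb hq A c5 c6 c7 c8⟩

include hj in
theorem Frame.lev_fix_dsp (A : Matrix.SpecialLinearGroup (Fin 2) F) {x : ι → F}
    (hx : x ∈ Fr.dsp (j + 2)) : ap ((Fr.duo hj).lev hb hq A : Grp Q) x = x :=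
  (Fr.duo hj).lev_fix hb hq A ((Fr.p j).mem_W.1 (hx j (by omega))).1
    ((Fr.p j).mem_W.1 (hx j (by omega))).2 ((Fr.p (j + 1)).mem_W.1 (hx (j + 1) (by omega))).1
    ((Fr.p (j + 1)).mem_W.1 (hx (j + 1) (by omega))).2

theorem Frame.diag_dh (c : Fˣ) : Fr.IsDiag ((Fr.duo hj).lev hb hq (dg c)) (dh j c) := by
  refine ⟨fun i hi => ?_, fun x hx => Fr.lev_fix_dsp hb hq hj _ (Fr.dsp_mono (by omega) hx)⟩
  rw [dh]
  split_ifs with h1 h2
  · subst h1
    exact ⟨(Fr.duo hj).dg_v hb hq c, by rw [Units.smul_def]; exact (Fr.duo hj).dg_f hb hq c⟩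
  · subst h2
    exact ⟨(Fr.duo hj).dg_u hb hq c, by rw [inv_inv, Units.smul_def]; exact (Fr.duo hj).dg_rf hb hq c⟩
  · obtain ⟨e1, e2⟩ := Fr.lev_fix_other hb hq hj (dg c) hi h1 h2
    exact ⟨by rw [e1, Units.val_one, one_smul], by rw [e2, inv_one, one_smul]⟩

theorem Frame.diag_dz (c : Fˣ) : Fr.IsDiag ((Fr.duo hj).flip.lev hb hq (dg c)) (dz j c) := by
  refine ⟨fun i hi => ?_, fun x hx => ?_⟩
  · rw [dz]
    split_ifs with h
    · rcases h with rfl | rfl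
      · exact ⟨(Fr.duo hj).flip.dg_v hb hq c, by
          rw [Units.smul_def]; exact (Fr.duo hj).flip.dg_f hb hq c⟩
      · exact ⟨(Fr.duo hj).flip.dg_rf hb hq c, by
          rw [Units.smul_def]; exact (Fr.duo hj).flip.dg_u hb hq c⟩
    · simp only [not_or] at h
      obtain ⟨a1, a2⟩ := Fr.perp j (by omega) i hi (Ne.symm h.1)
      obtain ⟨b1, b2⟩ := Fr.perp (j + 1) hj i hi (Ne.symm h.2)
      obtain ⟨c1, c2⟩ := (Fr.p j).mem_W.1 a1
      obtain ⟨c3, c4⟩ := (Fr.p (j + 1)).mem_W.1 b1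
      obtain ⟨c5, c6⟩ := (Fr.p j).mem_W.1 a2
      obtain ⟨c7, c8⟩ := (Fr.p (j + 1)).mem_W.1 b2
      exact ⟨by rw [(Fr.duo hj).flip.lev_fix hb hq _ c1 c2 c4 c3, Units.val_one, one_smul],
        by rw [(Fr.duo hj).flip.lev_fix hb hq _ c5 c6 c8 c7, inv_one, one_smul]⟩
  · have h1 := (Fr.p j).mem_W.1 (hx j (by omega))
    have h2 := (Fr.p (j + 1)).mem_W.1 (hx (j + 1) hj)
    exact (Fr.duo hj).flip.lev_fix hb hq _ h1.1 h1.2 h2.2 h2.1

/-- Conjugation by the exchange of neighbours permutes the exponents. -/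
theorem Frame.diag_conj {g : OG Q} {d : ℕ → Fˣ} (hg : Fr.IsDiag g d) :
    Fr.IsDiag ((Fr.duo hj).lev hb hq sw * g * ((Fr.duo hj).lev hb hq sw)⁻¹)
      (d ∘ Equiv.swap j (j + 1)) := by
  obtain ⟨w, hw⟩ : ∃ w, w = (Fr.duo hj).lev hb hq sw := ⟨_, rfl⟩
  rw [← hw]
  have hwv : ap (w : Grp Q) (Fr.p j).v = (Fr.p (j + 1)).v := hw ▸ (Fr.duo hj).sw_v hb hq
  have hwu : ap (w : Grp Q) (Fr.p (j + 1)).v = -(Fr.p j).v := hw ▸ (Fr.duo hj).sw_u hb hq
  have hwf : ap (w : Grp Q) (Fr.p j).f = (Fr.p (j + 1)).f := hw ▸ (Fr.duo hj).sw_f hb hq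
  have hwrf : ap (w : Grp Q) (Fr.p (j + 1)).f = -(Fr.p j).f := hw ▸ (Fr.duo hj).sw_rf hb hq
  have key : ∀ x y : ι → F, ∀ a : F, ap (w : Grp Q) x = y → ap (g : Grp Q) x = a • x →
      ap ((w * g * w⁻¹ : OG Q) : Grp Q) y = a • y := fun x y a h1 h2 => by
    rw [Subgroup.coe_mul, Subgroup.coe_mul, Subgroup.coe_inv, ap_mul, ap_mul, ← h1, ap_inv_ap, h2, ap_smul]
  have key' : ∀ x y : ι → F, ∀ a : F, ap (w : Grp Q) x = -y → ap (g : Grp Q) x = a • x →
      ap ((w * g * w⁻¹ : OG Q) : Grp Q) y = a • y := fun x y a h1 h2 => by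
    have h := key (-x) y a (by rw [← neg_one_smul F x, ap_smul, h1, neg_one_smul, neg_neg])
      (by rw [← neg_one_smul F x, ap_smul, h2, smul_comm])
    exact h
  refine ⟨fun i hi => ?_, fun x hx => ?_⟩
  · obtain ⟨g1, g2⟩ := hg.1 j (by omega)
    obtain ⟨g3, g4⟩ := hg.1 (j + 1) hj
    rw [Units.smul_def] at g2 g4
    rw [Function.comp_apply, Units.smul_def]
    by_cases h1 : i = j
    · subst h1
      rw [Equiv.swap_apply_left]
      exact ⟨key' _ _ _ hwu g3, key' _ _ _ hwrf g4⟩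
    by_cases h2 : i = j + 1
    · subst h2
      rw [Equiv.swap_apply_right]
      exact ⟨key _ _ _ hwv g1, key _ _ _ hwf g2⟩
    rw [Equiv.swap_apply_of_ne_of_ne h1 h2]
    obtain ⟨e1, e2⟩ := Fr.lev_fix_other hb hq hj sw hi h1 h2
    rw [← hw] at e1 e2
    exact ⟨key _ _ _ e1 (hg.1 i hi).1, key _ _ _ e2 (by rw [(hg.1 i hi).2, Units.smul_def])⟩
  · have h := key x x 1 (hw ▸ Fr.lev_fix_dsp hb hq hj sw (Fr.dsp_mono (by omega) hx))
      (by rw [one_smul]; exact hg.2 x hx)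
    rwa [one_smul] at h

end CfsgLib.OrthMinDegree
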