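import Cfsg.Agent.Lib.OrthMinDegree.OddMoves

/-!
A space with one line for each singular weight passes this property to its fixed space.
-/

set_option autoImplicit false
set_option linter.unusedSectionVars false

namespace CfsgLib.OrthMinDegree

open CfsgLib.Orth CfsgLib.MinIndexOrth Cfsg

variable {F : Type*} [Field F] [Fintype F] {ι : Type} [Fintype ι] [DecidableEq ι]
variable {Q : QuadraticForm F (ι → F)}
variable {M : Type*} [AddCommGroup M] [Module ℂ M] [FiniteDimensional ℂ M]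

local notation "B" => QuadraticMap.polar (DFunLike.coe Q)

variable (ρ : Representation ℂ (OG Q) M)

/-- The non-zero weights are the singular vectors, each with one line. -/
def Single (S : Submodule ℂ M) (v : ι → F) (D : Submodule F (ι → F)) : Prop :=
  ∀ w ∈ D, w ≠ 0 → (Q w = 0 → Module.finrank ℂ (Wt ρ S v D w) = 1) ∧
    (Q w ≠ 0 → Wt ρ S v D w = ⊥)

theorem Single.le_one {S : Submodule ℂ M} {v : ι → F} {D : Submodule F (ι → F)}
    (h : Single ρ S v D) {w : ι → F} (hw : w ∈ D) (hw0 : w ≠ 0) :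
    Module.finrank ℂ (Wt ρ S v D w) ≤ 1 := by
  by_cases hq : Q w = 0
  · exact ((h w hw hw0).1 hq).le
  · rw [(h w hw hw0).2 hq, finrank_bot]; exact Nat.zero_le _

/-- The four vectors of the duo lie in the space. -/
structure DuoIn (T : Duo Q) (D : Submodule F (ι → F)) : Prop where
  pv : T.P.v ∈ D
  pf : T.P.f ∈ D
  rv : T.R.v ∈ D
  rf : T.R.f ∈ D

theorem DuoIn.flip {T : Duo Q} {D : Submodule F (ι → F)} (h : DuoIn T D) : DuoIn T.flip D :=
  ⟨h.pv, h.pf, h.rf, h.rv⟩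

/-- The parameters of the first point inside a duo. -/
def Duo.outer (T : Duo Q) (D : Submodule F (ι → F)) : Submodule F (ι → F) := D ⊓ T.P.W

/-- The parameters of the second point inside a duo. -/
def Duo.inner (T : Duo Q) (D : Submodule F (ι → F)) : Submodule F (ι → F) := D ⊓ T.P.W ⊓ T.R.W

/-- The second point and its parameters. -/
def Duo.side (T : Duo Q) (D : Submodule F (ι → F)) : Submodule F (ι → F) :=
  Submodule.span F {T.R.v} ⊔ T.inner D

/-- Vectors with prescribed weights at both points. -/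
noncomputable def Duo.both (T : Duo Q) (D : Submodule F (ι → F)) (S : Submodule ℂ M)
    (a b : ι → F) : Submodule ℂ M :=
  Wt ρ S T.P.v (T.side D) a ⊓ Wt ρ S T.R.v (T.inner D) b

variable (T : Duo Q) {D : Submodule F (ι → F)} (hT : DuoIn T D)

theorem Duo.outer_perp {y : ι → F} (hy : y ∈ T.outer D) :
    B T.P.v y = 0 ∧ B T.P.f y = 0 := T.P.mem_W.1 hy.2

theorem Duo.inner_perp {y : ι → F} (hy : y ∈ T.inner D) :
    B T.P.v y = 0 ∧ B T.P.f y = 0 ∧ B T.R.v y = 0 ∧ B T.R.f y = 0 :=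
  ⟨(T.P.mem_W.1 hy.1.2).1, (T.P.mem_W.1 hy.1.2).2, (T.R.mem_W.1 hy.2).1, (T.R.mem_W.1 hy.2).2⟩

include hT in
theorem Duo.rv_outer : T.R.v ∈ T.outer D := ⟨hT.rv, T.v_mem⟩

include hT in
theorem Duo.rf_outer : T.R.f ∈ T.outer D := ⟨hT.rf, T.f_mem⟩

theorem Duo.inner_le_outer : T.inner D ≤ T.outer D := inf_le_left

include hT in
theorem Duo.side_le_outer : T.side D ≤ T.outer D :=
  sup_le ((Submodule.span_singleton_le_iff_mem _ _).2 (T.rv_outer hT)) T.inner_le_outer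

include hT in
theorem Duo.outer_nondeg (hn : NondegOn Q D) : NondegOn Q (T.outer D) :=
  nondeg_split hn T.P hT.pv hT.pf

include hT in
theorem Duo.inner_nondeg (hn : NondegOn Q D) : NondegOn Q (T.inner D) :=
  nondeg_split (T.outer_nondeg hT hn) T.R (T.rv_outer hT) (T.rf_outer hT)

theorem Duo.b_outer : ∀ y ∈ T.outer D, B T.P.v y = 0 := fun _ hy => (T.outer_perp hy).1

theorem Duo.b_inner : ∀ y ∈ T.inner D, B T.R.v y = 0 := fun _ hy => (T.inner_perp hy).2.2.1

include hT in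
theorem Duo.b_side : ∀ y ∈ T.side D, B T.P.v y = 0 :=
  fun _ hy => T.b_outer _ (T.side_le_outer hT hy)

theorem Duo.side_perp {y : ι → F} (hy : y ∈ T.side D) : B T.R.v y = 0 := by
  obtain ⟨a, ha, b, hb', rfl⟩ := Submodule.mem_sup.1 hy
  obtain ⟨t, rfl⟩ := Submodule.mem_span_singleton.1 ha
  rw [b_add_right, b_smul_right, b_self_zero T.R.hv, T.b_inner b hb']
  ring

include hT in
/-- A root element of the second point moving a weight of the first. -/
theorem Duo.root_weight {y : ι → F} (hy : y ∈ T.inner D) {g : OG Q}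
    (hg : IsSiegel T.R.v y (g : Grp Q)) :
    ap (g : Grp Q) T.P.v = T.P.v ∧ (∀ z ∈ T.outer D, ap (g : Grp Q) z ∈ T.outer D) ∧
      ∀ w : ι → F, B T.R.v w = 0 → ap (g : Grp Q) w = w - B w y • T.R.v := by
  obtain ⟨h1, h2, -, -⟩ := T.inner_perp hy
  refine ⟨siegel_fix hg T.rels.1 h1, fun z hz => ?_, fun w hw => ?_⟩
  · rw [hg.2.2]
    exact (T.outer D).sub_mem ((T.outer D).sub_mem ((T.outer D).add_mem hz
      ((T.outer D).smul_mem _ (T.inner_le_outer hy))) ((T.outer D).smul_mem _ (T.rv_outer hT)))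
      ((T.outer D).smul_mem _ (T.rv_outer hT))
  · rw [hg.2.2, b_comm w T.R.v, hw]
    simp

variable (hb : Big Q) {S : Submodule ℂ M} (hS : Inv ρ S D)

include hb hT hS in
theorem Duo.proj_outer_mem (w : ι → F) {m : M} (hm : m ∈ S) :
    proj ρ hb T.P.hv (T.b_outer (D := D)) w m ∈ Wt ρ S T.P.v (T.outer D) w :=
  proj_mem ρ hb T.P.hv (T.b_outer (D := D))
    (fun x a ha => hS _ (fixes_siegel hT.pv x.2.1 (rt_spec hb T.P.hv (T.b_outer (D := D)) x)) a ha) w hm

include hb hT hS in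
theorem Duo.wt_root_mem {y : ι → F} (hy : y ∈ T.inner D) {g : OG Q}
    (hg : IsSiegel T.R.v y (g : Grp Q)) {w : ι → F} (hw : B T.R.v w = 0) {m : M}
    (hm : m ∈ Wt ρ S T.P.v (T.outer D) w) :
    ρ g m ∈ Wt ρ S T.P.v (T.outer D) (w - B w y • T.R.v) := by
  obtain ⟨h1, h2, h3⟩ := T.root_weight hT hy hg
  have h4 := wt_map ρ hb T.P.hv (T.b_outer (D := D)) g one_ne_zero (by rw [one_smul]; exact h1) h2
    (fun a ha => hS g (fixes_siegel hT.rv hy.1.1 hg) a ha) hm
  rwa [inv_one, one_smul, h3 w hw] at h4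

variable (hq : 4 ≤ Fintype.card F) (hn : NondegOn Q D)

include hb hT hn in
theorem Duo.exists_comp {a b : ι → F} (ha : a ∈ T.inner D) {m : M}
    (hm : m ∈ T.both ρ D S a b) {w : ι → F} (hw : w ∈ T.outer D)
    (hne : proj ρ hb T.P.hv (T.b_outer (D := D)) w m ≠ 0) : ∃ β : F, w = a + β • T.R.v := by
  have h := proj_agree ρ hb T.P.hv (T.b_outer (D := D)) (T.side_le_outer hT) hm.1 hne
  obtain ⟨-, -, ha1, ha2⟩ := T.inner_perp ha
  have h0 : B w T.R.v = 0 := by
    rw [h _ (Submodule.mem_sup_left (Submodule.mem_span_singleton_self _)), b_comm, ha1]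
  refine ⟨B T.R.f w, ?_⟩
  obtain ⟨d, hd⟩ : ∃ d, d = T.R.pW w - a := ⟨_, rfl⟩
  have hd0 : d = 0 := by
    refine T.inner_nondeg hT hn d ?_ fun y hy => ?_
    · rw [hd]
      exact (T.inner D).sub_mem (pW_mem_of T.R (T.rv_outer hT) (T.rf_outer hT) hw) ha
    · obtain ⟨-, -, hy1, hy2⟩ := T.inner_perp hy
      rw [hd, b_sub_left, HP.pW, b_sub_left, b_sub_left, b_smul_left, b_smul_left, hy1, hy2,
        h y (Submodule.mem_sup_right hy)]
      ring
  rw [hd, sub_eq_zero] at hd0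
  conv_lhs => rw [pair_decomp T.R w, hd0, b_comm T.R.v w, h0, zero_smul, add_zero]

include hb hT hS hq in
/-- On the lines of the second point its root elements are trivial. -/
theorem Duo.trivial_line (hs : Single ρ S T.P.v (T.outer D)) {β : F} (hβ : β ≠ 0) {y : ι → F}
    (hy : y ∈ T.inner D) {g : OG Q} (hg : IsSiegel T.R.v y (g : Grp Q)) {m : M}
    (hm : m ∈ Wt ρ S T.P.v (T.outer D) (β • T.R.v)) : ρ g m = m := by
  obtain ⟨c, hc0, hc1⟩ := exists_sq_ne_one' (F := F) hq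
  have hc : c ≠ 1 := fun e => hc1 (by rw [e, one_mul])
  have hu0 : β • T.R.v ≠ 0 := smul_ne_zero hβ T.R.v_ne
  let cu : Fˣ := Units.mk0 c hc0
  obtain ⟨t, ht⟩ : ∃ t, t = T.flip.lev hb hq (dg cu) := ⟨_, rfl⟩
  have htv : ap (t : Grp Q) T.P.v = c • T.P.v := by rw [ht]; exact T.flip.dg_v hb hq cu
  have htu : ap (t : Grp Q) T.R.v = c • T.R.v := by rw [ht]; exact T.flip.dg_rf hb hq cu
  have hti : ∀ z ∈ T.inner D, ap (t : Grp Q) z = z := fun z hz => by
    obtain ⟨z1, z2, z3, z4⟩ := T.inner_perp hz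
    rw [ht]
    exact T.flip.lev_fix hb hq _ z1 z2 z4 z3
  have hto : ∀ z ∈ T.outer D, ap (t : Grp Q) z ∈ T.outer D := fun z hz => by
    rw [pair_decomp T.R z, ap_add, ap_add, ap_smul, ap_smul, htu,
      hti _ (pW_mem_of T.R (T.rv_outer hT) (T.rf_outer hT) hz),
      show ap (t : Grp Q) T.R.f = ((cu⁻¹ : Fˣ) : F) • T.R.f by rw [ht]; exact T.flip.dg_u hb hq cu]
    exact (T.outer D).add_mem ((T.outer D).add_mem
      (T.inner_le_outer (pW_mem_of T.R (T.rv_outer hT) (T.rf_outer hT) hz))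
      ((T.outer D).smul_mem _ ((T.outer D).smul_mem _ (T.rv_outer hT))))
      ((T.outer D).smul_mem _ ((T.outer D).smul_mem _ (T.rf_outer hT)))
  refine trivial_of_scale ρ hb (hs.le_one ρ ((T.outer D).smul_mem β (T.rv_outer hT)) hu0) T.R.hv
    T.b_inner (fun z hz k hk a ha => ?_) t (d := c) (e := 1) (by rwa [mul_one]) htu
    (fun z hz => by rw [one_smul, hti z hz]) (fun a ha => ?_) y hy g hg m hm
  · have h := T.wt_root_mem ρ hT hb hS hz hk (w := β • T.R.v)
      (by rw [b_smul_right, b_self_zero T.R.hv, mul_zero]) ha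
    rwa [b_smul_left, T.b_inner z hz, mul_zero, zero_smul, sub_zero] at h
  · have h := wt_map ρ hb T.P.hv (T.b_outer (D := D)) t hc0 htv hto
      (fun b hb' => hS t (by
        rw [ht]; exact fixes_lev T.flip hb hq hT.pv hT.pf hT.rf hT.rv _) b hb') ha
    rwa [ap_smul, htu, smul_smul, smul_smul,
      show c⁻¹ * β * c = β by field_simp] at h

include hb hT hS hq in
/-- Root elements fixing a weight are trivial on its line. -/
theorem Duo.trivial_fix (hs : Single ρ S T.P.v (T.outer D)) {ω : ι → F} (hω : ω ∈ T.inner D)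
    (hω0 : ω ≠ 0) {y : ι → F} (hy : y ∈ T.inner D) (hωy : B ω y = 0) {g : OG Q}
    (hg : IsSiegel T.R.v y (g : Grp Q)) {m : M} (hm : m ∈ Wt ρ S T.P.v (T.outer D) ω) :
    ρ g m = m := by
  obtain ⟨c, hc0, hc1⟩ := exists_sq_ne_one' (F := F) hq
  obtain ⟨t, htu, htf, htW⟩ := exists_torus' hb T.R hc0
  let K : Submodule F (ι → F) := T.inner D ⊓ orth Q (Submodule.span F {ω})
  have memK : ∀ z, z ∈ K ↔ z ∈ T.inner D ∧ B ω z = 0 := fun z => by
    show z ∈ T.inner D ∧ z ∈ orth Q _ ↔ _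
    rw [mem_orth_span]; simp
  have htv : ap (t : Grp Q) T.P.v = (1 : F) • T.P.v := by
    rw [one_smul]; exact htW _ (T.R.mem_W.2 ⟨T.rels'.1, T.rels'.2.2.1⟩)
  have hto : ∀ z ∈ T.outer D, ap (t : Grp Q) z ∈ T.outer D := fun z hz => by
    rw [pair_decomp T.R z, ap_add, ap_add, ap_smul, ap_smul, htu, htf, htW _ (T.R.pW_mem z)]
    exact (T.outer D).add_mem ((T.outer D).add_mem
      (T.inner_le_outer (pW_mem_of T.R (T.rv_outer hT) (T.rf_outer hT) hz))
      ((T.outer D).smul_mem _ ((T.outer D).smul_mem _ (T.rv_outer hT))))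
      ((T.outer D).smul_mem _ ((T.outer D).smul_mem _ (T.rf_outer hT)))
  refine trivial_of_scale ρ hb (hs.le_one ρ (T.inner_le_outer hω) hω0) T.R.hv
    (K := K) (fun z hz => T.b_inner z ((memK z).1 hz).1) (fun z hz k hk a ha => ?_) t
    (d := c * c) (e := 1) (by rwa [mul_one]) htu
    (fun z hz => by rw [one_smul, htW _ ((memK z).1 hz).1.2]) (fun a ha => ?_) y
    ((memK y).2 ⟨hy, hωy⟩) g hg m hm
  · have h := T.wt_root_mem ρ hT hb hS ((memK z).1 hz).1 hk (T.b_inner ω hω) ha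
    rwa [((memK z).1 hz).2, zero_smul, sub_zero] at h
  · have h := wt_map ρ hb T.P.hv (T.b_outer (D := D)) t one_ne_zero htv hto
      (fun b hb' => hS t (fun x hx => htW x (T.R.mem_W.2 ⟨by rw [b_comm]; exact hx _ hT.rv,
        by rw [b_comm]; exact hx _ hT.rf⟩)) b hb') ha
    rwa [htW _ hω.2, inv_one, one_smul] at h

include hb hT hS hq in
/-- The exchange of the two points exchanges the weights. -/
theorem Duo.both_sw {a b : ι → F} (ha : a ∈ T.inner D) (hb₀ : b ∈ T.inner D)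
    {m : M} (hm : m ∈ T.both ρ D S a b) :
    ρ (T.lev hb hq sw) m ∈ T.both ρ D S (-b) a := by
  obtain ⟨g, hg⟩ : ∃ g, g = T.lev hb hq sw := ⟨_, rfl⟩
  rw [← hg]
  have hgS : ∀ x ∈ S, ρ g x ∈ S := fun x hx =>
    hS g (hg ▸ fixes_lev T hb hq hT.pv hT.pf hT.rv hT.rf _) x hx
  have hfix : ∀ y ∈ T.inner D, ap (g : Grp Q) y = y := fun y hy => by
    obtain ⟨h1, h2, h3, h4⟩ := T.inner_perp hy
    rw [hg]; exact T.lev_fix hb hq _ h1 h2 h3 h4
  have hgi : ∀ y ∈ T.inner D, ap (g : Grp Q)⁻¹ y = y := fun y hy => by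
    conv_lhs => rw [← hfix y hy, ap_inv_ap]
  have hgv : ap (g : Grp Q) T.P.v = T.R.v := by rw [hg]; exact T.sw_v hb hq
  have hgu : ap (g : Grp Q) T.R.v = -T.P.v := by rw [hg]; exact T.sw_u hb hq
  have k1 : ρ g m ∈ Wt ρ S T.R.v (T.inner D) a := by
    rw [← hgv]
    exact eig_map ρ g hgS (fun y hy => by rw [hgi y hy]; exact hy) (fun y hy => by rw [hgi y hy])
      (eig_le ρ le_sup_right (fun _ _ => rfl) hm.1)
  have k2 : ρ g m ∈ Wt ρ S T.P.v (T.inner D) (-b) := by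
    have h := eig_map ρ g hgS (fun y hy => by rw [hgi y hy]; exact hy)
      (φ' := chw Q b) (fun y hy => by rw [hgi y hy]) hm.2
    rw [hgu] at h
    have h2 := eig_smul ρ hb (u := -T.P.v) (by rw [← neg_one_smul F, q_smul, T.P.hv, mul_zero])
      (fun y hy => by rw [← neg_one_smul F T.P.v, b_smul_left, (T.inner_perp hy).1, mul_zero])
      (c := -1) (φ' := chw Q (-b)) (fun y _ => by rw [chw_smul, neg_one_smul]) h
    rwa [neg_one_smul, neg_neg] at h2
  refine ⟨eig_sup ρ hb T.P.hv (fun y hy => T.b_side hT y (Submodule.mem_sup_left hy))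
    (fun y hy => T.b_side hT y (Submodule.mem_sup_right hy)) ⟨hgS m hm.1.1, fun z hz k hk => ?_⟩ k2, k1⟩
  obtain ⟨t, rfl⟩ := Submodule.mem_span_singleton.1 hz
  have h1 := siegel_conj hk ((g : Grp Q)⁻¹)
  have hgiv : ap (g : Grp Q)⁻¹ T.P.v = -T.R.v := by
    apply ap_inj (g : Grp Q)
    rw [ap_ap_inv, ← neg_one_smul F T.R.v, ap_smul, hgu, neg_one_smul, neg_neg]
  have hgiu : ap (g : Grp Q)⁻¹ T.R.v = T.P.v := by rw [← hgv, ap_inv_ap]
  rw [hgiv, ap_smul, hgiu] at h1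
  have h3 := siegel_rot hb T.R.hv T.P.hv T.rels.1 h1
  have h4 := hm.1.2 (t • T.R.v)
    (Submodule.mem_sup_left (Submodule.smul_mem _ _ (Submodule.mem_span_singleton_self _)))
    (g⁻¹ * k * g) (by rwa [inv_inv] at h3)
  rw [chw_eq_one (by rw [b_smul_right, b_comm, T.b_inner a ha, mul_zero]), one_smul] at h4
  rw [← rho_mul, show k * g = g * (g⁻¹ * k * g) by group, rho_mul, h4,
    chw_eq_one (by rw [b_smul_right, ← neg_one_smul F b, b_smul_left, b_comm, T.b_inner b hb₀,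
      mul_zero, mul_zero]), one_smul]

include hb hT hS hq hn in
/-- Fixed vectors at the first point with a weight at the second. -/
theorem Duo.both_fixed (hs : Single ρ S T.P.v (T.outer D)) {ω : ι → F} (hω : ω ∈ T.inner D) :
    ∀ m ∈ T.both ρ D S 0 ω,
      proj ρ hb T.P.hv (T.b_outer (D := D)) 0 m ∈ Wt ρ (Wt ρ S T.P.v (T.outer D) 0) T.R.v (T.inner D) ω ∧
        (ω ≠ 0 → proj ρ hb T.P.hv (T.b_outer (D := D)) 0 m = m) := by
  intro m hm
  have hmove : ∀ y ∈ T.inner D, ∀ g : OG Q, IsSiegel T.R.v y (g : Grp Q) → ∀ w ∈ T.outer D,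
      B T.R.v w = 0 → B w y = 0 → ρ g (proj ρ hb T.P.hv (T.b_outer (D := D)) w m) =
        chw Q ω y • proj ρ hb T.P.hv (T.b_outer (D := D)) w m := by
    intro y hy g hg w hw h1 h2
    obtain ⟨g1, g2, g3⟩ := T.root_weight hT hy hg
    rw [proj_scale ρ hb T.P.hv (T.b_outer (D := D)) (T.outer_nondeg hT hn) g one_ne_zero
      (by rw [one_smul]; exact g1) g2 hw, inv_one, one_smul, g3 w h1, h2, zero_smul, sub_zero,
      hm.2.2 y hy g hg, map_smul]
  refine ⟨⟨T.proj_outer_mem ρ hT hb hS 0 hm.1.1, fun y hy g hg =>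
    hmove y hy g hg 0 (zero_mem _) (b_zero_right _) (b_zero_left _)⟩, fun hω0 => ?_⟩
  classical
  obtain ⟨y, hy, hy1⟩ := exists_b_one (T.inner_nondeg hT hn) hω hω0
  obtain ⟨s, hs1⟩ := SLMinDegree.exists_psi_ne_one (F := F) (one_ne_zero)
  have hy' : s • y ∈ T.inner D := (T.inner D).smul_mem s hy
  obtain ⟨g, hg⟩ := exists_root hb T.R.hv (T.b_inner _ hy')
  conv_rhs => rw [← sum_proj ρ hb T.P.hv (T.b_outer (D := D)) (T.outer_nondeg hT hn) m]
  symm
  refine Finset.sum_eq_single (0 : T.outer D) (fun w _ hw => ?_) (fun h => absurd (Finset.mem_univ _) h)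
  by_contra hne
  obtain ⟨β, hβ⟩ := T.exists_comp ρ hT hb hn (zero_mem _) hm w.2 hne
  rw [zero_add] at hβ
  have hβ0 : β ≠ 0 := fun e => hw (Subtype.ext (by rw [hβ, e, zero_smul]; rfl))
  have h1 := hmove _ hy' g hg w w.2 (by rw [hβ, b_smul_right, b_self_zero T.R.hv, mul_zero])
    (by rw [hβ, b_smul_left, T.b_inner _ hy', mul_zero])
  rw [T.trivial_line ρ hT hb hS hq hs hβ0 hy' hg
    (hβ ▸ T.proj_outer_mem ρ hT hb hS (w : ι → F) hm.1.1), chw, b_smul_right, hy1, mul_one] at h1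
  exact hs1 (by
    rw [one_mul]
    exact (smul_left_injective ℂ hne (h1.symm.trans (one_smul ℂ _).symm)))

include hb hT hS hq hn in
theorem Duo.finrank_both_fixed (hs : Single ρ S T.P.v (T.outer D)) {ω : ι → F}
    (hω : ω ∈ T.inner D) (hω0 : ω ≠ 0) :
    Wt ρ (Wt ρ S T.P.v (T.outer D) 0) T.R.v (T.inner D) ω = T.both ρ D S 0 ω := by
  refine le_antisymm (fun m hm => ⟨eig_le ρ (T.side_le_outer hT) (fun _ _ => rfl) hm.1,
    hm.1.1, hm.2⟩) fun m hm => ?_
  obtain ⟨h1, h2⟩ := T.both_fixed ρ hT hb hS hq hn hs hω m hm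
  rwa [h2 hω0] at h1

include hb hT hS hn in
theorem Duo.both_proj_injective {ω : ι → F} (hω : ω ∈ T.inner D) (hω0 : ω ≠ 0) {m : M}
    (hm : m ∈ T.both ρ D S ω 0) (h0 : proj ρ hb T.P.hv (T.b_outer (D := D)) ω m = 0) : m = 0 := by
  classical
  rw [← sum_proj ρ hb T.P.hv (T.b_outer (D := D)) (T.outer_nondeg hT hn) m]
  refine Finset.sum_eq_zero fun w _ => ?_
  by_contra hne
  obtain ⟨β, hβ⟩ := T.exists_comp ρ hT hb hn hω hm w.2 hne
  obtain ⟨y, hy, hy1⟩ := exists_b_one (T.inner_nondeg hT hn) hω hω0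
  have hy' : -β • y ∈ T.inner D := (T.inner D).smul_mem _ hy
  obtain ⟨g, hg⟩ := exists_root hb T.R.hv (T.b_inner _ hy')
  obtain ⟨g1, g2, g3⟩ := T.root_weight hT hy' hg
  have h1 := proj_scale ρ hb T.P.hv (T.b_outer (D := D)) (T.outer_nondeg hT hn) g one_ne_zero
    (by rw [one_smul]; exact g1) g2 (T.inner_le_outer hω) m
  rw [h0, map_zero, inv_one, one_smul, g3 ω (T.b_inner ω hω), b_smul_right, hy1, mul_one, neg_smul,
    sub_neg_eq_add, ← hβ, hm.2.2 _ hy' g hg, chw_eq_one (b_zero_left _), one_smul] at h1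
  exact hne h1.symm

include hb hT hS hq hn in
theorem Duo.finrank_both_weight (hs : Single ρ S T.P.v (T.outer D)) {ω : ι → F}
    (hω : ω ∈ T.inner D) (hω0 : ω ≠ 0) :
    (Q ω = 0 → Module.finrank ℂ (T.both ρ D S ω 0) = 1) ∧ (Q ω ≠ 0 → T.both ρ D S ω 0 = ⊥) := by
  have hinj : ∀ m ∈ T.both ρ D S ω 0, proj ρ hb T.P.hv (T.b_outer (D := D)) ω m ∈
      Wt ρ S T.P.v (T.outer D) ω := fun m hm => T.proj_outer_mem ρ hT hb hS ω hm.1.1
  have hle : Module.finrank ℂ (T.both ρ D S ω 0) ≤ Module.finrank ℂ (Wt ρ S T.P.v (T.outer D) ω) :=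
    LinearMap.finrank_le_finrank_of_injective
      (f := (proj ρ hb T.P.hv (T.b_outer (D := D)) ω).restrict hinj)
      ((injective_iff_map_eq_zero _).2 fun m hm => Subtype.ext
        (T.both_proj_injective ρ hT hb hS hn hω hω0 m.2 (congrArg Subtype.val hm)))
  refine ⟨fun hq0 => le_antisymm (hle.trans ((hs ω (T.inner_le_outer hω) hω0).1 hq0).le) ?_,
    fun hq0 => ?_⟩
  swap
  · rw [(hs ω (T.inner_le_outer hω) hω0).2 hq0, finrank_bot, Nat.le_zero] at hle
    exact Submodule.finrank_eq_zero.1 hle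
  classical
  obtain ⟨y₁, hy₁, hωy₁⟩ := exists_b_one (T.inner_nondeg hT hn) hω hω0
  obtain ⟨l, hl, hl0⟩ : ∃ l ∈ Wt ρ S T.P.v (T.outer D) ω, l ≠ 0 :=
    Submodule.exists_mem_ne_zero_of_ne_bot fun e => by
      have := (hs ω (T.inner_le_outer hω) hω0).1 hq0
      rw [e, finrank_bot] at this; omega
  choose r hr using fun γ : F => exists_root hb T.R.hv
    (T.b_inner _ ((T.inner D).smul_mem γ hy₁))
  have hterm : ∀ γ : F, ρ (r γ) l ∈ Wt ρ S T.P.v (T.outer D) (ω - γ • T.R.v) := fun γ => by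
    have h := T.wt_root_mem ρ hT hb hS ((T.inner D).smul_mem γ hy₁) (hr γ) (T.b_inner ω hω) hl
    rwa [b_smul_right, hωy₁, mul_one] at h
  obtain ⟨m, hmdef⟩ : ∃ m, m = ∑ γ : F, ρ (r γ) l := ⟨_, rfl⟩
  have hmS : m ∈ S := hmdef ▸ Submodule.sum_mem _ fun γ _ => (hterm γ).1
  have hm : m ∈ T.both ρ D S ω 0 := by
    refine ⟨hmdef ▸ Submodule.sum_mem _ fun γ _ => eig_le ρ (T.side_le_outer hT) (fun z hz => ?_)
      (hterm γ), hmS, fun y hy g hg => ?_⟩
    · rw [chw, chw, b_sub_left, b_smul_left, T.side_perp hz, mul_zero, sub_zero]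
    rw [chw_eq_one (b_zero_left _), one_smul, hmdef, map_sum]
    refine Fintype.sum_equiv (Equiv.addRight (B ω y)) _ _ fun γ => ?_
    have hy0 : y - B ω y • y₁ ∈ T.inner D := (T.inner D).sub_mem hy ((T.inner D).smul_mem _ hy₁)
    obtain ⟨g0, hg0⟩ := exists_root hb T.R.hv (T.b_inner _ hy0)
    have h1 := siegel_mul (hr (γ + B ω y)) hg0
    rw [show (γ + B ω y) • y₁ + (y - B ω y • y₁) = y + γ • y₁ by module] at h1
    rw [Equiv.coe_addRight, ← rho_mul, root_unique (g := g * r γ) (h := r (γ + B ω y) * g0)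
      (siegel_mul hg (hr γ)) h1, rho_mul, T.trivial_fix ρ hT hb hS hq hs hω hω0 hy0
      (by rw [b_sub_right, b_smul_right, hωy₁, mul_one, sub_self]) hg0 hl]
  have hm0 : m ≠ 0 := fun e => by
    have h := congrArg (proj ρ hb T.P.hv (T.b_outer (D := D)) ω) (hmdef.symm.trans e)
    rw [map_zero, map_sum, Finset.sum_eq_single (0 : F) (fun γ _ hγ =>
        proj_eq_zero ρ hb T.P.hv (T.b_outer (D := D)) (T.outer_nondeg hT hn)
          ((T.outer D).sub_mem (T.inner_le_outer hω) ((T.outer D).smul_mem γ (T.rv_outer hT)))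
          (T.inner_le_outer hω) (fun h => hγ ?_) (hterm γ))
      (fun h => absurd (Finset.mem_univ _) h)] at h
    · have h0 := hterm 0
      rw [zero_smul, sub_zero] at h0
      rw [proj_eq_self ρ hb T.P.hv (T.b_outer (D := D)) h0] at h
      exact hl0 (rho_injective ρ (r 0) (h.trans (map_zero _).symm))
    · rw [sub_eq_self, smul_eq_zero] at h
      exact h.resolve_right T.R.v_ne
  exact Submodule.one_le_finrank_iff.2 (Submodule.ne_bot_iff _ |>.2 ⟨m, hm, hm0⟩)

include hb hT hS hq hn in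
/-- The property passes to the fixed space. -/
theorem Duo.inherit (hs : Single ρ S T.P.v (T.outer D)) :
    Single ρ (Wt ρ S T.P.v (T.outer D) 0) T.R.v (T.inner D) := by
  intro ω hω hω0
  have hnω : -ω ∈ T.inner D := (T.inner D).neg_mem hω
  have h0 : (0 : ι → F) ∈ T.inner D := zero_mem _
  have h1 := finrank_le_of_maps ρ (T.lev hb hq sw) fun m hm =>
    T.both_sw ρ hT hb hS hq (a := 0) (b := ω) h0 hω hm
  have h2 := finrank_le_of_maps ρ (T.lev hb hq sw) fun m hm =>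
    T.both_sw ρ hT hb hS hq (a := -ω) (b := 0) hnω h0 hm
  have h3 := finrank_le_of_maps ρ (T.lev hb hq sw) fun m hm =>
    T.both_sw ρ hT hb hS hq (a := 0) (b := -ω) h0 hnω hm
  have h4 := finrank_le_of_maps ρ (T.lev hb hq sw) fun m hm =>
    T.both_sw ρ hT hb hS hq (a := ω) (b := 0) hω h0 hm
  rw [neg_zero] at h2 h4
  rw [neg_neg] at h3
  obtain ⟨e1, e2⟩ := T.finrank_both_weight ρ hT hb hS hq hn hs hω hω0
  rw [T.finrank_both_fixed ρ hT hb hS hq hn hs hω hω0]
  refine ⟨fun h => ?_, fun h => ?_⟩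
  · have := e1 h; omega
  · rw [e2 h, finrank_bot] at h3 h4
    refine Submodule.finrank_eq_zero.1 ?_
    omega

end CfsgLib.OrthMinDegree
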