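import Cfsg.Agent.Lib.OrthMinDegree.OddPair

/-!
The central elements of neighbouring pairs are involutions on the vectors fixed by the chain.
-/

set_option autoImplicit false
set_option linter.unusedSectionVars false

namespace CfsgLib.OrthMinDegree

open CfsgLib.Orth CfsgLib.MinIndexOrth Cfsg

variable {F : Type*} [Field F] [Fintype F] {ι : Type} [Fintype ι] [DecidableEq ι]
variable {Q : QuadraticForm F (ι → F)}
variable {M : Type*} [AddCommGroup M] [Module ℂ M] [FiniteDimensional ℂ M]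

local notation "B" => QuadraticMap.polar (DFunLike.coe Q)

variable {n : ℕ} (Fr : Frame Q n)

/-- The frame with the last pair exchanged. -/
def Frame.flipLast : Frame Q n where
  p := Function.update Fr.p (n - 1) (flipHP (Fr.p (n - 1)))
  perp i hi k hk hik := by
    obtain ⟨h1, h2⟩ := Fr.perp i hi k hk hik
    by_cases e1 : i = n - 1
    · rw [e1, Function.update_self, flipHP_W, Function.update_of_ne (e1 ▸ hik.symm)]
      exact e1 ▸ ⟨h1, h2⟩
    · rw [Function.update_of_ne e1]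
      by_cases e2 : k = n - 1
      · rw [e2, Function.update_self]
        exact e2 ▸ ⟨h2, h1⟩
      · rw [Function.update_of_ne e2]
        exact ⟨h1, h2⟩
  dim := Fr.dim

theorem Frame.flipLast_W (i : ℕ) : (Fr.flipLast.p i).W = (Fr.p i).W := by
  show (Function.update Fr.p (n - 1) (flipHP (Fr.p (n - 1))) i).W = _
  by_cases e : i = n - 1
  · rw [e, Function.update_self, flipHP_W]
  · rw [Function.update_of_ne e]

theorem Frame.flipLast_dsp (k : ℕ) : Fr.flipLast.dsp k = Fr.dsp k := by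
  ext x
  exact ⟨fun h i hi => Fr.flipLast_W i ▸ h i hi, fun h i hi => (Fr.flipLast_W i).symm ▸ h i hi⟩

theorem Frame.flipLast_p {i : ℕ} (h : i ≠ n - 1) : Fr.flipLast.p i = Fr.p i :=
  Function.update_of_ne h _ _

theorem Frame.IsDiag.flipLast {g : OG Q} {d : ℕ → Fˣ} (hg : Fr.IsDiag g d) :
    Fr.flipLast.IsDiag g (Function.update d (n - 1) (d (n - 1))⁻¹) := by
  refine ⟨fun i hi => ?_, fun x hx => hg.2 x (by rwa [Fr.flipLast_dsp] at hx)⟩
  obtain ⟨h1, h2⟩ := hg.1 i hi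
  by_cases e : i = n - 1
  · subst e
    rw [show Fr.flipLast.p (n - 1) = flipHP (Fr.p (n - 1)) from Function.update_self _ _ _,
      Function.update_self, inv_inv]
    rw [Units.smul_def] at h2
    exact ⟨h2, by rw [Units.smul_def]; exact h1⟩
  · rw [Fr.flipLast_p e, Function.update_of_ne e]
    exact ⟨h1, h2⟩

variable (ρ : Representation ℂ (OG Q) M)

theorem Frame.flipLast_fx {k : ℕ} (hk : k ≤ n - 1) : Fr.flipLast.fx ρ 0 k = Fr.fx ρ 0 k := by
  ext m
  constructor <;> intro h l h1 h2 y hy g hg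
  · exact h l h1 h2 y (by rwa [Fr.flipLast_dsp]) g (by rwa [Fr.flipLast_p (by omega)])
  · exact h l h1 h2 y (by rwa [Fr.flipLast_dsp] at hy) g (by rwa [Fr.flipLast_p (by omega)] at hg)

variable (hb : Big Q) (hq : 4 ≤ Fintype.card F) (hn : 2 ≤ n)
  (h0 : Single ρ ⊤ (Fr.p 0).v (Fr.dsp 1))

theorem Frame.fx_anti {k : ℕ} (hk : k ≤ n) : Fr.fx ρ 0 n ≤ Fr.fx ρ 0 k :=
  fun _ hm l h1 h2 => hm l h1 (by omega)

include hb hq hn h0 in
/-- The last root group is trivial on what the earlier ones fix. -/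
theorem Frame.fx_last : Fr.fx ρ 0 n = Fr.fx ρ 0 (n - 1) := by
  have h := Fr.finrank_step hb ρ hq h0 (j := n - 1) (by omega)
  rw [show n - 1 + 1 = n by omega, show n - n = 0 by omega, mul_zero, pow_zero] at h
  exact Submodule.eq_of_le_of_finrank_eq (Fr.fx_anti ρ (by omega)) (by omega)

include hn h0 in
theorem Frame.flipLast_single : Single ρ ⊤ (Fr.flipLast.p 0).v (Fr.flipLast.dsp 1) := by
  rw [Fr.flipLast_p (by omega), Fr.flipLast_dsp]
  exact h0

include hb hq hn h0 in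
theorem Frame.flipLast_fx_last : Fr.flipLast.fx ρ 0 n = Fr.fx ρ 0 n := by
  rw [Fr.fx_last ρ hb hq hn h0, Fr.flipLast.fx_last ρ hb hq hn (Fr.flipLast_single ρ hn h0),
    Fr.flipLast_fx ρ le_rfl]

include hb in
theorem Frame.exists_torus {i : ℕ} (hi : i < n) (c : Fˣ) :
    ∃ g : OG Q, Fr.IsDiag g (ds i (c * c)) := by
  obtain ⟨t, ht1, ht2, htW⟩ := exists_torus' hb (Fr.p i) c.ne_zero
  refine ⟨t, fun l hl => ?_, fun x hx => htW x (hx i hi)⟩
  rw [ds]
  split_ifs with h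
  · subst h
    exact ⟨by rw [Units.val_mul]; exact ht1,
      by rw [Units.smul_def, Units.val_inv_eq_inv_val, Units.val_mul]; exact ht2⟩
  · obtain ⟨h1, h2⟩ := Fr.perp i hi l hl (Ne.symm h)
    exact ⟨by rw [htW _ h1, Units.val_one, one_smul], by rw [htW _ h2, inv_one, one_smul]⟩

theorem dz_eq_mul {j : ℕ} (c : Fˣ) (i : ℕ) : dz j c i = dh j c i * ds (j + 1) (c * c) i := by
  simp only [dz, dh, ds]
  split_ifs <;> first | omega | simp_all | group

theorem ds_eq_mul {j : ℕ} (c : Fˣ) (i : ℕ) : ds j (c * c) i = dz j c i * dh j c i := by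
  simp only [dz, dh, ds]
  split_ifs <;> first | omega | simp_all

variable {c : Fˣ} (hc : ∀ x : Fˣ, x ∈ Subgroup.zpowers c) (hodd : Odd (Fintype.card F))

include hb hq hn h0 hc hodd in
/-- The last torus is trivial. -/
theorem Frame.torus_last {g : OG Q} (hg : Fr.IsDiag g (ds (n - 1) (c * c))) :
    ∀ m ∈ Fr.fx ρ 0 n, ρ g m = m := by
  intro m hm
  have hj : n - 2 + 1 < n := by omega
  obtain ⟨Z, hZ⟩ : ∃ Z, Fr.IsDiag Z (dz (n - 2) c) := ⟨_, Fr.diag_dz hb hq hj c⟩
  obtain ⟨H, hH⟩ : ∃ H, Fr.IsDiag H (dh (n - 2) c) := ⟨_, Fr.diag_dh hb hq hj c⟩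
  have e1 : n - 2 + 1 = n - 1 := by omega
  have hZ' : Fr.flipLast.IsDiag Z (dh (n - 2) c) := by
    have h := hZ.flipLast Fr
    have e : Function.update (dz (n - 2) c) (n - 1) (dz (n - 2) c (n - 1))⁻¹ = dh (n - 2) c := by
      funext i
      simp only [Function.update_apply, dz, dh, e1]
      split_ifs <;> first | omega | simp_all
    rwa [e] at h
  have hH' : Fr.flipLast.IsDiag H (dz (n - 2) c) := by
    have h := hH.flipLast Fr
    have e : Function.update (dh (n - 2) c) (n - 1) (dh (n - 2) c (n - 1))⁻¹ = dz (n - 2) c := by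
      funext i
      simp only [Function.update_apply, dz, dh, e1]
      split_ifs <;> first | omega | simp_all
    rwa [e] at h
  have a1 := Fr.h_plus ρ hb hq hj h0 hc hodd hZ hH hm
  have a2 := Fr.flipLast.h_plus ρ hb hq hj (Fr.flipLast_single ρ hn h0) hc hodd hH' hZ'
    (m := m) (by rw [Fr.flipLast_fx_last ρ hb hq hn h0]; exact hm)
  have hcomm : ρ Z (ρ H m) = ρ H (ρ Z m) := by
    rw [← rho_mul, ← rho_mul, (hZ.mul Fr hH).ext Fr (hH.mul Fr hZ) (fun i _ => mul_comm _ _)]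
  rw [map_add] at a1 a2
  rw [hcomm] at a2
  have e2 : ρ Z m = ρ H m := by
    linear_combination (norm := module) ((1 : ℂ) / 2) • a2 - ((1 : ℂ) / 2) • a1
  have e3 : ρ H (ρ Z m) = m := by
    linear_combination (norm := module) ((1 : ℂ) / 2) • a2 + ((1 : ℂ) / 2) • a1
  have h : Z = H * g := hZ.ext Fr (hH.mul Fr hg) fun i _ => by rw [dz_eq_mul, e1]
  rw [h, rho_mul] at e2
  exact rho_injective ρ H e2

include hb hq hn h0 hc hodd in
theorem Frame.invol_aux : ∀ t j : ℕ, j + t + 1 = n →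
    ∀ g : OG Q, Fr.IsDiag g (ds j (c * c)) → ∀ m ∈ Fr.fx ρ 0 n, ρ g m = m := by
  intro t
  induction t with
  | zero =>
    intro j hj g hg
    obtain rfl : j = n - 1 := by omega
    exact Fr.torus_last ρ hb hq hn h0 hc hodd hg
  | succ t ih =>
    intro j hj g hg m hm
    have hj1 : j + 1 < n := by omega
    obtain ⟨Z, hZ⟩ : ∃ Z, Fr.IsDiag Z (dz j c) := ⟨_, Fr.diag_dz hb hq hj1 c⟩
    obtain ⟨H, hH⟩ : ∃ H, Fr.IsDiag H (dh j c) := ⟨_, Fr.diag_dh hb hq hj1 c⟩
    obtain ⟨s, hs⟩ := Fr.exists_torus hb hj1 c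
    have hZH : ∀ a ∈ Fr.fx ρ 0 n, ρ Z a = ρ H a := fun a ha => by
      rw [hZ.ext Fr (hH.mul Fr hs) (fun i _ => dz_eq_mul c i), rho_mul,
        ih (j + 1) (by omega) s hs a ha]
    have a1 := Fr.h_plus ρ hb hq hj1 h0 hc hodd hZ hH hm
    rw [map_add, ← hZH m hm] at a1
    have hcomm : ρ H (ρ Z m) = ρ Z (ρ H m) := by
      rw [← rho_mul, ← rho_mul, (hZ.mul Fr hH).ext Fr (hH.mul Fr hZ) (fun i _ => mul_comm _ _)]
    rw [hg.ext Fr (hZ.mul Fr hH) (fun i _ => ds_eq_mul c i), rho_mul, ← hcomm]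
    linear_combination (norm := module) a1

include hb hq hn h0 hc hodd in
/-- On the fixed space the two diagonal elements of a pair agree and are involutions. -/
theorem Frame.invol {j : ℕ} (hj : j + 1 < n) {gz gh : OG Q} (hz : Fr.IsDiag gz (dz j c))
    (hh : Fr.IsDiag gh (dh j c)) {m : M} (hm : m ∈ Fr.fx ρ 0 n) :
    ρ gz m = ρ gh m ∧ ρ gz (ρ gz m) = m := by
  obtain ⟨s, hs⟩ := Fr.exists_torus hb hj c
  obtain ⟨s', hs'⟩ := Fr.exists_torus hb (show j < n by omega) c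
  have e : ρ gz m = ρ gh m := by
    rw [hz.ext Fr (hh.mul Fr hs) (fun i _ => dz_eq_mul c i), rho_mul,
      Fr.invol_aux ρ hb hq hn h0 hc hodd (n - (j + 2)) (j + 1) (by omega) s hs m hm]
  refine ⟨e, ?_⟩
  conv_lhs => rw [e, ← rho_mul, ← hs'.ext Fr (hz.mul Fr hh) (fun i _ => ds_eq_mul c i),
    Fr.invol_aux ρ hb hq hn h0 hc hodd (n - (j + 1)) j (by omega) s' hs' m hm]

end CfsgLib.OrthMinDegree
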