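import Cfsg.Agent.Lib.OrthMinDegree.OddEigen
import Cfsg.Agent.Lib.OrthMinDegree.Levi
import Cfsg.Agent.Lib.Classical.OrthStab

/-!
Elements of `Ω` acting on weight spaces of root groups.
-/

set_option autoImplicit false
set_option linter.unusedSectionVars false

namespace CfsgLib.OrthMinDegree

open CfsgLib.Orth CfsgLib.MinIndexOrth Cfsg

variable {F : Type*} [Field F] [Fintype F] {ι : Type} [Fintype ι] [DecidableEq ι]
variable {Q : QuadraticForm F (ι → F)}
variable {M : Type*} [AddCommGroup M] [Module ℂ M] [FiniteDimensional ℂ M]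

local notation "B" => QuadraticMap.polar (DFunLike.coe Q)

/-- The element fixes the orthogonal of `D` pointwise. -/
def Fixes (D : Submodule F (ι → F)) (g : OG Q) : Prop :=
  ∀ x : ι → F, (∀ y ∈ D, QuadraticMap.polar (DFunLike.coe Q) x y = 0) → ap (g : Grp Q) x = x

theorem fixes_siegel {D : Submodule F (ι → F)} {u y : ι → F} (hu : u ∈ D) (hy : y ∈ D) {g : OG Q}
    (hg : IsSiegel u y (g : Grp Q)) : Fixes D g :=
  fun _ hx => siegel_fix hg (hx u hu) (hx y hy)

theorem fixes_lev {D : Submodule F (ι → F)} (T : Duo Q) (hb : Big Q) (hq : 4 ≤ Fintype.card F)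
    (h1 : T.P.v ∈ D) (h2 : T.P.f ∈ D) (h3 : T.R.v ∈ D) (h4 : T.R.f ∈ D)
    (A : Matrix.SpecialLinearGroup (Fin 2) F) : Fixes D (T.lev hb hq A) := fun x hx =>
  T.lev_fix hb hq A (by rw [b_comm]; exact hx _ h1) (by rw [b_comm]; exact hx _ h2)
    (by rw [b_comm]; exact hx _ h3) (by rw [b_comm]; exact hx _ h4)

theorem maps_inv {D : Submodule F (ι → F)} {g : Grp Q} (h : ∀ y ∈ D, ap g y ∈ D) :
    ∀ y ∈ D, ap g⁻¹ y ∈ D := fun y hy =>
  ((mem_stab.1 (mem_stab_of_le h)) (ap g⁻¹ y)).2 (by rwa [ap_ap_inv])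

/-! ### Splitting off a pair -/

theorem pair_decomp (R : HP Q) (x : ι → F) :
    x = R.pW x + B R.f x • R.v + B R.v x • R.f := by
  rw [HP.pW]; abel

theorem pW_mem_of {D : Submodule F (ι → F)} (R : HP Q) (hv : R.v ∈ D) (hf : R.f ∈ D) {x : ι → F}
    (hx : x ∈ D) : R.pW x ∈ D ⊓ R.W :=
  ⟨D.sub_mem (D.sub_mem hx (D.smul_mem _ hv)) (D.smul_mem _ hf), R.pW_mem x⟩

theorem nondeg_split {D : Submodule F (ι → F)} (hD : NondegOn Q D) (R : HP Q) (hv : R.v ∈ D)
    (hf : R.f ∈ D) : NondegOn Q ((D ⊓ R.W : Submodule F (ι → F))) := by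
  intro x hx hxo
  refine hD x hx.1 fun y hy => ?_
  obtain ⟨h1, h2⟩ := R.mem_W.1 hx.2
  rw [pair_decomp R y, b_add_right, b_add_right, b_smul_right, b_smul_right,
    hxo _ (pW_mem_of R hv hf hy), b_comm x, h1, b_comm x, h2]
  ring

theorem finrank_split {D : Submodule F (ι → F)} (R : HP Q) (hv : R.v ∈ D) (hf : R.f ∈ D) :
    Module.finrank F ((D ⊓ R.W : Submodule F (ι → F))) + 2 = Module.finrank F D := by
  let e : D ≃ₗ[F] ((D ⊓ R.W : Submodule F (ι → F))) × F × F :=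
    { toFun := fun x => (⟨R.pW x, pW_mem_of R hv hf x.2⟩, B R.f (x : ι → F), B R.v (x : ι → F))
      map_add' := fun x y => by
        refine Prod.ext (Subtype.ext (R.pW_add _ _)) (Prod.ext (b_add_right _ _ _) (b_add_right _ _ _))
      map_smul' := fun a x => by
        refine Prod.ext (Subtype.ext (R.pW_smul _ _)) (Prod.ext (b_smul_right _ _ _) (b_smul_right _ _ _))
      invFun := fun w => ⟨(w.1 : ι → F) + w.2.1 • R.v + w.2.2 • R.f,
        D.add_mem (D.add_mem w.1.2.1 (D.smul_mem _ hv)) (D.smul_mem _ hf)⟩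
      left_inv := fun x => Subtype.ext (pair_decomp R (x : ι → F)).symm
      right_inv := fun w => by
        obtain ⟨h1, h2⟩ := R.mem_W.1 w.1.2.2
        have e1 : B R.f ((w.1 : ι → F) + w.2.1 • R.v + w.2.2 • R.f) = w.2.1 := by
          rw [b_add_right, b_add_right, b_smul_right, b_smul_right, h2, R.hfv, b_self_zero R.hf]; ring
        have e2 : B R.v ((w.1 : ι → F) + w.2.1 • R.v + w.2.2 • R.f) = w.2.2 := by
          rw [b_add_right, b_add_right, b_smul_right, b_smul_right, h1, R.hvf, b_self_zero R.hv]; ring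
        refine Prod.ext (Subtype.ext ?_) (Prod.ext e1 e2)
        show R.pW _ = _
        rw [HP.pW, e1, e2]
        module }
  rw [e.finrank_eq, Module.finrank_prod, Module.finrank_prod, Module.finrank_self]

theorem exists_b_one {D : Submodule F (ι → F)} (hn : NondegOn Q D) {w : ι → F} (hw : w ∈ D)
    (hw0 : w ≠ 0) : ∃ y ∈ D, B w y = 1 := by
  by_contra hc
  push Not at hc
  refine hw0 (hn w hw fun y hy => ?_)
  by_contra h
  exact hc ((B w y)⁻¹ • y) (D.smul_mem _ hy) (by rw [b_smul_right, inv_mul_cancel₀ h])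

/-! ### Characters -/

theorem chw_eq_one {w y : ι → F} (h : B w y = 0) : chw Q w y = 1 := by
  rw [chw, h, AddChar.map_zero_eq_one]

theorem chw_smul (w y : ι → F) (c : F) : chw Q w (c • y) = chw Q (c • w) y := by
  rw [chw, chw, b_smul_right, b_smul_left]

theorem b_eq_of_chw {a b y : ι → F} (h : ∀ t : F, chw Q a (t • y) = chw Q b (t • y)) :
    B a y = B b y := by
  classical
  by_contra hne
  obtain ⟨t, ht⟩ := SLMinDegree.exists_psi_ne_one (sub_ne_zero.2 hne)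
  refine ht ?_
  have h1 := h t
  rw [chw, chw, b_smul_right, b_smul_right] at h1
  rw [sub_mul, sub_eq_add_neg, AddChar.map_add_eq_mul, mul_comm _ t, h1, mul_comm t,
    ← AddChar.map_add_eq_mul, add_neg_cancel, AddChar.map_zero_eq_one]

/-! ### Root elements -/

theorem root_comm {u x y : ι → F} {g h : OG Q} (hg : IsSiegel u x (g : Grp Q))
    (hh : IsSiegel u y (h : Grp Q)) : g * h = h * g := by
  refine root_unique (siegel_mul hg hh) ?_
  rw [add_comm x y]
  exact siegel_mul hh hg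

/-- A root element of a plane read at its other point. -/
theorem siegel_rot (hb : Big Q) {u v : ι → F} {t : F} (hu : Q u = 0) (hv : Q v = 0)
    (huv : B v u = 0) {k : Grp Q} (hk : IsSiegel (-u) (t • v) k) : IsSiegel v (t • u) k := by
  have huv' : B u v = 0 := by rw [b_comm]; exact huv
  obtain ⟨r, hr⟩ := exists_root hb hu (show B u (t • v) = 0 by rw [b_smul_right, huv', mul_zero])
  have h1 := siegel_smul hr (-1) (show IsSiegel ((-1 : F) • u) (t • v) k by rwa [neg_one_smul])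
  have h2 := siegel_plane h1 (show Q ((-1 : F) • (t • v)) = 0 by rw [q_smul, q_smul, hv]; ring)
    (a := 0) (b := 1) (c := -1) (d := 0) (by ring)
  rw [zero_smul, zero_add, one_smul, zero_smul, add_zero, neg_one_smul, neg_one_smul, ← neg_smul] at h2
  obtain ⟨r', hr'⟩ := exists_root hb hv (show B v (-u) = 0 by
    rw [← neg_one_smul F u, b_smul_right, huv, mul_zero])
  have h3 := siegel_smul hr' (-t) h2
  rwa [neg_smul_neg] at h3

theorem conj_scale (hb : Big Q) {u y : ι → F} (hu : Q u = 0) {t g : OG Q}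
    (hg : IsSiegel u y (g : Grp Q)) {d e : F} (htu : ap (t : Grp Q) u = d • u)
    (hty : ap (t : Grp Q) y = e • y) :
    IsSiegel u ((d * e) • y) ((t * g * t⁻¹ : OG Q) : Grp Q) := by
  have h := siegel_conj hg (t : Grp Q)
  rw [htu, hty] at h
  obtain ⟨r, hr⟩ := exists_root hb hu (show B u (e • y) = 0 by rw [b_smul_right, hg.2.1, mul_zero])
  have h2 := siegel_smul hr d h
  rw [smul_smul] at h2
  exact h2

theorem exists_torus' (hb : Big Q) (P : HP Q) {c : F} (hc : c ≠ 0) :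
    ∃ t : OG Q, ap (t : Grp Q) P.v = (c * c) • P.v ∧
      ap (t : Grp Q) P.f = (c * c)⁻¹ • P.f ∧ ∀ x ∈ P.W, ap (t : Grp Q) x = x := by
  obtain ⟨g, hg, h1, h2, h3⟩ := P.exists_torus hb.nondeg hb.dim hc
  exact ⟨⟨g, by rw [omega_eq_El hb.nondeg hb.dim]; exact hg⟩, h1, h2, h3⟩

variable (ρ : Representation ℂ (OG Q) M)

/-- The space is stable under the elements fixing the orthogonal of `D`. -/
def Inv (S : Submodule ℂ M) (D : Submodule F (ι → F)) : Prop :=
  ∀ g : OG Q, Fixes D g → ∀ m ∈ S, ρ g m ∈ S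

/-- The vectors of a given weight. -/
noncomputable abbrev Wt (S : Submodule ℂ M) (u : ι → F) (D : Submodule F (ι → F)) (w : ι → F) : Submodule ℂ M :=
  Eig ρ S u D (chw Q w)

theorem eig_le {S : Submodule ℂ M} {u : ι → F} {D D' : Submodule F (ι → F)}
    {φ φ' : (ι → F) → ℂ} (hD : D' ≤ D) (h : ∀ y ∈ D', φ y = φ' y) :
    Eig ρ S u D φ ≤ Eig ρ S u D' φ' :=
  fun m hm => ⟨hm.1, fun y hy g hg => by rw [hm.2 y (hD hy) g hg, h y hy]⟩

theorem eig_sup (hb : Big Q) {S : Submodule ℂ M} {u : ι → F} (hu : Q u = 0)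
    {D D' : Submodule F (ι → F)} (hD : ∀ y ∈ D, B u y = 0) (hD' : ∀ y ∈ D', B u y = 0)
    {w : ι → F} {m : M} (h : m ∈ Wt ρ S u D w) (h' : m ∈ Wt ρ S u D' w) :
    m ∈ Wt ρ S u (D ⊔ D') w := by
  refine ⟨h.1, fun z hz g hg => ?_⟩
  obtain ⟨a, ha, b, hb', rfl⟩ := Submodule.mem_sup.1 hz
  obtain ⟨ga, hga⟩ := exists_root hb hu (hD a ha)
  obtain ⟨gb, hgb⟩ := exists_root hb hu (hD' b hb')
  obtain rfl : g = ga * gb := root_unique hg (siegel_mul hga hgb)
  rw [rho_mul, h'.2 b hb' gb hgb, map_smul, h.2 a ha ga hga, smul_smul, chw_add, mul_comm]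

/-- Transport of a weight space. -/
theorem wt_map (hb : Big Q) {S S' : Submodule ℂ M} {u : ι → F} (hu : Q u = 0)
    {D : Submodule F (ι → F)} (hD : ∀ y ∈ D, B u y = 0) (g : OG Q) {c : F} (hc : c ≠ 0)
    (hgu : ap (g : Grp Q) u = c • u) (hgD : ∀ y ∈ D, ap (g : Grp Q) y ∈ D)
    (hS : ∀ m ∈ S, ρ g m ∈ S') {w : ι → F} {m : M} (hm : m ∈ Wt ρ S u D w) :
    ρ g m ∈ Wt ρ S' u D (c⁻¹ • ap (g : Grp Q) w) := by
  have h1 : ρ g m ∈ Eig ρ S' (ap (g : Grp Q) u) D (chw Q (ap (g : Grp Q) w)) :=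
    eig_map ρ g hS (maps_inv hgD) (fun y _ => by rw [chw, chw, ap_b_left]) hm
  rw [hgu] at h1
  have h2 := eig_smul ρ hb (u := c • u) (by rw [q_smul, hu, mul_zero])
    (fun y hy => by rw [b_smul_left, hD y hy, mul_zero]) (c := c⁻¹)
    (φ' := chw Q (c⁻¹ • ap (g : Grp Q) w)) (fun y _ => (chw_smul _ y _).symm) h1
  rwa [smul_smul, inv_mul_cancel₀ hc, one_smul] at h2

theorem finrank_le_of_maps {A A' : Submodule ℂ M} (g : OG Q) (h : ∀ m ∈ A, ρ g m ∈ A') :
    Module.finrank ℂ A ≤ Module.finrank ℂ A' :=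
  LinearMap.finrank_le_finrank_of_injective (f := (ρ g).restrict h)
    fun a b e => Subtype.ext (rho_injective ρ g (congrArg Subtype.val e))

theorem line_comm {L : Submodule ℂ M} (hL : Module.finrank ℂ L ≤ 1) {a b : Module.End ℂ M}
    (ha : ∀ m ∈ L, a m ∈ L) (hb : ∀ m ∈ L, b m ∈ L) {l : M} (hl : l ∈ L) : a (b l) = b (a l) := by
  obtain ⟨v, hv⟩ := finrank_le_one_iff.1 hL
  have key : ∀ (f : Module.End ℂ M), (∀ m ∈ L, f m ∈ L) → ∃ s : ℂ, ∀ m ∈ L, f m = s • m := by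
    intro f hf
    obtain ⟨s, hs⟩ := hv ⟨f v, hf v v.2⟩
    refine ⟨s, fun m hm => ?_⟩
    obtain ⟨r, hr⟩ := hv ⟨m, hm⟩
    have h1 : r • (v : M) = m := congrArg Subtype.val hr
    have h2 : s • (v : M) = f v := congrArg Subtype.val hs
    rw [← h1, map_smul, ← h2, smul_comm]
  obtain ⟨s, hs⟩ := key a ha
  obtain ⟨r, hr⟩ := key b hb
  rw [hr l hl, map_smul, hs l hl, map_smul, hr l hl, smul_comm]

/-- Roots scaled by a symmetry of a line act trivially on it. -/
theorem trivial_of_scale (hb : Big Q) {L : Submodule ℂ M} (hL : Module.finrank ℂ L ≤ 1)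
    {u : ι → F} (hu : Q u = 0) {K : Submodule F (ι → F)} (hK : ∀ y ∈ K, B u y = 0)
    (hKL : ∀ y ∈ K, ∀ g : OG Q, IsSiegel u y (g : Grp Q) → ∀ m ∈ L, ρ g m ∈ L)
    (t : OG Q) {d e : F} (hde : d * e ≠ 1) (htu : ap (t : Grp Q) u = d • u)
    (hty : ∀ y ∈ K, ap (t : Grp Q) y = e • y) (htL : ∀ m ∈ L, ρ t m ∈ L) :
    ∀ y ∈ K, ∀ g : OG Q, IsSiegel u y (g : Grp Q) → ∀ m ∈ L, ρ g m = m := by
  intro y hy g hg m hm
  have hy0 : (d * e - 1)⁻¹ • y ∈ K := K.smul_mem _ hy
  obtain ⟨h, hh⟩ := exists_root hb hu (hK _ hy0)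
  have h1 := conj_scale hb hu hh htu (hty _ hy0)
  have e1 : t * h * t⁻¹ = h * g := by
    refine root_unique h1 ?_
    have h2 := siegel_mul hh hg
    convert h2 using 1
    · match_scalars
      field_simp [sub_ne_zero.2 hde]
      ring
    · rfl
  have h2 : ρ h (ρ g (ρ t m)) = ρ h (ρ t m) := by
    rw [← rho_mul, ← e1, rho_mul, rho_inv_apply, rho_mul,
      line_comm hL (a := ρ t) (b := ρ h) htL (hKL _ hy0 h hh) hm]
  have h3 := rho_injective ρ h h2
  rw [line_comm hL (a := ρ g) (b := ρ t) (hKL y hy g hg) htL hm] at h3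
  exact rho_injective ρ t h3

/-! ### Projections -/

section Proj

variable (hb : Big Q) {u : ι → F} (hu : Q u = 0) {D : Submodule F (ι → F)}
  (hD : ∀ y ∈ D, QuadraticMap.polar (DFunLike.coe Q) u y = 0)

theorem proj_root {y : ι → F} {g : OG Q} (hg : IsSiegel u y (g : Grp Q)) (w : ι → F) (m : M) :
    ρ g (proj ρ hb hu hD w m) = proj ρ hb hu hD w (ρ g m) := by
  rw [proj_apply, proj_apply, map_smul, map_sum]
  congr 1
  refine Finset.sum_congr rfl fun x _ => ?_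
  rw [map_smul, ← rho_mul, ← rho_mul, root_comm hg (rt_spec hb hu hD x)]

theorem proj_agree {K : Submodule F (ι → F)} (hKD : K ≤ D) {S : Submodule ℂ M} {a w : ι → F}
    {m : M} (hm : m ∈ Wt ρ S u K a) (hne : proj ρ hb hu hD w m ≠ 0) :
    ∀ y ∈ K, B w y = B a y := by
  intro y hy
  refine b_eq_of_chw fun s => ?_
  obtain ⟨g, hg⟩ := exists_root hb hu (hD _ (D.smul_mem s (hKD hy)))
  have h1 := (proj_mem ρ hb hu hD (S := ⊤) (fun _ _ _ => Submodule.mem_top) w (m := m) Submodule.mem_top).2 _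
    (D.smul_mem s (hKD hy)) g hg
  rw [proj_root ρ hb hu hD hg w m, hm.2 _ (K.smul_mem s hy) g hg, map_smul] at h1
  exact (smul_left_injective ℂ hne h1).symm

theorem proj_scale (hn : NondegOn Q D) (g : OG Q) {c : F} (hc : c ≠ 0)
    (hgu : ap (g : Grp Q) u = c • u) (hgD : ∀ y ∈ D, ap (g : Grp Q) y ∈ D) {w : ι → F}
    (hw : w ∈ D) (m : M) :
    ρ g (proj ρ hb hu hD w m) = proj ρ hb hu hD (c⁻¹ • ap (g : Grp Q) w) (ρ g m) := by
  classical
  have hall : ∀ z : D, ρ g (proj ρ hb hu hD (z : ι → F) m) ∈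
      Wt ρ ⊤ u D (c⁻¹ • ap (g : Grp Q) (z : ι → F)) := fun z =>
    wt_map ρ hb hu hD g hc hgu hgD (S := ⊤) (fun _ _ => Submodule.mem_top)
      (proj_mem ρ hb hu hD (fun _ _ _ => Submodule.mem_top) _ Submodule.mem_top)
  conv_rhs => rw [← sum_proj ρ hb hu hD hn m, map_sum, map_sum]
  rw [Finset.sum_eq_single (⟨w, hw⟩ : D) (fun z _ hz => proj_eq_zero ρ hb hu hD hn
    (D.smul_mem _ (hgD _ z.2)) (D.smul_mem _ (hgD _ hw)) (fun h => hz (Subtype.ext
      (ap_inj _ (smul_right_injective _ (inv_ne_zero hc) h)))) (hall z))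
    (fun h => absurd (Finset.mem_univ _) h), proj_eq_self ρ hb hu hD (hall ⟨w, hw⟩)]

end Proj

end CfsgLib.OrthMinDegree
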