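import Cfsg.Agent.Lib.OrthMinDegree.OddFrame

/-!
Two neighbouring pairs of the chain acting on the vectors fixed by the whole chain.
-/

set_option autoImplicit false
set_option linter.unusedSectionVars false

namespace CfsgLib.OrthMinDegree

open CfsgLib.Orth CfsgLib.MinIndexOrth Cfsg Matrix

variable {F : Type*} [Field F] [Fintype F] {ι : Type} [Fintype ι] [DecidableEq ι]
variable {Q : QuadraticForm F (ι → F)}
variable {M : Type*} [AddCommGroup M] [Module ℂ M] [FiniteDimensional ℂ M]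

local notation "B" => QuadraticMap.polar (DFunLike.coe Q)

theorem flipHP_W (R : HP Q) : (flipHP R).W = R.W := by
  ext x
  rw [HP.mem_W, HP.mem_W]
  exact and_comm

theorem Duo.flip_inner (T : Duo Q) (D : Submodule F (ι → F)) : T.flip.inner D = T.inner D := by
  show D ⊓ T.P.W ⊓ (flipHP T.R).W = _
  rw [flipHP_W]
  rfl

/-- An upper transvection is a root element of the first point. -/
theorem Duo.tv_siegel (T : Duo Q) (hb : Big Q) (hq : 4 ≤ Fintype.card F) (a : F) :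
    IsSiegel T.P.v ((-a) • T.R.f) (T.lev hb hq (tv a) : Grp Q) := by
  refine ⟨T.P.hv, by rw [b_smul_right, T.rels.2.2.1, mul_zero], fun x => ?_⟩
  rw [T.lev_ap]
  simp only [Duo.lin, LinearMap.coe_mk, AddHom.coe_mk, tv, q_smul, T.R.hf, b_smul_right,
    b_comm x T.P.v, b_comm x T.R.f]
  simp only [Matrix.of_apply, Matrix.cons_val', Matrix.cons_val_zero, Matrix.cons_val_one,
    Matrix.cons_val_fin_one]
  module

theorem transvection_upper (c : F) (h : (0 : Fin 2) ≠ 1) :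
    SpecialLinearGroup.transvection h c = tv c := by
  refine Subtype.ext ?_
  show _ = (tv c).1
  rw [SpecialLinearGroup.transvection_coe]
  ext i k
  fin_cases i <;> fin_cases k <;> simp [tv]

theorem transvection_lower (c : F) (h : (1 : Fin 2) ≠ 0) :
    SpecialLinearGroup.transvection h c = sw * tv (-c) * sw⁻¹ := by
  rw [eq_mul_inv_iff_mul_eq]
  refine Subtype.ext ?_
  show (SpecialLinearGroup.transvection h c).1 * (sw (F := F)).1 = (sw (F := F)).1 * (tv (-c)).1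
  rw [SpecialLinearGroup.transvection_coe]
  ext i k
  fin_cases i <;> fin_cases k <;> simp [tv, sw, Matrix.mul_apply, Fin.sum_univ_two]

/-- Upper transvections and the exchange generate. -/
theorem tv_sw_top (H : Subgroup (SpecialLinearGroup (Fin 2) F)) (h1 : ∀ a, tv a ∈ H)
    (h2 : ∀ a, sw * tv a * sw⁻¹ ∈ H) : H = ⊤ := by
  refine CfsgLib.Classical.eq_top_of_transvection_mem H fun i k hik c => ?_
  fin_cases i <;> fin_cases k
  · exact absurd rfl hik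
  · exact transvection_upper c hik ▸ h1 c
  · exact transvection_lower c hik ▸ h2 (-c)
  · exact absurd rfl hik

theorem sw_tv_sw (t : F) (ht : t ≠ 0) :
    (sw : SpecialLinearGroup (Fin 2) F)⁻¹ * tv t * sw =
      tv (-t⁻¹) * sw * dg (Units.mk0 (-t) (neg_ne_zero.2 ht)) * tv (-t⁻¹) := by
  rw [mul_assoc, inv_mul_eq_iff_eq_mul]
  refine Subtype.ext ?_
  show (tv t).1 * (sw (F := F)).1 = (sw (F := F)).1 * ((tv (-t⁻¹)).1 * (sw (F := F)).1 *
    (dg (Units.mk0 (-t) (neg_ne_zero.2 ht))).1 * (tv (-t⁻¹)).1)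
  ext i k
  fin_cases i <;> fin_cases k <;>
    simp [tv, sw, dg, Matrix.mul_apply, Fin.sum_univ_two, Units.val_inv_eq_inv_val] <;> field_simp <;> ring

variable (ρ : Representation ℂ (OG Q) M)

/-- The inverse keeps a finite dimensional space. -/
theorem inv_keeps {X : Submodule ℂ M} {g : OG Q} (h : ∀ m ∈ X, ρ g m ∈ X) {m : M} (hm : m ∈ X) :
    ρ g⁻¹ m ∈ X := by
  obtain ⟨⟨a, ha⟩, e⟩ := LinearMap.surjective_of_injective (f := (ρ g).restrict h)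
    (fun a b e => Subtype.ext (rho_injective ρ g (congrArg Subtype.val e))) ⟨m, hm⟩
  have e' : ρ g a = m := congrArg Subtype.val e
  rw [← e', rho_inv_apply]
  exact ha

theorem proj_congr {u : ι → F} (hb : Big Q) (hu : Q u = 0) {D D' : Submodule F (ι → F)} (h : D = D')
    (hD : ∀ y ∈ D, B u y = 0) (hD' : ∀ y ∈ D', B u y = 0) (w : ι → F) :
    proj ρ hb hu hD w = proj ρ hb hu hD' w := by
  subst h
  rfl

variable {n : ℕ} (Fr : Frame Q n)

theorem Frame.fixes_pair {k : ℕ} {g : OG Q} (hg : Fixes (Fr.dsp k) g) {i : ℕ} (hi : i < k) :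
    ap (g : Grp Q) (Fr.p i).v = (Fr.p i).v ∧ ap (g : Grp Q) (Fr.p i).f = (Fr.p i).f :=
  ⟨hg _ fun _ hy => ((Fr.p i).mem_W.1 (hy i hi)).1, hg _ fun _ hy => ((Fr.p i).mem_W.1 (hy i hi)).2⟩

theorem Frame.fixes_maps {k l : ℕ} (hl : l ≤ k) {g : OG Q} (hg : Fixes (Fr.dsp k) g) :
    ∀ y ∈ Fr.dsp l, ap (g : Grp Q) y ∈ Fr.dsp l := fun y hy i hi => by
  obtain ⟨e1, e2⟩ := Fr.fixes_pair hg (show i < k by omega)
  exact mem_W_move (Fr.p i) one_ne_zero one_ne_zero (by rw [e1, one_smul]) (by rw [e2, one_smul]) (hy i hi)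

/-- The vectors fixed at both points and by the later root groups. -/
noncomputable def Frame.xsp {j : ℕ} (hj : j + 1 < n) : Submodule ℂ M :=
  (Fr.duo hj).both ρ (Fr.dsp j) (Fr.fx ρ 0 j) 0 0 ⊓ Fr.fx ρ (j + 2) n

variable (hb : Big Q) (hq : 4 ≤ Fintype.card F) {j : ℕ} (hj : j + 1 < n)

/-- The projection to the weight zero of the first point. -/
noncomputable def Frame.p0 (j : ℕ) : Module.End ℂ M :=
  proj ρ hb (Fr.p j).hv (Fr.b_dsp (l := j)) 0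

include hj in
theorem Frame.fx_le_xsp : Fr.fx ρ 0 n ≤ Fr.xsp ρ hj := by
  intro m hm
  have h1 : m ∈ Fr.fx ρ 0 j := fun l _ h => hm l (Nat.zero_le l) (by omega)
  refine ⟨⟨⟨h1, fun y hy g hg => ?_⟩, h1, fun y hy g hg => ?_⟩, fun l _ h => hm l (Nat.zero_le l) h⟩
  · rw [chw_zero, one_smul]
    exact hm j (Nat.zero_le j) (by omega) y
      (Fr.duo_outer hj ▸ (Fr.duo hj).side_le_outer (Fr.duo_in hj) hy) g hg
  · rw [chw_zero, one_smul]
    exact hm (j + 1) (Nat.zero_le _) hj y (Fr.duo_inner hj ▸ hy) g hg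

include hj in
theorem Frame.line_stable {g : OG Q} (hg : Fixes (Fr.dsp (j + 2)) g) {β : F} {m : M}
    (hm : m ∈ Wt ρ (Fr.fx ρ 0 j) (Fr.p j).v (Fr.dsp (j + 1)) (β • (Fr.p (j + 1)).v)) (hb : Big Q) :
    ρ g m ∈ Wt ρ (Fr.fx ρ 0 j) (Fr.p j).v (Fr.dsp (j + 1)) (β • (Fr.p (j + 1)).v) := by
  have hfix : Fixes (Fr.dsp j) g := fun x hx => hg x fun y hy => hx y (Fr.dsp_mono (by omega) hy)
  have h := wt_map ρ hb (Fr.p j).hv (Fr.b_dsp (l := j)) g one_ne_zero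
    (by rw [one_smul]; exact (Fr.fixes_pair hg (by omega)).1) (Fr.fixes_maps (by omega) hg)
    (fun a ha => Fr.inv_fx ρ g hfix a ha) hm
  rwa [ap_smul, (Fr.fixes_pair hg (show j + 1 < j + 2 by omega)).1, inv_one, one_smul] at h

variable (h0 : Single ρ ⊤ (Fr.p 0).v (Fr.dsp 1))

include hb hq hj h0 in
theorem Frame.duo_single :
    Single ρ (Fr.fx ρ 0 j) (Fr.duo hj).P.v ((Fr.duo hj).outer (Fr.dsp j)) := by
  rw [Fr.duo_outer hj]
  exact Fr.single_all hb ρ hq h0 j (by omega)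

include hb hq hj h0 in
theorem Frame.line_le_xsp {β : F} (hβ : β ≠ 0) :
    Wt ρ (Fr.fx ρ 0 j) (Fr.p j).v (Fr.dsp (j + 1)) (β • (Fr.p (j + 1)).v) ≤ Fr.xsp ρ hj := by
  intro m hm
  have hs := Fr.duo_single ρ hb hq hj h0
  have hm' : m ∈ Wt ρ (Fr.fx ρ 0 j) (Fr.duo hj).P.v ((Fr.duo hj).outer (Fr.dsp j))
      (β • (Fr.duo hj).R.v) := by rw [Fr.duo_outer hj]; exact hm
  refine ⟨⟨eig_le ρ ((Fr.duo hj).side_le_outer (Fr.duo_in hj)) (fun y hy => ?_) hm',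
    hm.1, fun y hy g hg => ?_⟩, fun l hl1 hl y hy g hg => ?_⟩
  · rw [chw_zero, chw_eq_one]
    rw [b_smul_left, (Fr.duo hj).side_perp hy, mul_zero]
  · rw [(Fr.duo hj).trivial_line ρ (Fr.duo_in hj) hb (Fr.inv_fx ρ) hq hs hβ hy hg hm', chw_zero, one_smul]
  · obtain ⟨c, hc0, hc1⟩ := exists_sq_ne_one' (F := F) hq
    obtain ⟨t, htv, -, htW⟩ := exists_torus' hb (Fr.p l) hc0
    have hu0 : β • (Fr.p (j + 1)).v ≠ 0 := smul_ne_zero hβ (Fr.p (j + 1)).v_ne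
    refine trivial_of_scale ρ hb ((Fr.single_all hb ρ hq h0 j (by omega)).le_one ρ
        ((Fr.dsp (j + 1)).smul_mem β (Fr.v_mem le_rfl hj)) hu0) (Fr.p l).hv (Fr.b_dsp (l := l))
      (fun z hz k hk a ha => Fr.line_stable ρ hj
        (fixes_siegel (Fr.v_mem hl1 hl) (Fr.dsp_mono (by omega) hz) hk) ha hb)
      t (d := c * c) (e := 1) (by rwa [mul_one]) htv
      (fun z hz => by rw [one_smul, htW z (hz l (Nat.lt_succ_self l))])
      (fun a ha => Fr.line_stable ρ hj (fun x hx => htW x ((Fr.p l).mem_W.2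
        ⟨by rw [b_comm]; exact hx _ (Fr.v_mem hl1 hl), by rw [b_comm]; exact hx _ (Fr.f_mem hl1 hl)⟩))
        ha hb) y hy g hg m hm

include hb hq hj h0 in
/-- The components of a vector of the pair. -/
theorem Frame.xsp_proj {m : M} (hm : m ∈ Fr.xsp ρ hj) :
    Fr.p0 ρ hb j m ∈ Fr.fx ρ 0 n ∧ ∀ w ∈ Fr.dsp (j + 1),
      proj ρ hb (Fr.p j).hv (Fr.b_dsp (l := j)) w m ≠ 0 → ∃ β : F, w = β • (Fr.p (j + 1)).v ∧
        proj ρ hb (Fr.p j).hv (Fr.b_dsp (l := j)) w m ∈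
          Wt ρ (Fr.fx ρ 0 j) (Fr.p j).v (Fr.dsp (j + 1)) w := by
  have hn := Fr.dsp_nondeg hb j (by omega)
  have hs := Fr.duo_single ρ hb hq hj h0
  refine ⟨?_, fun w hw hne => ?_⟩
  · obtain ⟨h1, -⟩ := (Fr.duo hj).both_fixed ρ (Fr.duo_in hj) hb (Fr.inv_fx ρ) hq hn hs
      (zero_mem _) m hm.1
    have h2 : Fr.p0 ρ hb j m ∈ Wt ρ (Wt ρ (Fr.fx ρ 0 j) (Fr.duo hj).P.v
        ((Fr.duo hj).outer (Fr.dsp j)) 0) (Fr.duo hj).R.v ((Fr.duo hj).inner (Fr.dsp j)) 0 := by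
      rw [Frame.p0, proj_congr ρ hb (Fr.p j).hv (Fr.duo_outer hj).symm (Fr.b_dsp (l := j))
        ((Fr.duo hj).b_outer (D := Fr.dsp j)) 0]
      exact h1
    rw [Fr.duo_outer hj, Fr.duo_inner hj] at h2
    change _ ∈ Wt ρ (Wt ρ (Fr.fx ρ 0 j) (Fr.p j).v _ 0) (Fr.p (j + 1)).v _ 0 at h2
    rw [Fr.fx_succ, Fr.fx_succ] at h2
    intro l hl1 hl y hy g hg
    by_cases hlj : l < j + 2
    · exact h2 l hl1 hlj y hy g hg
    have hgfix : Fixes (Fr.dsp (j + 2)) g :=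
      fixes_siegel (Fr.v_mem (by omega) hl) (Fr.dsp_mono (by omega) hy) hg
    rw [Frame.p0, proj_scale ρ hb (Fr.p j).hv (Fr.b_dsp (l := j)) (Fr.dsp_nondeg hb (j + 1) (by omega))
      g one_ne_zero (by rw [one_smul]; exact (Fr.fixes_pair hgfix (by omega)).1)
      (Fr.fixes_maps (by omega) hgfix) (zero_mem _), ap_zero, smul_zero,
      hm.2 l (by omega) hl y hy g hg]
  · refine ⟨?_, ?_, Fr.proj_fx_mem hb ρ (by omega) w hm.1.1.1⟩
    · exact B (Fr.p (j + 1)).f w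
    · have h := proj_agree ρ hb (Fr.p j).hv (Fr.b_dsp (l := j))
        (le_of_le_of_eq ((Fr.duo hj).side_le_outer (Fr.duo_in hj)) (Fr.duo_outer hj)) hm.1.1 hne
      have h0' : B (Fr.p (j + 1)).v w = 0 := by
        rw [b_comm]
        exact (h _ (Submodule.mem_sup_left (Submodule.mem_span_singleton_self _))).trans (b_zero_left _)
      have hp : (Fr.p (j + 1)).pW w ∈ Fr.dsp (j + 2) := by
        rw [Fr.dsp_succ (j + 1)]
        exact pW_mem_of _ (Fr.v_mem le_rfl hj) (Fr.f_mem le_rfl hj) hw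
      have hz : (Fr.p (j + 1)).pW w = 0 := Fr.dsp_nondeg hb (j + 2) (by omega) _ hp fun y hy => by
        obtain ⟨y1, y2⟩ := (Fr.p (j + 1)).mem_W.1 (hy (j + 1) (by omega))
        rw [HP.pW, b_sub_left, b_sub_left, b_smul_left, b_smul_left, y1, y2,
          h y (Submodule.mem_sup_right (Fr.duo_inner hj ▸ hy)), b_zero_left]
        ring
      conv_lhs => rw [pair_decomp (Fr.p (j + 1)) w, hz, h0', zero_smul, add_zero, zero_add]

include hb hq hj h0 in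
/-- A vector of the pair is the sum of its part of weight zero and of lines. -/
theorem Frame.xsp_rec {m : M} (hm : m ∈ Fr.xsp ρ hj) {C : Submodule ℂ M}
    (hC0 : Fr.p0 ρ hb j m ∈ C) (hC : ∀ β : F, β ≠ 0 →
      proj ρ hb (Fr.p j).hv (Fr.b_dsp (l := j)) (β • (Fr.p (j + 1)).v) m ∈ C) : m ∈ C := by
  classical
  rw [← sum_proj ρ hb (Fr.p j).hv (Fr.b_dsp (l := j)) (Fr.dsp_nondeg hb (j + 1) (by omega)) m]
  refine Submodule.sum_mem _ fun w _ => ?_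
  by_cases hne : proj ρ hb (Fr.p j).hv (Fr.b_dsp (l := j)) (w : ι → F) m = 0
  · rw [hne]; exact zero_mem C
  obtain ⟨β, hβ, -⟩ := (Fr.xsp_proj ρ hb hq hj h0 hm).2 _ w.2 hne
  rw [hβ]
  by_cases h : β = 0
  · rw [h, zero_smul]; exact hC0
  · exact hC β h

include hb hq hj h0 in
theorem Frame.xsp_sw {m : M} (hm : m ∈ Fr.xsp ρ hj) :
    ρ ((Fr.duo hj).lev hb hq sw) m ∈ Fr.xsp ρ hj := by
  refine ⟨?_, fun l hl1 hl y hy k hk => ?_⟩
  · have h := (Fr.duo hj).both_sw ρ (Fr.duo_in hj) hb (Fr.inv_fx ρ) hq (zero_mem _) (zero_mem _) hm.1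
    rwa [neg_zero] at h
  obtain ⟨w, hw⟩ : ∃ w, w = (Fr.duo hj).lev hb hq sw := ⟨_, rfl⟩
  rw [← hw]
  have h1 := siegel_conj hk (w : Grp Q)
  rw [hw, (Fr.lev_fix_other hb hq hj sw hl (by omega) (by omega)).1,
    Fr.lev_fix_dsp hb hq hj sw (Fr.dsp_mono (by omega) hy)] at h1
  have e : w * k * w⁻¹ = k := Subtype.ext (by rw [hw]; exact siegel_unique h1 hk)
  rw [← rho_mul, show k * w = w * k by
    calc k * w = w * k * w⁻¹ * w := by rw [e]
      _ = w * k := by group, rho_mul, hm.2 l hl1 hl y hy k hk]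

include hb hq hj in
theorem Frame.tv_mem_dsp (a : F) : (-a) • (Fr.p (j + 1)).f ∈ Fr.dsp (j + 1) :=
  (Fr.dsp (j + 1)).smul_mem _ (Fr.f_mem le_rfl hj)

include hb hq hj in
theorem Frame.tv_fix {m : M} (hm : m ∈ Fr.fx ρ 0 n) (a : F) :
    ρ ((Fr.duo hj).lev hb hq (tv a)) m = m :=
  hm j (Nat.zero_le j) (by omega) _ (Fr.tv_mem_dsp hb hq hj a) _ ((Fr.duo hj).tv_siegel hb hq a)

include hb hq hj in
theorem Frame.tv_p0 (a : F) {m : M} (hm : m ∈ Fr.fx ρ 0 j) :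
    Fr.p0 ρ hb j (ρ ((Fr.duo hj).lev hb hq (tv a)) m) = Fr.p0 ρ hb j m := by
  have h : ∀ g : OG Q, IsSiegel (Fr.p j).v ((-a) • (Fr.p (j + 1)).f) (g : Grp Q) →
      Fr.p0 ρ hb j (ρ g m) = Fr.p0 ρ hb j m := fun g hg => by
    rw [Frame.p0, ← proj_root ρ hb (Fr.p j).hv (Fr.b_dsp (l := j)) hg,
      (Fr.proj_fx_mem hb ρ (show j < n by omega) 0 hm).2 _ (Fr.tv_mem_dsp hb hq hj a) g hg,
      chw_zero, one_smul]
  exact h _ ((Fr.duo hj).tv_siegel hb hq a)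

include hb hq hj h0 in
theorem Frame.xsp_tv {m : M} (hm : m ∈ Fr.xsp ρ hj) (a : F) :
    ρ ((Fr.duo hj).lev hb hq (tv a)) m ∈ Fr.xsp ρ hj := by
  suffices h : m ∈ (Fr.xsp ρ hj).comap (ρ ((Fr.duo hj).lev hb hq (tv a))) from h
  refine Fr.xsp_rec ρ hb hq hj h0 hm ?_ fun β hβ => ?_
  · rw [Submodule.mem_comap]
    have h1 := (Fr.xsp_proj ρ hb hq hj h0 hm).1
    rw [Fr.tv_fix ρ hb hq hj h1]
    exact Fr.fx_le_xsp ρ hj h1
  · rw [Submodule.mem_comap]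
    have h1 := Fr.proj_fx_mem hb ρ (show j < n by omega) (β • (Fr.p (j + 1)).v) hm.1.1.1
    rw [h1.2 _ (Fr.tv_mem_dsp hb hq hj a) _ ((Fr.duo hj).tv_siegel hb hq a)]
    exact Submodule.smul_mem _ _ (Fr.line_le_xsp ρ hb hq hj h0 hβ h1)

variable {c : Fˣ} (hc : ∀ x : Fˣ, x ∈ Subgroup.zpowers c) (hodd : Odd (Fintype.card F))

include hb hq hj h0 hc hodd in
theorem Frame.line_neg {gz : OG Q} (hz : Fr.IsDiag gz (dz j c)) {β : F} (hβ : β ≠ 0) {m : M}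
    (hm : m ∈ Wt ρ (Fr.fx ρ 0 j) (Fr.p j).v (Fr.dsp (j + 1)) (β • (Fr.p (j + 1)).v)) :
    ρ gz m = -m := by
  rw [hz.ext Fr (Fr.diag_dz hb hq hj c) (fun _ _ => rfl)]
  refine (Fr.duo hj).flip.weight_neg ρ (Fr.duo_in hj).flip hb (Fr.inv_fx ρ) hq
    (Fr.dsp_nondeg hb j (by omega)) (Fr.duo_single ρ hb hq hj h0) hodd ?_ hc hβ ?_
  · rw [Duo.flip_inner, Fr.duo_inner hj]
    exact ⟨n - (j + 2), by have := Fr.dsp_dim (j + 2) (by omega); omega⟩
  · show m ∈ Wt ρ _ _ ((Fr.duo hj).outer (Fr.dsp j)) _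
    rw [Fr.duo_outer hj]
    exact hm

include hb hq hj in
theorem Frame.z_comm {gz : OG Q} (hz : Fr.IsDiag gz (dz j c)) (A : SpecialLinearGroup (Fin 2) F) :
    gz * (Fr.duo hj).lev hb hq A = (Fr.duo hj).lev hb hq A * gz := by
  rw [hz.ext Fr (Fr.diag_dz hb hq hj c) (fun _ _ => rfl)]
  have k1 : ap ((Fr.duo hj).flip.lev hb hq (dg c) : Grp Q) (Fr.duo hj).P.v =
      (c : F) • (Fr.duo hj).P.v := (Fr.duo hj).flip.dg_v hb hq c
  have k2 : ap ((Fr.duo hj).flip.lev hb hq (dg c) : Grp Q) (Fr.duo hj).R.v =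
      (c : F) • (Fr.duo hj).R.v := (Fr.duo hj).flip.dg_rf hb hq c
  have k3 : ap ((Fr.duo hj).flip.lev hb hq (dg c) : Grp Q) (Fr.duo hj).P.f =
      ((c⁻¹ : Fˣ) : F) • (Fr.duo hj).P.f := (Fr.duo hj).flip.dg_f hb hq c
  have k4 : ap ((Fr.duo hj).flip.lev hb hq (dg c) : Grp Q) (Fr.duo hj).R.f =
      ((c⁻¹ : Fˣ) : F) • (Fr.duo hj).R.f := (Fr.duo hj).flip.dg_u hb hq c
  refine Subtype.ext ((Fr.duo hj).ext_of ?_ ?_ ?_ ?_ fun x a1 a2 a3 a4 => ?_) <;>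
    simp only [Subgroup.coe_mul, ap_mul]
  all_goals first
    | (simp only [(Fr.duo hj).lev_ap, Duo.lin_v, Duo.lin_u, Duo.lin_f, Duo.lin_rf, ap_add, ap_smul,
        k1, k2, k3, k4, map_smul]
       module)
    | skip
  · rw [(Fr.duo hj).flip.lev_fix hb hq _ a1 a2 a4 a3, (Fr.duo hj).lev_fix hb hq _ a1 a2 a3 a4,
      (Fr.duo hj).flip.lev_fix hb hq _ a1 a2 a4 a3]

include hb hq hj h0 hc hodd in
theorem Frame.plus_mem {gz : OG Q} (hz : Fr.IsDiag gz (dz j c)) {m : M} (hm : m ∈ Fr.xsp ρ hj) :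
    ρ gz m + m ∈ Fr.fx ρ 0 n := by
  suffices h : m ∈ (Fr.fx ρ 0 n).comap (ρ gz + LinearMap.id) from h
  refine Fr.xsp_rec ρ hb hq hj h0 hm ?_ fun β hβ => ?_
  · rw [Submodule.mem_comap, LinearMap.add_apply, LinearMap.id_apply]
    have h1 := (Fr.xsp_proj ρ hb hq hj h0 hm).1
    exact add_mem (hz.fx_mem Fr ρ hb le_rfl h1) h1
  · rw [Submodule.mem_comap, LinearMap.add_apply, LinearMap.id_apply]
    rw [Fr.line_neg ρ hb hq hj h0 hc hodd hz hβ (Fr.proj_fx_mem hb ρ (by omega) _ hm.1.1.1), neg_add_cancel]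
    exact zero_mem _

include hb hq hj h0 hc hodd in
/-- The group of the pair is trivial on the part where the central element is not minus one. -/
theorem Frame.lev_trivial {gz : OG Q} (hz : Fr.IsDiag gz (dz j c)) (A : SpecialLinearGroup (Fin 2) F) :
    ∀ m ∈ Fr.xsp ρ hj, ρ ((Fr.duo hj).lev hb hq A) (ρ gz m + m) = ρ gz m + m := by
  let K : Subgroup (SpecialLinearGroup (Fin 2) F) :=
    { carrier := {A | ∀ m ∈ Fr.xsp ρ hj, ρ ((Fr.duo hj).lev hb hq A) (ρ gz m + m) = ρ gz m + m}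
      one_mem' := fun m _ => by rw [map_one, map_one, Module.End.one_apply]
      mul_mem' := fun ha hb' m hm => by rw [map_mul, rho_mul, hb' m hm, ha m hm]
      inv_mem' := fun ha m hm => by
        rw [map_inv]
        conv_lhs => rw [← ha m hm, rho_inv_apply] }
  suffices K = ⊤ from fun m hm => (this ▸ Subgroup.mem_top A : A ∈ K) m hm
  refine tv_sw_top K (fun a m hm => Fr.tv_fix ρ hb hq hj (Fr.plus_mem ρ hb hq hj h0 hc hodd hz hm) a)
    fun a m hm => ?_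
  obtain ⟨w, hw⟩ : ∃ w, w = (Fr.duo hj).lev hb hq sw := ⟨_, rfl⟩
  rw [map_mul ((Fr.duo hj).lev hb hq), map_mul ((Fr.duo hj).lev hb hq), map_inv, ← hw, rho_mul,
    rho_mul]
  have hm' : ρ w⁻¹ m ∈ Fr.xsp ρ hj :=
    inv_keeps ρ (fun b hb' => hw ▸ Fr.xsp_sw ρ hb hq hj h0 hb') hm
  have e : ρ w⁻¹ (ρ gz m + m) = ρ gz (ρ w⁻¹ m) + ρ w⁻¹ m := by
    rw [map_add, ← rho_mul, ← rho_mul]
    congr 3
    have h := Fr.z_comm hb hq hj hz sw⁻¹
    rw [map_inv, ← hw] at h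
    exact h.symm
  rw [e, Fr.tv_fix ρ hb hq hj (Fr.plus_mem ρ hb hq hj h0 hc hodd hz hm') a, ← e, rho_apply_inv]

include hb hq hj h0 hc hodd in
theorem Frame.h_plus {gz gh : OG Q} (hz : Fr.IsDiag gz (dz j c)) (hh : Fr.IsDiag gh (dh j c))
    {m : M} (hm : m ∈ Fr.fx ρ 0 n) : ρ gh (ρ gz m + m) = ρ gz m + m := by
  rw [hh.ext Fr (Fr.diag_dh hb hq hj c) (fun _ _ => rfl)]
  exact Fr.lev_trivial ρ hb hq hj h0 hc hodd hz (dg c) m (Fr.fx_le_xsp ρ hj hm)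

end CfsgLib.OrthMinDegree
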