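import Cfsg.Agent.Lib.OrthMinDegree.OddInvol

/-!
The minus part of the central element of a pair, split by a neighbouring one.
-/

set_option autoImplicit false
set_option linter.unusedSectionVars false

namespace CfsgLib.OrthMinDegree

open CfsgLib.Orth CfsgLib.MinIndexOrth Cfsg Matrix

variable {F : Type*} [Field F] [Fintype F] {ι : Type} [Fintype ι] [DecidableEq ι]
variable {Q : QuadraticForm F (ι → F)}
variable {M : Type*} [AddCommGroup M] [Module ℂ M] [FiniteDimensional ℂ M]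

local notation "B" => QuadraticMap.polar (DFunLike.coe Q)
local notation "q" => Fintype.card F

variable (ρ : Representation ℂ (OG Q) M) {n : ℕ} (Fr : Frame Q n)

/-- A joint eigenspace in the fixed space of the chain. -/
noncomputable def Frame.asp (gz gb : OG Q) (ε : ℂ) : Submodule ℂ M :=
  Fr.fx ρ 0 n ⊓ Module.End.eigenspace (ρ gz) (-1) ⊓ Module.End.eigenspace (ρ gb) ε

/-- The minus part of a central element. -/
noncomputable def Frame.emin (gz : OG Q) : Submodule ℂ M :=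
  Fr.fx ρ 0 n ⊓ Module.End.eigenspace (ρ gz) (-1)

theorem Frame.mem_asp {gz gb : OG Q} {ε : ℂ} {m : M} :
    m ∈ Fr.asp ρ gz gb ε ↔ m ∈ Fr.fx ρ 0 n ∧ ρ gz m = -m ∧ ρ gb m = ε • m := by
  simp [Frame.asp, and_assoc]

theorem Frame.mem_emin {gz : OG Q} {m : M} :
    m ∈ Fr.emin ρ gz ↔ m ∈ Fr.fx ρ 0 n ∧ ρ gz m = -m := by
  simp [Frame.emin]

variable {j : ℕ} (hj : j + 1 < n) {c : Fˣ} {gz gh gb g : OG Q} {d : ℕ → Fˣ}

/-- A central element, its diagonal partner, a commuting involution and its conjugate. -/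
structure Frame.Sides (j : ℕ) (c : Fˣ) (gz gh gb g : OG Q) (d : ℕ → Fˣ) : Prop where
  hz : Fr.IsDiag gz (dz j c)
  hh : Fr.IsDiag gh (dh j c)
  hb' : Fr.IsDiag gb d
  hg : Fr.IsDiag g (d ∘ Equiv.swap j (j + 1))
  conj : ∀ m ∈ Fr.emin ρ gz, ρ g m = -ρ gb m
  inv : ∀ m ∈ Fr.fx ρ 0 n, ρ gb (ρ gb m) = m

variable (hb : Big Q) (hq : 4 ≤ Fintype.card F) (hn : 2 ≤ n)
  (h0 : Single ρ ⊤ (Fr.p 0).v (Fr.dsp 1)) (hc : ∀ x : Fˣ, x ∈ Subgroup.zpowers c)
  (hodd : Odd (Fintype.card F))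

theorem Frame.diag_comm {a b : OG Q} {d e : ℕ → Fˣ} (ha : Fr.IsDiag a d) (hb : Fr.IsDiag b e) :
    a * b = b * a :=
  (ha.mul Fr hb).ext Fr (hb.mul Fr ha) fun _ _ => mul_comm _ _

include hb hq hj h0 in
theorem Frame.p0_diag (hg' : Fr.IsDiag g d) {m : M} :
    ρ g (Fr.p0 ρ hb j m) = Fr.p0 ρ hb j (ρ g m) := by
  have h := proj_scale ρ hb (Fr.p j).hv (Fr.b_dsp (l := j)) (Fr.dsp_nondeg hb (j + 1) (by omega)) g
    (d j).ne_zero (hg'.1 j (by omega)).1 (hg'.maps Fr (by omega)) (zero_mem _) m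
  rwa [ap_zero, smul_zero] at h

include hb hq hj h0 in
theorem Frame.p0_of_fx {m : M} (hm : m ∈ Fr.fx ρ 0 n) : Fr.p0 ρ hb j m = m := by
  refine proj_eq_self ρ hb (Fr.p j).hv (Fr.b_dsp (l := j)) (S := Fr.fx ρ 0 j) ?_
  show m ∈ Wt ρ (Fr.fx ρ 0 j) _ _ 0
  rw [Fr.fx_succ]
  exact Fr.fx_anti ρ (by omega) hm

/-- The minus part of the central element on the pair space. -/
noncomputable def Frame.xmin (hj : j + 1 < n) (gz : OG Q) : Submodule ℂ M :=
  Fr.xsp ρ hj ⊓ Module.End.eigenspace (ρ gz) (-1)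

theorem Frame.mem_xmin {m : M} :
    m ∈ Fr.xmin ρ hj gz ↔ m ∈ Fr.xsp ρ hj ∧ ρ gz m = -m := by
  simp [Frame.xmin]

/-- The projection separating one sign. -/
noncomputable def Frame.psep (j : ℕ) (g : OG Q) (ε : ℂ) : Module.End ℂ M :=
  Fr.p0 ρ hb j - ε • (ρ g * Fr.p0 ρ hb j)

theorem Frame.psep_apply (ε : ℂ) (m : M) :
    Fr.psep ρ hb j g ε m = Fr.p0 ρ hb j m - ε • ρ g (Fr.p0 ρ hb j m) := by
  simp [Frame.psep, Module.End.mul_apply]

variable (hS : Fr.Sides ρ j c gz gh gb g d) {ε : ℂ} (hε : ε * ε = 1)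

include hS hb hq hj hn h0 hc hodd hε in
/-- The orbit of a sign eigenspace embeds in the minus part of the pair space. -/
theorem Frame.exists_embedding :
    ∃ Φ : ((F → Fr.asp ρ gz gb ε) × Fr.asp ρ gz gb ε) →ₗ[ℂ] M,
      Function.Injective Φ ∧ (∀ x, Φ x ∈ Fr.xmin ρ hj gz) ∧
      ∀ x, Φ x = (x.2 : M) + ∑ a : F, ρ ((Fr.duo hj).lev hb hq (tv a) * (Fr.duo hj).lev hb hq sw)
        ((x.1 a : M)) := by
  classical
  obtain ⟨w, hw⟩ : ∃ w, w = (Fr.duo hj).lev hb hq sw := ⟨_, rfl⟩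
  let A := Fr.asp ρ gz gb ε
  let Φ : ((F → A) × A) →ₗ[ℂ] M :=
    A.subtype.comp (LinearMap.snd ℂ _ _) + ∑ a : F,
      (ρ ((Fr.duo hj).lev hb hq (tv a) * w)).comp
        (A.subtype.comp ((LinearMap.proj a).comp (LinearMap.fst ℂ _ _)))
  have hΦ : ∀ x : (F → A) × A, Φ x =
      (x.2 : M) + ∑ a : F, ρ ((Fr.duo hj).lev hb hq (tv a) * w) ((x.1 a : M)) := fun x => by
    simp [Φ]
  have hcm : ∀ A' : SpecialLinearGroup (Fin 2) F, ∀ m, ρ gz (ρ ((Fr.duo hj).lev hb hq A') m) =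
      ρ ((Fr.duo hj).lev hb hq A') (ρ gz m) := fun A' m => by
    rw [← rho_mul, Fr.z_comm hb hq hj hS.hz A', rho_mul]
  have hxm : ∀ f : A, ρ w (f : M) ∈ Fr.xmin ρ hj gz := fun f => by
    obtain ⟨h1, h2, -⟩ := (Fr.mem_asp ρ).1 f.2
    refine (Fr.mem_xmin ρ hj).2 ⟨hw ▸ Fr.xsp_sw ρ hb hq hj h0 (Fr.fx_le_xsp ρ hj h1), ?_⟩
    rw [hw, hcm, h2, map_neg]
  refine ⟨Φ, ?_, fun x => ?_, fun x => by rw [hΦ, hw]⟩
  swap
  · rw [hΦ]
    refine add_mem ?_ (Submodule.sum_mem _ fun a _ => ?_)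
    · obtain ⟨h1, h2, -⟩ := (Fr.mem_asp ρ).1 x.2.2
      exact (Fr.mem_xmin ρ hj).2 ⟨Fr.fx_le_xsp ρ hj h1, h2⟩
    · obtain ⟨h1, h2⟩ := (Fr.mem_xmin ρ hj).1 (hxm (x.1 a))
      rw [rho_mul]
      exact (Fr.mem_xmin ρ hj).2 ⟨Fr.xsp_tv ρ hb hq hj h0 h1 a, by rw [hcm, h2, map_neg]⟩
  -- the conjugations
  have hgw : g * w = w * gb := by
    have h : w * gb * w⁻¹ = g := hw ▸ (Fr.diag_conj hb hq hj hS.hb').ext Fr hS.hg (fun _ _ => rfl)
    rw [← h, inv_mul_cancel_right]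
  have hbw : gb * w = w * g := by
    have h : w * g * w⁻¹ = gb := hw ▸ (Fr.diag_conj hb hq hj hS.hg).ext Fr hS.hb'
      (fun i _ => by simp [Equiv.swap_apply_self])
    rw [← h, inv_mul_cancel_right]
  have hgwi : g * w⁻¹ = w⁻¹ * gb := by
    rw [eq_inv_mul_iff_mul_eq, ← mul_assoc, ← hbw, mul_inv_cancel_right]
  -- the values of the separation
  have hp0 : ∀ m, ρ g (Fr.p0 ρ hb j m) = Fr.p0 ρ hb j (ρ g m) := fun m =>
    Fr.p0_diag ρ hj hb hq h0 hS.hg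
  have hkill : ∀ m, ρ g m = ε • m → Fr.psep ρ hb j g ε m = 0 := fun m hm => by
    rw [Fr.psep_apply, hp0, hm, map_smul, smul_smul, hε, one_smul, sub_self]
  have hval : ∀ f : A, Fr.psep ρ hb j g ε (f : M) = (2 : ℂ) • (f : M) := fun f => by
    obtain ⟨h1, h2, h3⟩ := (Fr.mem_asp ρ).1 f.2
    rw [Fr.psep_apply, Fr.p0_of_fx ρ hj hb hq h0 h1, hS.conj _ ((Fr.mem_emin ρ).2 ⟨h1, h2⟩), h3,
      smul_neg, smul_smul, hε, one_smul, sub_neg_eq_add, two_smul]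
  have htv : ∀ (a : F) m, m ∈ Fr.fx ρ 0 j →
      Fr.psep ρ hb j g ε (ρ ((Fr.duo hj).lev hb hq (tv a)) m) = Fr.psep ρ hb j g ε m := fun a m hm => by
    rw [Fr.psep_apply, Fr.psep_apply, Fr.tv_p0 ρ hb hq hj a hm]
  have hsw : ∀ f : A, Fr.psep ρ hb j g ε (ρ w (f : M)) = 0 := fun f => hkill _ (by
    obtain ⟨-, -, h3⟩ := (Fr.mem_asp ρ).1 f.2
    rw [← rho_mul, hgw, rho_mul, h3, map_smul])
  have hdg : ∀ (u : Fˣ) (f : A), ∃ s : ℂ, ρ ((Fr.duo hj).lev hb hq (dg u)) (f : M) = s • (f : M) := by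
    intro u f
    obtain ⟨h1, h2, -⟩ := (Fr.mem_asp ρ).1 f.2
    have hH : ρ ((Fr.duo hj).lev hb hq (dg c)) (f : M) = -(f : M) := by
      have hh := (Fr.invol ρ hb hq hn h0 hc hodd hj hS.hz (Fr.diag_dh hb hq hj c) h1).1
      rw [← hh, h2]
    obtain ⟨i, hi⟩ := (mem_powers_iff_mem_zpowers (x := c) (y := u)).2 (hc u)
    subst hi
    induction i with
    | zero => exact ⟨1, by simp [dg_one]⟩
    | succ i ih =>
      obtain ⟨s, hs⟩ := ih
      refine ⟨-s, ?_⟩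
      rw [show (fun x => c ^ x) (i + 1) = c ^ i * c from pow_succ c i, dg_mul, map_mul, rho_mul, hH,
        map_neg, hs, neg_smul]
  -- the independence
  rw [injective_iff_map_eq_zero]
  intro x hx
  rw [hΦ] at hx
  have hzero : ∀ b : F, x.1 b = 0 := by
    intro b
    have h := congrArg (fun m => Fr.psep ρ hb j g ε
      (ρ w⁻¹ (ρ ((Fr.duo hj).lev hb hq (tv (-b))) m))) hx
    simp only [map_add, map_sum, map_zero] at h
    obtain ⟨h1, h2, h3⟩ := (Fr.mem_asp ρ).1 x.2.2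
    rw [Fr.tv_fix ρ hb hq hj h1, hkill (ρ w⁻¹ (x.2 : M)) (by
      rw [← rho_mul, hgwi, rho_mul, h3, map_smul]), zero_add,
      Finset.sum_eq_single b (fun a _ hab => ?_) (fun h => absurd (Finset.mem_univ _) h)] at h
    · rw [← rho_mul ρ ((Fr.duo hj).lev hb hq (tv (-b))), ← mul_assoc, ← map_mul, ← tv_add,
        neg_add_cancel, show (tv (0 : F)) = 1 by ext i k; fin_cases i <;> fin_cases k <;> simp [tv],
        map_one, one_mul, rho_inv_apply, hval, smul_eq_zero] at h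
      exact Subtype.ext (h.resolve_left two_ne_zero)
    · have ht : -b + a ≠ 0 := fun e => hab (by linear_combination e)
      rw [← rho_mul ρ ((Fr.duo hj).lev hb hq (tv (-b))), ← mul_assoc, ← map_mul, ← tv_add, ← rho_mul,
        ← mul_assoc, hw, ← map_inv, ← map_mul, ← map_mul, sw_tv_sw _ ht, map_mul ((Fr.duo hj).lev hb hq),
        map_mul ((Fr.duo hj).lev hb hq), map_mul ((Fr.duo hj).lev hb hq), rho_mul, rho_mul, rho_mul]
      obtain ⟨f1, -, -⟩ := (Fr.mem_asp ρ).1 (x.1 a).2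
      obtain ⟨s, hs⟩ := hdg (Units.mk0 (-(-b + a)) (neg_ne_zero.2 ht)) (x.1 a)
      rw [Fr.tv_fix ρ hb hq hj f1, hs, map_smul, map_smul, map_smul, ← hw,
        htv _ _ ((Fr.mem_xmin ρ hj).1 (hxm (x.1 a))).1.1.1.1, hsw, smul_zero]
  refine Prod.ext (funext hzero) (Subtype.ext ?_)
  simp only [hzero, Submodule.coe_zero, map_zero, Finset.sum_const_zero, add_zero] at hx
  exact hx

include hS hb hq hj h0 in
theorem Frame.asp_sup : Fr.emin ρ gz ≤ Fr.asp ρ gz gb 1 ⊔ Fr.asp ρ gz gb (-1) := by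
  intro m hm
  obtain ⟨h1, h2⟩ := (Fr.mem_emin ρ).1 hm
  have hk := hS.inv m h1
  have hbm := hS.hb'.fx_mem Fr ρ hb le_rfl h1
  have hcm : ρ gz (ρ gb m) = -ρ gb m := by
    rw [← rho_mul, Fr.diag_comm hS.hz hS.hb', rho_mul, h2, map_neg]
  refine Submodule.mem_sup.2 ⟨((1 : ℂ) / 2) • (m + ρ gb m), ?_, ((1 : ℂ) / 2) • (m - ρ gb m), ?_, by module⟩
  · refine (Fr.mem_asp ρ).2 ⟨Submodule.smul_mem _ _ (add_mem h1 hbm), ?_, ?_⟩
    · rw [map_smul, map_add, h2, hcm]; module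
    · rw [map_smul, map_add, hk]; module
  · refine (Fr.mem_asp ρ).2 ⟨Submodule.smul_mem _ _ (sub_mem h1 hbm), ?_, ?_⟩
    · rw [map_smul, map_sub, h2, hcm]; module
    · rw [map_smul, map_sub, hk]; module

include hS hb hq hj h0 in
theorem Frame.finrank_xmin :
    Module.finrank ℂ (Fr.xmin ρ hj gz) ≤ (q - 1) +
      (Module.finrank ℂ (Fr.asp ρ gz gb 1) + Module.finrank ℂ (Fr.asp ρ gz gb (-1))) := by
  classical
  let L : Fˣ → Submodule ℂ M := fun β =>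
    Wt ρ (Fr.fx ρ 0 j) (Fr.p j).v (Fr.dsp (j + 1)) ((β : F) • (Fr.p (j + 1)).v)
  have hmem : ∀ (β : Fˣ) (m : Fr.xmin ρ hj gz),
      proj ρ hb (Fr.p j).hv (Fr.b_dsp (l := j)) ((β : F) • (Fr.p (j + 1)).v) (m : M) ∈ L β :=
    fun β m => Fr.proj_fx_mem hb ρ (by omega) _ ((Fr.mem_xmin ρ hj).1 m.2).1.1.1.1
  have hp : ∀ m : Fr.xmin ρ hj gz, Fr.p0 ρ hb j (m : M) ∈ Fr.emin ρ gz := fun m => by
    obtain ⟨h1, h2⟩ := (Fr.mem_xmin ρ hj).1 m.2
    refine (Fr.mem_emin ρ).2 ⟨(Fr.xsp_proj ρ hb hq hj h0 h1).1, ?_⟩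
    rw [Fr.p0_diag ρ hj hb hq h0 hS.hz, h2, map_neg]
  let f : Fr.xmin ρ hj gz →ₗ[ℂ] ((β : Fˣ) → L β) × Fr.emin ρ gz :=
    LinearMap.prod
      (LinearMap.pi fun β => ((proj ρ hb (Fr.p j).hv (Fr.b_dsp (l := j))
        ((β : F) • (Fr.p (j + 1)).v)).comp (Fr.xmin ρ hj gz).subtype).codRestrict (L β) (hmem β))
      (((Fr.p0 ρ hb j).comp (Fr.xmin ρ hj gz).subtype).codRestrict (Fr.emin ρ gz) hp)
  have hinj : Function.Injective f := (injective_iff_map_eq_zero f).2 fun m hm => by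
    refine Subtype.ext ((Submodule.mem_bot ℂ).1 (Fr.xsp_rec ρ hb hq hj h0 ((Fr.mem_xmin ρ hj).1 m.2).1
      (C := ⊥) ?_ fun β hβ => ?_))
    · exact (Submodule.mem_bot ℂ).2 (congrArg (fun x => (x.2 : M)) hm)
    · exact (Submodule.mem_bot ℂ).2 (congrArg (fun x => (x.1 (Units.mk0 β hβ) : M)) hm)
  have hL : ∀ β : Fˣ, Module.finrank ℂ (L β) ≤ 1 := fun β =>
    (Fr.single_all hb ρ hq h0 j (by omega)).le_one ρ ((Fr.dsp (j + 1)).smul_mem _ (Fr.v_mem le_rfl hj))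
      (smul_ne_zero β.ne_zero (Fr.p (j + 1)).v_ne)
  refine (LinearMap.finrank_le_finrank_of_injective hinj).trans ?_
  rw [Module.finrank_prod, Module.finrank_pi_fintype]
  refine Nat.add_le_add ((Finset.sum_le_sum fun β _ => hL β).trans (by simp [Fintype.card_units])) ?_
  exact (Submodule.finrank_mono (Fr.asp_sup ρ hj hb hq h0 hS)).trans
    (Submodule.finrank_add_le_finrank_add_finrank _ _)

include hS hb hq hj hn h0 hc hodd in
/-- The two signs occur equally often, at most once. -/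
theorem Frame.sign_eq :
    Module.finrank ℂ (Fr.asp ρ gz gb 1) = Module.finrank ℂ (Fr.asp ρ gz gb (-1)) ∧
      Module.finrank ℂ (Fr.asp ρ gz gb 1) ≤ 1 := by
  have key : ∀ ε : ℂ, ε * ε = 1 → (q + 1) * Module.finrank ℂ (Fr.asp ρ gz gb ε) ≤ (q - 1) +
      (Module.finrank ℂ (Fr.asp ρ gz gb 1) + Module.finrank ℂ (Fr.asp ρ gz gb (-1))) := by
    intro ε hε
    obtain ⟨Φ, hΦ, hmem, -⟩ := Fr.exists_embedding ρ hj hb hq hn h0 hc hodd hS hε
    have h := LinearMap.finrank_le_finrank_of_injective (f := Φ.codRestrict (Fr.xmin ρ hj gz) hmem)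
      (fun x y e => hΦ (congrArg Subtype.val e))
    rw [Module.finrank_prod, Module.finrank_pi_fintype, Finset.sum_const, Finset.card_univ,
      smul_eq_mul, ← Nat.succ_mul] at h
    exact h.trans (Fr.finrank_xmin ρ hj hb hq h0 hS)
  have k1 := key 1 (one_mul 1)
  have k2 := key (-1) (by ring)
  generalize Module.finrank ℂ (Fr.asp ρ gz gb 1) = a at k1 k2 ⊢
  generalize Module.finrank ℂ (Fr.asp ρ gz gb (-1)) = b at k1 k2 ⊢
  obtain ⟨r, hr⟩ : ∃ r, q = r + 4 := ⟨q - 4, by omega⟩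
  rw [hr, show r + 4 - 1 = r + 3 by omega] at k1 k2
  have hsum : a + b ≤ 2 := Nat.le_of_mul_le_mul_left
    (show (r + 3) * (a + b) ≤ (r + 3) * 2 by linarith) (by omega)
  have ha : a ≤ 1 := by
    by_contra h
    obtain rfl : a = 2 := by omega
    obtain rfl : b = 0 := by omega
    omega
  have hb1 : b ≤ 1 := by
    by_contra h
    obtain rfl : b = 2 := by omega
    obtain rfl : a = 0 := by omega
    omega
  refine ⟨?_, ha⟩
  rcases (show a = 0 ∨ a = 1 by omega) with rfl | rfl <;>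
    rcases (show b = 0 ∨ b = 1 by omega) with rfl | rfl <;> omega

include hS hb hq hj hn h0 hc hodd in
/-- Central elements of disjoint later pairs are one on the minus part. -/
theorem Frame.far_one {l : ℕ} (hl : l + 1 < n) (hlj : j + 2 ≤ l) {gl : OG Q}
    (hgl : Fr.IsDiag gl (dz l c)) : ∀ m ∈ Fr.emin ρ gz, ρ gl m = m := by
  classical
  obtain ⟨heq, hle⟩ := Fr.sign_eq ρ hj hb hq hn h0 hc hodd hS
  suffices hmain : ∀ ε : ℂ, ε * ε = 1 → ∀ m ∈ Fr.asp ρ gz gb ε, ρ gl m = m by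
    intro m hm
    obtain ⟨a, ha, b, hb', rfl⟩ := Submodule.mem_sup.1 (Fr.asp_sup ρ hj hb hq h0 hS hm)
    rw [map_add, hmain 1 (one_mul 1) a ha, hmain (-1) (by ring) b hb']
  intro ε hε f hf
  by_cases hf0 : f = 0
  · rw [hf0, map_zero]
  obtain ⟨v, hv⟩ : ∃ v : Fr.asp ρ gz gb ε, v = ⟨f, hf⟩ := ⟨_, rfl⟩
  have hsame : Module.finrank ℂ (Fr.asp ρ gz gb ε) = Module.finrank ℂ (Fr.asp ρ gz gb 1) := by
    rcases mul_self_eq_one_iff.1 hε with rfl | rfl
    exacts [rfl, heq.symm]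
  have hone : Module.finrank ℂ (Fr.asp ρ gz gb ε) = 1 := by
    refine le_antisymm (hsame.le.trans hle) (Submodule.one_le_finrank_iff.2 ?_)
    exact (Submodule.ne_bot_iff _).2 ⟨f, hf, hf0⟩
  have hgA : ∀ a ∈ Fr.asp ρ gz gb ε, ρ gl a ∈ Fr.asp ρ gz gb ε := fun a ha => by
    obtain ⟨h1, h2, h3⟩ := (Fr.mem_asp ρ).1 ha
    refine (Fr.mem_asp ρ).2 ⟨hgl.fx_mem Fr ρ hb le_rfl h1, ?_, ?_⟩
    · rw [← rho_mul, Fr.diag_comm hS.hz hgl, rho_mul, h2, map_neg]
    · rw [← rho_mul, Fr.diag_comm hS.hb' hgl, rho_mul, h3, map_smul]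
  have hspan := exists_smul_eq_of_finrank_eq_one hone (x := v)
    (fun e => hf0 (by rw [hv] at e; exact congrArg Subtype.val e))
  obtain ⟨δ, hδ⟩ := hspan ⟨ρ gl f, hgA f hf⟩
  have hδ' : δ • f = ρ gl f := by rw [hv] at hδ; exact congrArg Subtype.val hδ
  have hall : ∀ a ∈ Fr.asp ρ gz gb ε, ρ gl a = δ • a := fun a ha => by
    obtain ⟨s, hs⟩ := hspan ⟨a, ha⟩
    have hs' : s • f = a := by rw [hv] at hs; exact congrArg Subtype.val hs
    rw [← hs', map_smul, ← hδ', smul_comm]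
  -- the orbit is the whole minus part
  obtain ⟨Φ, hΦ, hmem, hΦv⟩ := Fr.exists_embedding ρ hj hb hq hn h0 hc hodd hS hε
  obtain ⟨β, hβ⟩ : ∃ β : F, β ≠ 0 := ⟨1, one_ne_zero⟩
  obtain ⟨y, hy, hy0⟩ : ∃ y ∈ Wt ρ (Fr.fx ρ 0 j) (Fr.p j).v (Fr.dsp (j + 1)) (β • (Fr.p (j + 1)).v),
      y ≠ 0 := Submodule.exists_mem_ne_zero_of_ne_bot fun e => by
    have h := ((Fr.single_all hb ρ hq h0 j (by omega)) _ ((Fr.dsp (j + 1)).smul_mem β (Fr.v_mem le_rfl hj))
      (smul_ne_zero hβ (Fr.p (j + 1)).v_ne)).1 (by rw [q_smul, (Fr.p (j + 1)).hv, mul_zero])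
    rw [e, finrank_bot] at h; omega
  have hym : y ∈ Fr.xmin ρ hj gz := (Fr.mem_xmin ρ hj).2
    ⟨Fr.line_le_xsp ρ hb hq hj h0 hβ hy, Fr.line_neg ρ hb hq hj h0 hc hodd hS.hz hβ hy⟩
  have hd1 := Fr.finrank_xmin ρ hj hb hq h0 hS
  have hd2 := LinearMap.finrank_le_finrank_of_injective (f := Φ.codRestrict (Fr.xmin ρ hj gz) hmem)
    (fun x y e => hΦ (congrArg Subtype.val e))
  have hdom : Module.finrank ℂ ((F → Fr.asp ρ gz gb ε) × Fr.asp ρ gz gb ε) = q + 1 := by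
    rw [Module.finrank_prod, Module.finrank_pi_fintype, Finset.sum_const, Finset.card_univ, hone,
      smul_eq_mul, mul_one]
  have hdim : Module.finrank ℂ (Fr.xmin ρ hj gz) =
      Module.finrank ℂ ((F → Fr.asp ρ gz gb ε) × Fr.asp ρ gz gb ε) := by
    omega
  obtain ⟨x, hx⟩ := (LinearMap.injective_iff_surjective_of_finrank_eq_finrank hdim.symm
    (f := Φ.codRestrict (Fr.xmin ρ hj gz) hmem)).1 (fun x y e => hΦ (congrArg Subtype.val e)) ⟨y, hym⟩
  have hx' : Φ x = y := congrArg Subtype.val hx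
  have hfixd : Fixes (Fr.dsp (j + 2)) gl := hgl.fixes Fr hb (by omega) fun i hi => by
    rw [dz, if_neg (by omega)]
  have hcomm : ∀ A : SpecialLinearGroup (Fin 2) F,
      gl * (Fr.duo hj).lev hb hq A = (Fr.duo hj).lev hb hq A * gl := by
    intro A
    refine Subtype.ext (ext_ap fun z => ?_)
    obtain ⟨p1, p2⟩ := Fr.fixes_pair hfixd (show j < j + 2 by omega)
    obtain ⟨p3, p4⟩ := Fr.fixes_pair hfixd (show j + 1 < j + 2 by omega)
    have e : ∀ a : ι → F, ap (gl : Grp Q) ((Fr.duo hj).lin A a) = (Fr.duo hj).lin A (ap (gl : Grp Q) a) := by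
      intro a
      have hb1 : ∀ b : ι → F, ap (gl : Grp Q) b = b → B b (ap (gl : Grp Q) a) = B b a := fun b hb1 => by
        conv_lhs => rw [← hb1, ap_b]
      simp only [Duo.lin, LinearMap.coe_mk, AddHom.coe_mk, ap_add, ap_smul]
      rw [show ap (gl : Grp Q) (Fr.duo hj).P.v = (Fr.duo hj).P.v from p1,
        show ap (gl : Grp Q) (Fr.duo hj).P.f = (Fr.duo hj).P.f from p2,
        show ap (gl : Grp Q) (Fr.duo hj).R.v = (Fr.duo hj).R.v from p3,
        show ap (gl : Grp Q) (Fr.duo hj).R.f = (Fr.duo hj).R.f from p4,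
        hb1 (Fr.duo hj).P.v p1, hb1 (Fr.duo hj).P.f p2, hb1 (Fr.duo hj).R.v p3,
        hb1 (Fr.duo hj).R.f p4]
    simp only [Subgroup.coe_mul, ap_mul, (Fr.duo hj).lev_ap]
    exact e z
  have h1 : ρ gl y = δ • y := by
    rw [← hx', hΦv, map_add, map_sum, hall _ x.2.2, smul_add, Finset.smul_sum]
    congr 1
    refine Finset.sum_congr rfl fun a _ => ?_
    rw [← rho_mul, ← mul_assoc, hcomm, mul_assoc, hcomm, ← mul_assoc, rho_mul, hall _ (x.1 a).2,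
      map_smul]
  -- the pair group is trivial on the line
  have h2 : ρ gl y = y := by
    obtain ⟨L, hL⟩ : ∃ L, L = Wt ρ (Fr.fx ρ 0 j) (Fr.p j).v (Fr.dsp (j + 1))
      (β • (Fr.p (j + 1)).v) := ⟨_, rfl⟩
    have hL1 : Module.finrank ℂ L ≤ 1 := hL ▸ (Fr.single_all hb ρ hq h0 j (by omega)).le_one ρ
      ((Fr.dsp (j + 1)).smul_mem β (Fr.v_mem le_rfl hj)) (smul_ne_zero hβ (Fr.p (j + 1)).v_ne)
    have hglA : gl = (Fr.duo hl).flip.lev hb hq (dg c) :=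
      hgl.ext Fr (Fr.diag_dz hb hq hl c) (fun _ _ => rfl)
    -- the central element lies in the group of the flipped pair
    let K' : Subgroup (SpecialLinearGroup (Fin 2) F) :=
      { carrier := {A | ∀ a ∈ L, ρ ((Fr.duo hl).flip.lev hb hq A) a = a}
        one_mem' := fun a _ => by rw [map_one, map_one, Module.End.one_apply]
        mul_mem' := fun h h' a ha => by rw [map_mul, rho_mul, h' a ha, h a ha]
        inv_mem' := fun h a ha => by
          rw [map_inv]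
          conv_lhs => rw [← h a ha, rho_inv_apply] }
    have hst' : ∀ A : SpecialLinearGroup (Fin 2) F, ∀ a ∈ L,
        ρ ((Fr.duo hl).flip.lev hb hq A) a ∈ L := by
      intro A a ha
      rw [hL] at ha ⊢
      exact Fr.line_stable ρ hj (fixes_lev _ hb hq (Fr.v_mem hlj (by omega)) (Fr.f_mem hlj (by omega))
        (Fr.f_mem (by omega) hl) (Fr.v_mem (by omega) hl) A) ha hb
    have hK' : K' = ⊤ := by
      rw [eq_top_iff, ← sl2_perfect hq, commutator_def, Subgroup.commutator_le]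
      intro A _ A' _ a ha
      rw [commutatorElement_def, map_mul ((Fr.duo hl).flip.lev hb hq),
        map_mul ((Fr.duo hl).flip.lev hb hq), map_mul ((Fr.duo hl).flip.lev hb hq), rho_mul, rho_mul,
        rho_mul,
        line_comm hL1 (hst' A') (hst' A⁻¹) (hst' _ _ ha), ← rho_mul ρ _ _ (ρ _ _), ← map_mul,
        mul_inv_cancel, map_one, map_one, Module.End.one_apply, ← rho_mul, ← map_mul, mul_inv_cancel,
        map_one, map_one, Module.End.one_apply]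
    rw [hglA]
    exact (hK' ▸ Subgroup.mem_top (dg c) : dg c ∈ K') y (hL ▸ hy)
  have hd : δ = 1 := smul_left_injective ℂ hy0 (by
    show δ • y = (1 : ℂ) • y
    rw [one_smul, ← h1, h2])
  rw [hall f hf, hd, one_smul]

end CfsgLib.OrthMinDegree
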