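import Cfsg.Agent.Lib.OrthMinDegree.OddTop
import Cfsg.Agent.Lib.Classical.OrthForms

/-!
The frame of the standard form in odd dimension.
-/

set_option autoImplicit false
set_option linter.unusedSectionVars false

namespace CfsgLib.OrthMinDegree

open CfsgLib.Orth CfsgLib.MinIndexOrth Cfsg

variable {F : Type*} [Field F] [Fintype F]

/-- The coordinate pair. -/
def oddPair {n : ℕ} {Q : QuadraticForm F (Unit ⊕ (Fin n ⊕ Fin n) → F)} (hQ : ⇑Q = Cfsg.quadFormOdd n F)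
    (i : Fin n) : HP Q where
  v := Pi.single (.inr (.inl i)) 1
  f := Pi.single (.inr (.inr i)) 1
  hv := by rw [hQ]; simp [Cfsg.quadFormOdd]
  hf := by rw [hQ]; simp [Cfsg.quadFormOdd]
  hvf := by rw [hQ, polar_odd]; simp [Pi.single_apply]

/-- The standard frame. -/
def oddFrame {n : ℕ} {Q : QuadraticForm F (Unit ⊕ (Fin n ⊕ Fin n) → F)} (hQ : ⇑Q = Cfsg.quadFormOdd n F)
    (hn : 0 < n) : Frame Q n where
  p i := oddPair hQ (if h : i < n then ⟨i, h⟩ else ⟨0, hn⟩)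
  perp i hi j hj hij := by
    rw [dif_pos hi, dif_pos hj]
    have h : (⟨i, hi⟩ : Fin n) ≠ ⟨j, hj⟩ := fun e => hij (congrArg Fin.val e)
    constructor <;> refine HP.mem_W _ |>.2 ⟨?_, ?_⟩ <;>
      (rw [hQ, polar_odd]; simp [oddPair, Pi.single_apply, h, h.symm, Ne.symm hij, hij])
  dim := by
    rw [Module.finrank_pi, Fintype.card_sum, Fintype.card_sum, Fintype.card_fin, Fintype.card_unit]
    ring

theorem odd_degree (n : ℕ) (hn : 3 ≤ n) (hodd : Odd (Fintype.card F)) (h3 : 3 < Fintype.card F)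
    (Q : QuadraticForm F (Unit ⊕ (Fin n ⊕ Fin n) → F)) (hQ : ⇑Q = Cfsg.quadFormOdd n F) (hB : Nondeg Q)
    (k : ℕ) (ρ : Representation ℂ (OG Q) (Fin k → ℂ)) (hirr : ρ.IsIrreducible) (hk : 2 ≤ k) :
    (Fintype.card F ^ (2 * n) - 1) / (Fintype.card F ^ 2 - 1) ≤ k := by
  classical
  have h := odd_min (oddFrame hQ (by omega)) hB hn hodd h3 ρ hirr hk
  refine le_trans (le_of_eq ?_) h
  have hq2 : 4 ≤ Fintype.card F ^ 2 := le_trans (by norm_num) (Nat.pow_le_pow_left (show 2 ≤ _ by omega) 2)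
  rw [pow_mul, oK, Nat.geomSum_eq (by omega) n]

end CfsgLib.OrthMinDegree
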