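import Cfsg.Agent.Lib.OrthMinDegree.OddChain
import Cfsg.Agent.Lib.OrthMinDegree.OddArith
import Cfsg.Agent.Lib.OrthMinDegree.RootClass
import Cfsg.Agent.Lib.OrthMinDegree.Count
import Cfsg.Agent.Lib.OrthMinDegree.Base

/-!
The least degree in odd dimension.
-/

set_option autoImplicit false
set_option linter.unusedSectionVars false

namespace CfsgLib.OrthMinDegree

open CfsgLib.Orth CfsgLib.MinIndexOrth Cfsg CfsgLib.Char

variable {F : Type*} [Field F] [Fintype F] {ι : Type} [Fintype ι] [DecidableEq ι]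
variable {Q : QuadraticForm F (ι → F)}

local notation "B" => QuadraticMap.polar (DFunLike.coe Q)
local notation "q" => Fintype.card F

theorem hp_b (P : HP Q) : ∀ y ∈ P.W, B P.v y = 0 := fun _ hy => (P.mem_W.1 hy).1

variable (hb : Big Q) (P : HP Q)

include hb in
/-- The coefficient of a weight is the dimension of its space. -/
theorem coef_eq_finrank {M : Type*} [AddCommGroup M] [Module ℂ M] [FiniteDimensional ℂ M]
    (ρ : Representation ℂ (OG Q) M) (w : P.W) :
    coef hb P ρ.character w 1 = (Module.finrank ℂ (Wt ρ ⊤ P.v P.W (w : ι → F)) : ℂ) := by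
  have hp : LinearMap.IsProj (Wt ρ ⊤ P.v P.W (w : ι → F)) (proj ρ hb P.hv (hp_b P) (w : ι → F)) :=
    ⟨fun m => proj_mem ρ hb P.hv (hp_b P) (fun _ _ _ => Submodule.mem_top) _ Submodule.mem_top,
      fun m hm => proj_eq_self ρ hb P.hv (hp_b P) hm⟩
  rw [← hp.trace, coef, proj, map_smul, map_sum, smul_eq_mul]
  congr 1
  refine Finset.sum_congr rfl fun x _ => ?_
  rw [map_smul, smul_eq_mul, mul_one,
    show rt hb P.hv (hp_b P) x = root hb P x from
      root_unique (rt_spec hb P.hv (hp_b P) x) (root_spec hb P x)]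
  rfl

theorem no_fixed {k : ℕ} {ρ : Representation ℂ (OG Q) (Fin k → ℂ)} (hirr : ρ.IsIrreducible)
    (hk : 2 ≤ k) (m : Fin k → ℂ) (hm : ∀ g, ρ g m = m) : m = 0 := by
  haveI : IsSimpleOrder (Subrepresentation ρ) := hirr
  by_contra hne
  let W : Subrepresentation ρ := ⟨Submodule.span ℂ {m}, fun g v hv => by
    obtain ⟨s, rfl⟩ := Submodule.mem_span_singleton.1 hv
    rw [map_smul, hm]
    exact Submodule.smul_mem _ _ (Submodule.mem_span_singleton_self m)⟩
  rcases eq_bot_or_eq_top W with h | h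
  · have e : Submodule.span ℂ {m} = ⊥ := congrArg Subrepresentation.toSubmodule h
    exact hne (Submodule.span_singleton_eq_bot.1 e)
  · have h1 : Module.finrank ℂ (Submodule.span ℂ {m}) = k := by
      rw [show Submodule.span ℂ {m} = ⊤ from congrArg Subrepresentation.toSubmodule h, finrank_top,
        Module.finrank_fin_fun]
    rw [finrank_span_singleton hne] at h1
    omega

theorem oK_le {n : ℕ} (hn : 3 ≤ n) (hq5 : 5 ≤ q) :
    oK (q ^ 2) n + 2 * q ^ (n - 1) ≤ 2 * q ^ (2 * (n - 1)) := by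
  obtain ⟨m, rfl⟩ : ∃ m, n = m + 1 := ⟨n - 1, by omega⟩
  rw [oK_succ', Nat.add_sub_cancel, ← pow_mul]
  have h1 : (q ^ 2 - 1) * oK (q ^ 2) m = (q ^ 2) ^ m - 1 := by
    rw [mul_comm]; exact geom_sum_mul_of_one_le (Nat.one_le_pow _ _ (by omega)) m
  obtain ⟨A, hA⟩ : ∃ A, A = q ^ m := ⟨_, rfl⟩
  have hA25 : 25 ≤ A := hA ▸ le_trans (by nlinarith : 25 ≤ q ^ 2) (Nat.pow_le_pow_right (by omega) (by omega))
  have e : q ^ (2 * m) = A * A := by rw [hA, ← pow_add]; ring_nf
  rw [← pow_mul, e] at h1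
  rw [e, ← hA]
  obtain ⟨R, hR⟩ : ∃ R, q ^ 2 = R + 25 := ⟨q ^ 2 - 25, by
    have : 25 ≤ q ^ 2 := by nlinarith
    omega⟩
  rw [hR] at h1 ⊢
  rw [show R + 25 - 1 = R + 24 by omega] at h1
  generalize oK (R + 25) m = X at h1 ⊢
  have h2 : (R + 24) * X ≤ A * A := by rw [h1]; exact Nat.sub_le _ _
  have h3 : 24 * X ≤ A * A := le_trans (Nat.mul_le_mul_right X (by omega)) h2
  nlinarith

include hb in
/-- Below the bound the first radical has one line for each singular weight. -/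
theorem single_base {n : ℕ} (hn : 3 ≤ n) (hodd : Odd q) (hq5 : 5 ≤ q)
    (hd : Module.finrank F P.W = 2 * n - 1) {k : ℕ} (ρ : Representation ℂ (OG Q) (Fin k → ℂ))
    (hirr : ρ.IsIrreducible) (hk : 2 ≤ k) (hlt : k < oK (q ^ 2) n) :
    Single ρ ⊤ P.v P.W ∧ ∀ x : P.W, x ≠ 0 → Q (x : ι → F) = 0 →
      (q : ℂ) * ρ.character (root hb P x) = (q : ℂ) * k - (q : ℂ) ^ (2 * n - 1) := by
  classical
  have hn0 := P.nondeg hb.nondeg
  have hS : ∀ x : P.W, ∀ m ∈ (⊤ : Submodule ℂ (Fin k → ℂ)), ρ (rt hb P.hv (hp_b P) x) m ∈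
      (⊤ : Submodule ℂ (Fin k → ℂ)) := fun _ _ _ => Submodule.mem_top
  obtain ⟨mw, hmw⟩ : ∃ mw : P.W → ℕ, ∀ w : P.W,
      Module.finrank ℂ (Wt ρ ⊤ P.v P.W (w : ι → F)) = mw w := ⟨_, fun _ => rfl⟩
  have hcoef : ∀ w, coef hb P ρ.character w 1 = (mw w : ℂ) := fun w => by
    rw [coef_eq_finrank hb P ρ w, hmw]
  have hχ : IsIrrCharacter (OG Q) ρ.character := ⟨k, ρ, hirr, rfl⟩
  have hcl := isClassFunction_of_isCharacter (isCharacter_of_isIrr hχ)
  have hk1 : ρ.character 1 = (k : ℂ) := by rw [Representation.char_one, Module.finrank_fin_fun]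
  have hdeg : k = ∑ w : P.W, mw w := by
    have h := sum_coef hb P ρ.character 1
    simp only [hcoef, hk1] at h
    exact_mod_cast h.symm
  have hsum : ∀ s : Finset P.W, ∑ w ∈ s, mw w ≤ k := fun s =>
    hdeg ▸ Finset.sum_le_sum_of_subset (Finset.subset_univ s)
  have hd4 : 4 ≤ 2 * n - 1 := by omega
  have hconst : ∀ w w' : P.W, w ≠ 0 → w' ≠ 0 → Q (w : ι → F) = Q (w' : ι → F) → mw w' = mw w := by
    intro w w' hw hw' he
    obtain ⟨g, hg⟩ := move_level hb P hd hd4 w.2 w'.2 (fun e => hw (Subtype.ext e))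
      (fun e => hw' (Subtype.ext e)) he
    have h := coef_move hb P hcl one_ne_zero one_ne_zero (g := (g : OG Q))
      (by rw [one_smul]; exact g.2.1) (by rw [one_smul]; exact g.2.2) w
    simp only [inv_one, one_smul, hg, Subtype.coe_eta, hcoef] at h
    exact_mod_cast h
  have hlev : ∀ a : F, q ^ (2 * (n - 1)) ≤ lev Q P.W a + q ^ (n - 1) := by
    intro a
    have h := (lev_bound hb.nondeg _ P.W hn0 hd a).1
    rw [show (2 * n - 1) / 2 + 1 = n by omega, Nat.card_eq_fintype_card,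
      show 2 * n - 1 = 2 * (n - 1) + 1 by omega, pow_succ', show q ^ n = q * q ^ (n - 1) by
        rw [← pow_succ']; congr 1; omega, ← Nat.mul_add] at h
    exact Nat.le_of_mul_le_mul_left h (Fintype.card_pos (α := F))
  have hK := oK_le (F := F) hn hq5
  have hone : ∀ a : F, ∀ w : P.W, w ≠ 0 → Q (w : ι → F) = a → mw w ≠ 0 →
      levN P a ≤ ∑ v ∈ Finset.univ.filter (fun v : P.W => v ≠ 0 ∧ Q (v : ι → F) = a), mw v := by
    intro a w hw hwa hne
    rw [levN, Nat.card_eq_fintype_card, Fintype.card_subtype, Finset.card_eq_sum_ones]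
    refine Finset.sum_le_sum fun v hv => ?_
    have := hconst w v hw (Finset.mem_filter.1 hv).2.1 (hwa.trans (Finset.mem_filter.1 hv).2.2.symm)
    omega
  have hnonsing : ∀ w : P.W, Q (w : ι → F) ≠ 0 → mw w = 0 := by
    intro w hwq
    by_contra hne
    have hw : w ≠ 0 := fun e => hwq (by rw [e]; exact QuadraticMap.map_zero Q)
    obtain ⟨c, hc0, hc1⟩ := exists_sq_ne_one' (F := F) (show 4 ≤ q by omega)
    obtain ⟨g, hgv, hgf⟩ := exists_scale hb P (by omega) (inv_ne_zero hc0)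
    have h2 := coef_move hb P hcl (inv_ne_zero hc0) (inv_ne_zero (inv_ne_zero hc0)) hgv hgf w
    generalize hw' : (c⁻¹⁻¹ • (⟨ap (g : Grp Q) (w : ι → F), _⟩ : P.W)) = w' at h2
    have hq' : Q (w' : ι → F) = c * c * Q (w : ι → F) := by
      rw [← hw', Submodule.coe_smul, q_smul, ap_q, inv_inv]
    rw [hcoef, hcoef, Nat.cast_inj] at h2
    have hne' : Q (w : ι → F) ≠ Q (w' : ι → F) := fun e => hc1
      (mul_right_cancel₀ hwq (by rw [one_mul]; exact hq'.symm.trans e.symm))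
    have hw'q : Q (w' : ι → F) ≠ 0 := by rw [hq']; exact mul_ne_zero (mul_ne_zero hc0 hc0) hwq
    have hw'0 : w' ≠ 0 := fun e => hw'q (by rw [e]; exact QuadraticMap.map_zero Q)
    have k1 := hone _ w hw rfl hne
    have k2 := hone _ w' hw'0 rfl (by omega)
    have k3 := hsum (Finset.univ.filter (fun v : P.W => v ≠ 0 ∧ Q (v : ι → F) = Q (w : ι → F)) ∪
      Finset.univ.filter (fun v : P.W => v ≠ 0 ∧ Q (v : ι → F) = Q (w' : ι → F)))
    rw [Finset.sum_union (Finset.disjoint_filter.2 fun v _ a b => hne' (a.2.symm.trans b.2))] at k3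
    have l1 := hlev (Q (w : ι → F))
    have l2 := hlev (Q (w' : ι → F))
    rw [← levN_eq_lev P hwq] at l1
    rw [← levN_eq_lev P hw'q] at l2
    omega
  have hcard : levN P 0 + 1 = q ^ (2 * (n - 1)) := by
    rw [levN, ← card_singular hb hn0 (m := n - 1) (by omega)]
  obtain ⟨x0, hx0, hx0q⟩ : ∃ x : P.W, x ≠ 0 ∧ Q (x : ι → F) = 0 := by
    obtain ⟨v, hv, hv0, hvq⟩ := exists_singular (Q := Q) (U := P.W) (by omega)
    exact ⟨⟨v, hv⟩, fun e => hv0 (congrArg Subtype.val e), hvq⟩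
  have hsing : ∀ w : P.W, w ≠ 0 → Q (w : ι → F) = 0 → mw w = 1 := by
    intro w hw hwq
    have hpos : mw w ≠ 0 := by
      intro h
      have hall : ∀ v : P.W, v ≠ 0 → mw v = 0 := fun v hv => by
        by_cases hvq : Q (v : ι → F) = 0
        · rw [hconst w v hw hv (hwq.trans hvq.symm), h]
        · exact hnonsing v hvq
      have h1 := eq_one_of_root hb P hd hd4 hχ hx0 hx0q (by
        rw [chi_root hb P ρ.character, ← sum_coef hb P ρ.character 1]
        refine Finset.sum_congr rfl fun v _ => ?_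
        by_cases hv : v = 0
        · subst hv
          simp [wch_apply, b_zero_left]
        · simp [hcoef, hall v hv])
      have h2 := congrFun h1 1
      rw [hk1, Nat.cast_eq_one] at h2
      omega
    by_contra hne
    have h2 : levN P 0 * 2 ≤
        ∑ v ∈ Finset.univ.filter (fun v : P.W => v ≠ 0 ∧ Q (v : ι → F) = 0), mw v := by
      rw [levN, Nat.card_eq_fintype_card, Fintype.card_subtype, ← smul_eq_mul]
      refine Finset.card_nsmul_le_sum _ _ _ fun v hv => ?_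
      rw [hconst w v hw (Finset.mem_filter.1 hv).2.1 (hwq.trans (Finset.mem_filter.1 hv).2.2.symm)]
      omega
    have := hsum (Finset.univ.filter (fun v : P.W => v ≠ 0 ∧ Q (v : ι → F) = 0))
    have : 1 ≤ q ^ (n - 1) := Nat.one_le_pow _ _ (by omega)
    omega
  refine ⟨fun w hw hw0 => ?_, fun x hx hxq => ?_⟩
  · refine ⟨fun h => ?_, fun h => Submodule.finrank_eq_zero.1 ?_⟩
    · exact (hmw ⟨w, hw⟩).trans (hsing ⟨w, hw⟩ (fun e => hw0 (congrArg Subtype.val e)) h)
    · exact (hmw ⟨w, hw⟩).trans (hnonsing ⟨w, hw⟩ h)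
  obtain ⟨ε, hε⟩ : ∃ ε : ℂ, ε = (mw 0 : ℂ) - 1 := ⟨_, rfl⟩
  have hmval : ∀ w : P.W, (mw w : ℂ) = (if Q (w : ι → F) = 0 then 1 else 0) +
      (if w = 0 then ε else 0) := by
    intro w
    by_cases hw : w = 0
    · subst hw
      simp [hε]
    · rw [if_neg hw, add_zero]
      split_ifs with h
      · rw [hsing w hw h, Nat.cast_one]
      · rw [hnonsing w h, Nat.cast_zero]
  have hL : (k : ℂ) = (Nat.card {w : P.W // Q (w : ι → F) = 0} : ℂ) + ε := by
    rw [hdeg]
    push_cast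
    simp only [hmval]
    rw [Finset.sum_add_distrib, sum_indicator, Finset.sum_ite_eq', if_pos (Finset.mem_univ _),
      Finset.sum_const, Finset.card_univ, nsmul_one, Nat.card_eq_fintype_card]
  obtain ⟨z, hz⟩ := exists_b_ne hb P hx
  obtain ⟨z', hz'W, hxz⟩ : ∃ z' ∈ P.W, B (x : ι → F) z' = 1 :=
    ⟨(B (x : ι → F) (z : ι → F))⁻¹ • (z : ι → F), P.W.smul_mem _ z.2,
      by rw [b_smul_right, inv_mul_cancel₀ hz]⟩
  have hW : Nat.card P.W = Nat.card F ^ (2 * n - 1) := by rw [← hd]; exact card_subspace P.W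
  have h := sum_psi P.W x.2 hz'W hxq hxz 0
  rw [hW, Nat.card_eq_fintype_card (α := F), Nat.cast_pow] at h
  rw [chi_root hb P ρ.character, hL]
  simp only [hcoef, hmval, add_mul, ite_mul, one_mul, zero_mul]
  rw [Finset.sum_add_distrib, sum_indicator, Finset.sum_ite_eq', if_pos (Finset.mem_univ _),
    wch_apply, show ((0 : P.W) : ι → F) = 0 from rfl, b_zero_left, AddChar.map_zero_eq_one,
    Finset.sum_congr rfl (fun (w : {w : P.W // Q (w : ι → F) = 0}) _ => by
      rw [wch_apply, b_comm]), ← h]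
  ring

/-- The least degree of a non-trivial irreducible representation in odd dimension. -/
theorem odd_min {n : ℕ} (Fr : Frame Q n) (hB : Nondeg Q) (hn : 3 ≤ n) (hodd : Odd q) (h3 : 3 < q)
    {k : ℕ} (ρ : Representation ℂ (OG Q) (Fin k → ℂ)) (hirr : ρ.IsIrreducible) (hk : 2 ≤ k) :
    oK (q ^ 2) n ≤ k := by
  classical
  by_contra hlt
  rw [not_le] at hlt
  have hq5 : 5 ≤ q := by obtain ⟨r, hr⟩ := hodd; omega
  have hb : Big Q := ⟨hB, by have := Fr.dim; omega⟩
  have hW : Fr.dsp 1 = (Fr.p 0).W := by rw [Fr.dsp_succ, Fr.dsp_zero, top_inf_eq]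
  have hd : Module.finrank F (Fr.p 0).W = 2 * n - 1 := by
    have := Fr.dsp_dim 1 (by omega)
    rw [hW] at this
    omega
  obtain ⟨hs, hval⟩ := single_base hb (Fr.p 0) hn hodd hq5 hd ρ hirr hk hlt
  have h0 : Single ρ ⊤ (Fr.p 0).v (Fr.dsp 1) := by rw [hW]; exact hs
  obtain ⟨c, hc⟩ := IsCyclic.exists_generator (α := Fˣ)
  have htot := Fr.finrank_total hb ρ (by omega) h0 n le_rfl
  rw [Nat.sub_self, Fr.fx_zero, finrank_top, Module.finrank_fin_fun,
    show ∑ l ∈ Finset.range n, q ^ (2 * l) = oK (q ^ 2) n from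
      Finset.sum_congr rfl fun l _ => pow_mul q 2 l] at htot
  rcases Fr.fx_dichotomy ρ hb (by omega) hn h0 hc hodd (no_fixed hirr hk) with he | he
  swap
  · omega
  obtain ⟨x, hx, hxq⟩ : ∃ x : (Fr.p 0).W, x ≠ 0 ∧ Q (x : ι → F) = 0 := by
    obtain ⟨v, hv, hv0, hvq⟩ := exists_singular (Q := Q) (U := (Fr.p 0).W) (by omega)
    exact ⟨⟨v, hv⟩, fun e => hv0 (congrArg Subtype.val e), hvq⟩
  have hk1 : ρ.character 1 = (k : ℂ) := by rw [Representation.char_one, Module.finrank_fin_fun]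
  have hdvd := dvd_root hb (Fr.p 0) hd (by omega) hx hxq ⟨k, ρ, hirr, rfl⟩ hk1 (hval x hx hxq)
  have e1 : Nat.card {v : ι → F // v ≠ 0 ∧ Q v = 0} = q ^ (2 * n) - 1 := by
    have hnd : NondegOn Q (⊤ : Submodule F (ι → F)) := fun v _ h => hB v fun y => h y Submodule.mem_top
    have h := card_singular hb hnd (m := n) (by rw [finrank_top]; exact Fr.dim)
    rw [← h, Nat.add_sub_cancel]
    exact Nat.card_congr
      { toFun := fun v => ⟨⟨v.1, Submodule.mem_top⟩, fun e => v.2.1 (congrArg Subtype.val e), v.2.2⟩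
        invFun := fun v => ⟨v.1.1, fun e => v.2.1 (Subtype.ext e), v.2.2⟩
        left_inv := fun v => rfl
        right_inv := fun v => rfl }
  have e2 : levN (Fr.p 0) 0 = q ^ (2 * n - 2) - 1 := by
    have h := card_singular hb ((Fr.p 0).nondeg hB) (m := n - 1) (by omega)
    rw [show 2 * n - 2 = 2 * (n - 1) by omega, ← h, Nat.add_sub_cancel, levN]
  rw [e1, e2, show 2 * n - 1 - 1 = 2 * n - 2 by omega] at hdvd
  exact odd_excluded (FiniteField.isPrimePow_card F) hq5 hn (by omega) hdvd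

end CfsgLib.OrthMinDegree
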