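import Cfsg.Agent.Lib.OrthMinDegree.Weights
import Cfsg.Agent.Lib.Classical.OrthPOrder

/-!
An element of order seventeen on an orthogonal space of dimension eight over two elements commutes
only with elements of exponent seventeen.
-/

set_option autoImplicit false
set_option linter.unusedSectionVars false

namespace CfsgLib.OrthMinDegree

open CfsgLib.Orth Cfsg Polynomial Matrix

variable {F : Type*} [Field F] [Fintype F] {ι : Type} [Fintype ι] [DecidableEq ι]
variable {Q : QuadraticForm F (ι → F)}

local notation "B" => QuadraticMap.polar (DFunLike.coe Q)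

/-- The matrix of an isometry. -/
noncomputable def mt (g : Grp Q) : Matrix ι ι F := ((g : GL ι F) : Matrix ι ι F)

theorem mt_one : mt (1 : Grp Q) = 1 := rfl

theorem mt_mul (g h : Grp Q) : mt (g * h) = mt g * mt h := rfl

theorem mt_pow (g : Grp Q) (n : ℕ) : mt (g ^ n) = mt g ^ n := by
  induction n with
  | zero => rw [pow_zero, pow_zero, mt_one]
  | succ n ih => rw [pow_succ, pow_succ, mt_mul, ih]

theorem mt_mulVec (g : Grp Q) (v : ι → F) : mt g *ᵥ v = ap g v := rfl

theorem mt_inj {g h : Grp Q} (e : ∀ v, mt g *ᵥ v = mt h *ᵥ v) : g = h := ext_ap e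

theorem aeval_adjoint (g : Grp Q) (p : F[X]) (u v : ι → F) :
    B (aeval (mt g) p *ᵥ u) v = B u (aeval (mt g⁻¹) p *ᵥ v) := by
  induction p using Polynomial.induction_on' generalizing u v with
  | add p r hp hr => simp only [map_add, Matrix.add_mulVec, b_add_left, b_add_right, hp, hr]
  | monomial n c =>
    simp only [aeval_monomial, Matrix.algebraMap_eq_diagonal, ← mt_pow]
    rw [show (Matrix.diagonal (algebraMap F (ι → F) c)) = c • (1 : Matrix ι ι F) by
      ext i j; simp [Matrix.diagonal, Matrix.one_apply]]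
    simp only [Matrix.smul_mul, Matrix.one_mul, Matrix.smul_mulVec, b_smul_left, b_smul_right, mt_mulVec]
    congr 1
    conv_lhs => rw [← ap_ap_inv (g ^ n) v, ap_b]
    rw [inv_pow]

theorem expand_two_pow (hF : Fintype.card F = 2) (p : F[X]) : ∀ k : ℕ, expand F (2 ^ k) p = p ^ (2 ^ k)
  | 0 => by simp
  | k + 1 => by
    have h := FiniteField.expand_card (K := F) (expand F (2 ^ k) p)
    rw [hF] at h
    rw [show 2 ^ (k + 1) = 2 * 2 ^ k by rw [pow_succ, mul_comm], expand_mul, h,
      expand_two_pow hF p k, ← pow_mul, mul_comm]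

/-- No element of order seventeen has an invariant subspace. -/
theorem invariant_top (hF : Fintype.card F = 2) (h8 : Module.finrank F (ι → F) = 8) {x : Grp Q}
    (hx : x ^ 17 = 1) (hx1 : x ≠ 1) {S : Submodule F (ι → F)} (hS : ∀ s ∈ S, ap x s ∈ S)
    (hS0 : S ≠ ⊥) : S = ⊤ := by
  classical
  haveI : Fact (Nat.Prime 17) := ⟨by norm_num⟩
  have hfix : ∀ (T : Submodule F (ι → F)), (∀ s ∈ T, ap x s ∈ T) →
      2 ^ Module.finrank F T % 17 = Nat.card {s : T // ap x (s : ι → F) = s} % 17 := by
    intro T hT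
    let f : Function.End T := fun s => ⟨ap x s, hT s s.2⟩
    have hf : ∀ (n : ℕ) (s : T), ((f ^ n) s : ι → F) = ap (x ^ n) s := by
      intro n
      induction n with
      | zero => intro s; rw [pow_zero, pow_zero, ap_one]; rfl
      | succ n ih =>
        intro s
        rw [pow_succ, pow_succ, ap_mul]
        exact ih (f s)
    have h := Equiv.Perm.card_fixedPoints_modEq (f := f) (p := 17) (n := 1)
      (funext fun s => Subtype.ext (by rw [pow_one, hf, hx, ap_one]; rfl))
    rw [Nat.ModEq, ← Nat.card_eq_fintype_card, ← Nat.card_eq_fintype_card,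
      MinIndexOrth.card_subspace, Nat.card_eq_fintype_card (α := F), hF] at h
    rw [h]
    congr 1
    exact Nat.card_congr (Equiv.subtypeEquivRight fun s => by
      rw [Function.mem_fixedPoints, Function.IsFixedPt, Subtype.ext_iff])
  obtain ⟨Fix, hFix⟩ : ∃ Fix : Submodule F (ι → F), ∀ v, v ∈ Fix ↔ ap x v = v :=
    ⟨LinearMap.eqLocus (Matrix.mulVecLin (mt x)) LinearMap.id, fun v => Iff.rfl⟩
  have h0 : Fix = ⊥ := by
    have h := hfix ⊤ fun _ _ => trivial
    have e : Nat.card {s : (⊤ : Submodule F (ι → F)) // ap x (s : ι → F) = s} =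
        2 ^ Module.finrank F Fix := by
      rw [← hF, ← Nat.card_eq_fintype_card, ← MinIndexOrth.card_subspace]
      exact Nat.card_congr
        { toFun := fun s => ⟨s.1, (hFix _).2 s.2⟩
          invFun := fun v => ⟨⟨v, trivial⟩, (hFix _).1 v.2⟩
          left_inv := fun s => rfl
          right_inv := fun v => rfl }
    rw [e, finrank_top, h8] at h
    have hle := Submodule.finrank_le Fix
    rw [h8] at hle
    have hne : Module.finrank F Fix ≠ 8 := fun he => hx1 (ext_ap fun v => by
      rw [ap_one]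
      refine (hFix v).1 ?_
      rw [Submodule.eq_top_of_finrank_eq (he.trans h8.symm)]
      trivial)
    apply Submodule.finrank_eq_zero.1
    generalize Module.finrank F Fix = r at *
    interval_cases r <;> simp_all
  have h := hfix S hS
  haveI : Unique {s : S // ap x (s : ι → F) = s} :=
    ⟨⟨⟨0, by rw [Submodule.coe_zero, ap_zero]⟩⟩, fun s => Subtype.ext (Subtype.ext (by
      have hm := (hFix _).2 s.2
      rw [h0, Submodule.mem_bot] at hm
      exact hm))⟩
  rw [Nat.card_unique] at h
  refine Submodule.eq_top_of_finrank_eq ?_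
  have hle := Submodule.finrank_le S
  rw [h8] at hle ⊢
  have hne : Module.finrank F S ≠ 0 := fun e => hS0 (Submodule.finrank_eq_zero.1 e)
  generalize Module.finrank F S = r at *
  interval_cases r <;> simp_all

/-- An isometry commuting with an element of order seventeen has exponent seventeen. -/
theorem pow_of_commute (hB : Nondeg Q) (hF : Fintype.card F = 2)
    (h8 : Module.finrank F (ι → F) = 8) {x y : Grp Q} (hx : x ^ 17 = 1) (hx1 : x ≠ 1)
    (hc : Commute x y) : y ^ 17 = 1 := by
  classical
  haveI : Nontrivial (ι → F) := Module.nontrivial_of_finrank_pos (R := F) (by omega)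
  obtain ⟨v, hv⟩ := exists_ne (0 : ι → F)
  let φ : F[X] →ₗ[F] (ι → F) :=
    { toFun := fun p => aeval (mt x) p *ᵥ v
      map_add' := fun p r => by rw [map_add, Matrix.add_mulVec]
      map_smul' := fun c p => by rw [map_smul, Matrix.smul_mulVec, RingHom.id_apply] }
  have htop : LinearMap.range φ = ⊤ := by
    refine invariant_top hF h8 hx hx1 ?_ fun e => hv ?_
    · rintro _ ⟨p, rfl⟩
      exact ⟨X * p, by
        show aeval (mt x) (X * p) *ᵥ v = mt x *ᵥ (aeval (mt x) p *ᵥ v)
        rw [map_mul, aeval_X, Matrix.mulVec_mulVec]⟩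
    · have : φ 1 ∈ LinearMap.range φ := ⟨1, rfl⟩
      rw [e, Submodule.mem_bot] at this
      simpa [φ] using this
  obtain ⟨p, hp⟩ : ap y v ∈ LinearMap.range φ := htop ▸ trivial
  have hcm : ∀ r : F[X], Commute (mt y) (aeval (mt x) r) := fun r => by
    induction r using Polynomial.induction_on' with
    | add r s hr hs => rw [map_add]; exact hr.add_right hs
    | monomial n c =>
      rw [aeval_monomial]
      refine (Algebra.commute_algebraMap_right c _).mul_right ?_
      rw [← mt_pow]
      show mt y * mt (x ^ n) = mt (x ^ n) * mt y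
      rw [← mt_mul, ← mt_mul, ((hc.pow_left n).eq)]
  have hy : ∀ u, mt y *ᵥ u = aeval (mt x) p *ᵥ u := fun u => by
    obtain ⟨r, rfl⟩ : u ∈ LinearMap.range φ := htop ▸ trivial
    show mt y *ᵥ (aeval (mt x) r *ᵥ v) = aeval (mt x) p *ᵥ (aeval (mt x) r *ᵥ v)
    rw [Matrix.mulVec_mulVec, (hcm r).eq, ← Matrix.mulVec_mulVec, mt_mulVec, ← hp]
    show aeval (mt x) r *ᵥ (aeval (mt x) p *ᵥ v) = _
    rw [Matrix.mulVec_mulVec, Matrix.mulVec_mulVec, ← map_mul, ← map_mul, mul_comm]
  have hyp : aeval (mt x) p = mt y := Matrix.ext_iff_mulVec.mpr fun u => (hy u).symm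
  -- the adjoint is the sixteenth power
  have hadj : ∀ u w, B u w = B u (ap (y ^ 17) w) := by
    intro u w
    conv_lhs => rw [← ap_b y u w, ← mt_mulVec y u, ← hyp, aeval_adjoint]
    have hinv : mt x⁻¹ = mt x ^ (2 ^ 4) := by
      rw [← mt_pow]; congr 1
      exact inv_eq_of_mul_eq_one_left (by rw [← pow_succ]; exact hx)
    rw [hinv, ← expand_aeval, expand_two_pow hF, map_pow, hyp, ← mt_pow,
      mt_mulVec, ← ap_mul, ← pow_succ]
    rfl
  refine ext_ap fun w => ?_
  rw [ap_one]
  refine sub_eq_zero.1 (hB _ fun u => ?_)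
  rw [b_sub_left, b_comm _ u, b_comm w u, ← hadj, sub_self]

end CfsgLib.OrthMinDegree
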