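import Cfsg.Agent.Lib.OrthMinDegree.Seventeen
import Cfsg.Agent.Lib.OrthMinDegree.Minus
import Cfsg.Agent.Lib.BrauerTuan.Data
import Cfsg.Agent.Lib.Classical.OrthPOrder
import Cfsg.Agent.Lib.Classical.OrthSimple
import Cfsg.Agent.Lib.Classical.OrthOrderStd

/-!
The group of minus type in dimension eight over two elements has no irreducible character of degree
32: modulo seventeen such a degree is not one allowed by the principal block.
-/

set_option autoImplicit false
set_option linter.unusedSectionVars false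
set_option linter.style.haveILetI false

namespace CfsgLib.OrthMinDegree

open CfsgLib.Orth CfsgLib.MinIndexOrth CfsgLib.Char Cfsg

variable {F : Type*} [Field F] [Fintype F] {a b : F}

theorem centralizer_sylow {Q : QuadraticForm F ((Fin 3 ⊕ Fin 3) ⊕ Fin 2 → F)} (hB : Nondeg Q)
    (hF : Fintype.card F = 2) [Fact (Nat.Prime 17)] (P : Sylow 17 (OG Q))
    (hP : Nat.card (P : Subgroup (OG Q)) = 17) :
    Subgroup.centralizer ((P : Subgroup (OG Q)) : Set (OG Q)) = (P : Subgroup (OG Q)) := by
  classical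
  have hcy : IsCyclic (P : Subgroup (OG Q)) := isCyclic_of_prime_card hP
  obtain ⟨x, hx, hx1⟩ : ∃ x, x ∈ (P : Subgroup (OG Q)) ∧ x ≠ 1 := by
    rcases (P : Subgroup (OG Q)).bot_or_exists_ne_one with h | h
    · rw [h, Subgroup.card_bot] at hP
      exact absurd hP (by norm_num)
    · exact h
  have hpow : x ^ 17 = 1 :=
    congrArg Subtype.val (hP ▸ (pow_card_eq_one' (x := (⟨x, hx⟩ : (P : Subgroup (OG Q))))))
  have hC : IsPGroup 17 (Subgroup.centralizer ((P : Subgroup (OG Q)) : Set (OG Q))) := fun y =>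
    ⟨1, Subtype.ext (Subtype.ext (by
      rw [pow_one]
      exact pow_of_commute hB hF (by rw [minus_dim]) (congrArg Subtype.val hpow)
        (fun e => hx1 (Subtype.ext e)) (congrArg Subtype.val
          (Subgroup.mem_centralizer_iff.1 y.2 x hx))))⟩
  refine P.is_maximal' hC fun z hz => Subgroup.mem_centralizer_iff.2 fun w hw => ?_
  exact congrArg Subtype.val ((IsCyclic.commGroup (α := (P : Subgroup (OG Q)))).mul_comm ⟨w, hw⟩ ⟨z, hz⟩)

theorem card_omega_minus (hab : ∀ z₁ z₂ : F, z₁ ^ 2 + a * z₁ * z₂ + b * z₂ ^ 2 = 0 → z₁ = 0 ∧ z₂ = 0)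
    {Q : QuadraticForm F ((Fin 3 ⊕ Fin 3) ⊕ Fin 2 → F)} (hQ : ⇑Q = Cfsg.quadFormMinus 3 F a b)
    (hB : Nondeg Q) (hF : Fintype.card F = 2) :
    Nat.card (OG Q) = 197406720 ∧ IsSimpleGroup (OG Q) := by
  classical
  have hn : 5 ≤ Module.finrank F ((Fin 3 ⊕ Fin 3) ⊕ Fin 2 → F) := by rw [minus_dim]; norm_num
  have h2 : (2 : F) = 0 := by
    have h := FiniteField.cast_card_eq_zero F
    rw [hF] at h
    exact_mod_cast h
  have hc := (card_center_omega hB hn).1 fun g _ hg => Subtype.ext (Units.ext (by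
    rw [hg]
    have : CharP F 2 := CharTwo.of_one_ne_zero_of_two_eq_zero one_ne_zero h2
    ext i j
    rw [Matrix.neg_apply, CharTwo.neg_eq]
    rfl))
  have h1 := grp_char_two hB hn h2
  have h3 := card_orth_minus (F := F) 4 (by norm_num) hab hQ hB
  rw [Nat.card_eq_fintype_card (α := F), hF] at h3
  have h4 := Subgroup.card_eq_card_quotient_mul_card_subgroup (Subgroup.center (Cfsg.Omega F ⇑Q))
  rw [hc, mul_one] at h4
  refine ⟨?_, ?_⟩
  · rw [h3, show (4 : ℕ) - 1 = 3 from rfl, Finset.prod_range_succ, Finset.prod_range_succ,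
      Finset.prod_range_succ, Finset.prod_range_zero] at h1
    norm_num at h1
    rw [← Nat.card_eq_fintype_card] at h1
    show Nat.card (Cfsg.Omega F ⇑Q) = _
    rw [h4]
    show Nat.card (Cfsg.POmega F ⇑Q) = _
    omega
  · haveI := pOmega_simple hB hn
    have hbot : Subgroup.center (Cfsg.Omega F ⇑Q) = ⊥ := Subgroup.card_eq_one.1 hc
    have hinj : Function.Injective (QuotientGroup.mk' (Subgroup.center (Cfsg.Omega F ⇑Q))) :=
      (MonoidHom.ker_eq_bot_iff _).1 (by rw [QuotientGroup.ker_mk', hbot])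
    exact (MulEquiv.ofBijective _ ⟨hinj, QuotientGroup.mk'_surjective _⟩).isSimpleGroup

theorem noThirtyTwo (hab : ∀ z₁ z₂ : F, z₁ ^ 2 + a * z₁ * z₂ + b * z₂ ^ 2 = 0 → z₁ = 0 ∧ z₂ = 0) :
    NoThirtyTwo F a b := by
  classical
  intro Q hQ hB hF χ hχ hdeg
  obtain ⟨hcard, hsimple⟩ := card_omega_minus hab hQ hB hF
  haveI : Fintype (OG Q) := Fintype.ofFinite _
  haveI : Fact (Nat.Prime 17) := ⟨by norm_num⟩
  obtain ⟨P⟩ : Nonempty (Sylow 17 (OG Q)) := inferInstance
  have hP : Nat.card (P : Subgroup (OG Q)) = 17 := by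
    rw [P.card_eq_multiplicity, hcard, show (197406720 : ℕ) = 17 * 11612160 by norm_num,
      Nat.factorization_mul (by norm_num) (by norm_num), Finsupp.add_apply,
      (show Nat.Prime 17 by norm_num).factorization_self,
      Nat.factorization_eq_zero_of_not_dvd (by norm_num), add_zero, pow_one]
  have hcyc : ¬ IsCyclic (OG Q) := fun h => by
    letI := IsCyclic.commGroup (α := OG Q)
    have := IsSimpleGroup.prime_card (α := OG Q)
    rw [hcard] at this
    exact absurd this (by norm_num)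
  obtain ⟨D⟩ := BrauerTuan.nonempty_data hcyc P hP
  have hC := centralizer_sylow hB hF P hP
  have he : D.e = 4 := by
    have h := D.card_G
    rw [hC, hP, hcard] at h
    have h' : D.e * (1 + D.n * 17) = 11612160 :=
      Nat.eq_of_mul_eq_mul_right (show 0 < 17 by norm_num) (h.symm.trans (by norm_num))
    have hmod : D.e % 17 = 4 := by
      have h5 := congrArg (· % 17) h'
      simp [Nat.mul_mod, Nat.add_mod] at h5
      omega
    have h16 : D.e ≤ 16 := by
      have := D.het
      have := Nat.le_mul_of_pos_right D.e D.one_le_t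
      omega
    omega
  have hk : charDegree χ = 32 := by
    rw [charDegree, hdeg]
    simp
  obtain ⟨χ', hχ'⟩ : ∃ χ' : IrrCharacter (OG Q), (χ' : OG Q → ℂ) = χ := ⟨⟨χ, hχ⟩, rfl⟩
  rw [← hχ'] at hk
  by_cases hX : χ' ∈ D.X
  · have h := D.degX χ' hX
    rw [hk, Int.ModEq] at h
    rcases D.hδ χ' hX with e | e <;> rw [e] at h <;> norm_num at h
  by_cases hY : χ' ∈ D.Y
  · have h := D.degY χ' hY
    rw [hk, he, Int.ModEq] at h
    rcases D.hε with e | e <;> rw [e] at h <;> norm_num at h
  have hvan := D.out hC χ' hX hY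
  obtain ⟨m, hm⟩ := exists_nat_classInner
    (isCharacter_comp (P : Subgroup (OG Q)).subtype (isCharacter_of_isIrr hχ))
    (isCharacter_of_isIrr (isIrrCharacter_one (G := (P : Subgroup (OG Q)))))
  rw [classInner] at hm
  simp only [map_one, mul_one] at hm
  rw [Finset.sum_eq_single (1 : (P : Subgroup (OG Q)))
    (fun v _ hv => by
      rw [← hχ']
      exact hvan v v.2 fun e => hv (Subtype.ext e))
    (fun h => absurd (Finset.mem_univ _) h), hP, map_one, hdeg] at hm
  have h17 : (32 : ℂ) = 17 * (m : ℂ) := by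
    rw [← hm]; norm_num
  have h' : (32 : ℕ) = 17 * m := by exact_mod_cast h17
  omega

end CfsgLib.OrthMinDegree
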