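import Cfsg.Agent.Lib.MinIndexOrth.Moves
import Cfsg.Agent.Lib.SLMinDegree.Split

/-!
The unipotent radical of the stabilizer of a singular point, and the restriction of a character to it
and to the stabilizer of the hyperbolic pair.
-/

set_option autoImplicit false
set_option linter.unusedSectionVars false

namespace CfsgLib.OrthMinDegree

open CfsgLib.Orth CfsgLib.MinIndexOrth Cfsg CfsgLib.Char

variable {F : Type*} [Field F] [Fintype F] {ι : Type} [Fintype ι] [DecidableEq ι]
variable {Q : QuadraticForm F (ι → F)}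

local notation "B" => QuadraticMap.polar (DFunLike.coe Q)
/-- The group `(OG Q)` of a form. -/
abbrev OG (Q : QuadraticForm F (ι → F)) : Type _ := ↥(Cfsg.Omega F ⇑Q)

noncomputable instance (W : Submodule F (ι → F)) : Fintype W := Fintype.ofFinite _

/-- The standing hypotheses. -/
structure Big (Q : QuadraticForm F (ι → F)) : Prop where
  nondeg : Nondeg Q
  dim : 5 ≤ Module.finrank F (ι → F)

variable (hb : Big Q) (P : HP Q)

include hb in
theorem mem_omega_siegel {u y : ι → F} {g : Grp Q} (h : IsSiegel u y g) : g ∈ Cfsg.Omega F ⇑Q := by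
  rw [omega_eq_El hb.nondeg hb.dim]; exact siegel_mem_El h

include hb in
theorem exists_root {u y : ι → F} (hu : Q u = 0) (huy : B u y = 0) :
    ∃ g : (OG Q), IsSiegel u y (g : Grp Q) := by
  obtain ⟨g, hg⟩ := exists_siegel hb.nondeg hu huy
  exact ⟨⟨g, mem_omega_siegel hb hg⟩, hg⟩

theorem root_unique {u y : ι → F} {g h : (OG Q)} (hg : IsSiegel u y (g : Grp Q))
    (hh : IsSiegel u y (h : Grp Q)) : g = h := Subtype.ext (siegel_unique hg hh)

/-- The root group of the point, on the complement. -/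
noncomputable def root : AddChar P.W (OG Q) where
  toFun x := (exists_root hb P.hv (P.mem_W.1 x.2).1).choose
  map_zero_eq_one' := root_unique (exists_root hb P.hv (P.mem_W.1 (0 : P.W).2).1).choose_spec
    (siegel_one P.hv)
  map_add_eq_mul' x y := root_unique (exists_root hb P.hv (P.mem_W.1 (x + y).2).1).choose_spec
    (siegel_mul (exists_root hb P.hv (P.mem_W.1 x.2).1).choose_spec
      (exists_root hb P.hv (P.mem_W.1 y.2).1).choose_spec)

theorem root_spec (x : P.W) : IsSiegel P.v (x : ι → F) (root hb P x : Grp Q) :=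
  (exists_root hb P.hv (P.mem_W.1 x.2).1).choose_spec

theorem mem_W_move {g : (OG Q)} {c d : F} (hc : c ≠ 0) (hd : d ≠ 0)
    (hv : ap (g : Grp Q) P.v = c • P.v) (hf : ap (g : Grp Q) P.f = d • P.f) {x : ι → F}
    (hx : x ∈ P.W) : ap (g : Grp Q) x ∈ P.W := by
  obtain ⟨h1, h2⟩ := P.mem_W.1 hx
  refine P.mem_W.2 ⟨?_, ?_⟩
  · have h := ap_b (g : Grp Q) P.v x
    rw [hv, b_smul_left, h1] at h
    exact (mul_eq_zero.1 h).resolve_left hc
  · have h := ap_b (g : Grp Q) P.f x
    rw [hf, b_smul_left, h2] at h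
    exact (mul_eq_zero.1 h).resolve_left hd

theorem conj_root {g : (OG Q)} {c d : F} (hc : c ≠ 0) (hd : d ≠ 0)
    (hv : ap (g : Grp Q) P.v = c • P.v) (hf : ap (g : Grp Q) P.f = d • P.f) (x : P.W) :
    g * root hb P x * g⁻¹ = root hb P
      (c • ⟨ap (g : Grp Q) (x : ι → F), mem_W_move P hc hd hv hf x.2⟩) := by
  have h := siegel_conj (root_spec hb P x) (g : Grp Q)
  rw [hv] at h
  have hy := (P.mem_W.1 (mem_W_move P hc hd hv hf x.2)).1
  obtain ⟨k, hk⟩ := exists_siegel hb.nondeg P.hv hy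
  have h2 := siegel_smul hk c h
  refine root_unique ?_ (root_spec hb P _)
  rw [Submodule.coe_smul]
  exact h2

/-- The fixer of the pair. -/
def fixP : Subgroup (OG Q) where
  carrier := {g | ap (g : Grp Q) P.v = P.v ∧ ap (g : Grp Q) P.f = P.f}
  one_mem' := ⟨ap_one _, ap_one _⟩
  mul_mem' {g h} hg hh := ⟨by rw [Subgroup.coe_mul, ap_mul, hh.1, hg.1],
    by rw [Subgroup.coe_mul, ap_mul, hh.2, hg.2]⟩
  inv_mem' {g} hg := ⟨by
      conv_lhs => rw [Subgroup.coe_inv, ← hg.1, ap_inv_ap],
    by conv_lhs => rw [Subgroup.coe_inv, ← hg.2, ap_inv_ap]⟩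

theorem mem_W_fix {g : (OG Q)} (hg : g ∈ fixP P) {x : ι → F} (hx : x ∈ P.W) : ap (g : Grp Q) x ∈ P.W :=
  mem_W_move P one_ne_zero one_ne_zero (by rw [one_smul]; exact hg.1) (by rw [one_smul]; exact hg.2) hx

/-- The action of the fixer on the complement. -/
def actW (g : fixP P) : P.W ≃ P.W where
  toFun x := ⟨ap ((g : OG Q) : Grp Q) (x : ι → F), mem_W_fix P g.2 x.2⟩
  invFun x := ⟨ap (((g⁻¹ : fixP P) : (OG Q)) : Grp Q) (x : ι → F), mem_W_fix P (g⁻¹).2 x.2⟩
  left_inv x := Subtype.ext (by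
    show ap (((g⁻¹ : fixP P) : (OG Q)) : Grp Q) (ap ((g : OG Q) : Grp Q) (x : ι → F)) = _
    rw [Subgroup.coe_inv, Subgroup.coe_inv, ap_inv_ap])
  right_inv x := Subtype.ext (by
    show ap ((g : OG Q) : Grp Q) (ap (((g⁻¹ : fixP P) : (OG Q)) : Grp Q) (x : ι → F)) = _
    rw [Subgroup.coe_inv, Subgroup.coe_inv, ap_ap_inv])

theorem fix_mul_root (g : fixP P) (x : P.W) :
    (g : OG Q) * root hb P x = root hb P (actW P g x) * (g : OG Q) := by
  have h := conj_root hb P one_ne_zero one_ne_zero (g := (g : OG Q)) (by rw [one_smul]; exact g.2.1)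
    (by rw [one_smul]; exact g.2.2) x
  rw [one_smul] at h
  rw [← mul_inv_eq_iff_eq_mul, h]
  rfl

/-- The character of the root group attached to a vector. -/
noncomputable def wch (w : P.W) : AddChar P.W ℂ where
  toFun x := RankOne.psi F (B (w : ι → F) (x : ι → F))
  map_zero_eq_one' := by simp [b_zero_right]
  map_add_eq_mul' x y := by rw [Submodule.coe_add, b_add_right, AddChar.map_add_eq_mul]

theorem wch_apply (w x : P.W) : wch P w x = RankOne.psi F (B (w : ι → F) (x : ι → F)) := rfl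

include hb in
theorem exists_b_ne {x : P.W} (hx : x ≠ 0) : ∃ y : P.W, B (x : ι → F) (y : ι → F) ≠ 0 := by
  by_contra hc
  push Not at hc
  exact hx (Subtype.ext (P.nondeg hb.nondeg (x : ι → F) x.2 fun y hy => hc ⟨y, hy⟩))

include hb in
theorem exists_wch_ne {x : P.W} (hx : x ≠ 0) : ∃ y : P.W, wch P y x ≠ 1 ∧ wch P x y ≠ 1 := by
  obtain ⟨y, hy⟩ := exists_b_ne hb P hx
  classical
  obtain ⟨c, hc⟩ := SLMinDegree.exists_psi_ne_one hy
  refine ⟨c • y, ?_, ?_⟩
  · rw [wch_apply, Submodule.coe_smul, b_smul_left, b_comm, mul_comm]; exact hc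
  · rw [wch_apply, Submodule.coe_smul, b_smul_right, mul_comm]; exact hc

include hb in
theorem sum_wch (x : P.W) [Decidable (x = 0)] :
    ∑ w : P.W, wch P w x = if x = 0 then (Fintype.card P.W : ℂ) else 0 := by
  split_ifs with hx
  · subst hx
    simp
  · obtain ⟨y, hy, -⟩ := exists_wch_ne hb P hx
    have h : wch P y x * ∑ w : P.W, wch P w x = ∑ w : P.W, wch P w x := by
      rw [Finset.mul_sum]
      refine Fintype.sum_equiv (Equiv.addLeft y) _ _ fun w => ?_
      rw [Equiv.coe_addLeft, wch_apply, wch_apply, wch_apply, Submodule.coe_add, b_add_left,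
        AddChar.map_add_eq_mul]
    exact (mul_eq_zero.1 (show (wch P y x - 1) * ∑ w : P.W, wch P w x = 0 by
      rw [sub_mul, one_mul, h, sub_self])).resolve_left (sub_ne_zero.2 hy)

theorem wch_ne_zero (w x : P.W) : wch P w x ≠ 0 := fun h => by
  have h1 := (wch P w).map_add_eq_mul x (-x)
  rw [add_neg_cancel, AddChar.map_zero_eq_one, h, zero_mul] at h1
  exact one_ne_zero h1

/-- The coefficient of a character at a weight. -/
noncomputable def coef (χ : (OG Q) → ℂ) (w : P.W) (g : OG Q) : ℂ :=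
  (Fintype.card P.W : ℂ)⁻¹ * ∑ x : P.W, (wch P w x)⁻¹ * χ (root hb P x * g)

theorem sum_coef (χ : (OG Q) → ℂ) (g : OG Q) : ∑ w : P.W, coef hb P χ w g = χ g := by
  classical
  have hinv : ∀ w x : P.W, (wch P w x)⁻¹ = wch P w (-x) := fun w x => by
    refine inv_eq_of_mul_eq_one_right ?_
    rw [← AddChar.map_add_eq_mul, add_neg_cancel, AddChar.map_zero_eq_one]
  simp only [coef, ← Finset.mul_sum]
  rw [Finset.sum_comm]
  simp only [← Finset.sum_mul, hinv, sum_wch hb, neg_eq_zero, ite_mul, zero_mul,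
    Finset.sum_ite_eq', Finset.mem_univ, if_true, AddChar.map_zero_eq_one, one_mul]
  rw [inv_mul_cancel_left₀ (Nat.cast_ne_zero.mpr Fintype.card_ne_zero)]

/-- Fourier inversion on the root group. -/
theorem chi_root (χ : (OG Q) → ℂ) (x : P.W) :
    χ (root hb P x) = ∑ w : P.W, coef hb P χ w 1 * wch P w x := by
  classical
  have hinv : ∀ w y : P.W, (wch P w y)⁻¹ * wch P w x = wch P w (x - y) := fun w y => by
    rw [inv_mul_eq_iff_eq_mul₀ (wch_ne_zero P w y), ← AddChar.map_add_eq_mul, add_sub_cancel]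
  simp only [coef, mul_one, mul_assoc, Finset.sum_mul, ← Finset.mul_sum]
  rw [Finset.sum_comm]
  have e : ∀ y w : P.W, (wch P w y)⁻¹ * (χ (root hb P y) * wch P w x) =
      χ (root hb P y) * wch P w (x - y) := fun y w => by rw [← hinv]; ring
  simp only [e, ← Finset.mul_sum, sum_wch hb, sub_eq_zero, mul_ite, mul_zero, Finset.sum_ite_eq,
    Finset.mem_univ, if_true]
  rw [mul_comm (χ _), inv_mul_cancel_left₀ (Nat.cast_ne_zero.mpr Fintype.card_ne_zero)]

/-- The stabilizer of a weight in the fixer. -/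
def wstab (w : P.W) : Subgroup (fixP P) where
  carrier := {g | ap ((g : OG Q) : Grp Q) (w : ι → F) = w}
  one_mem' := ap_one _
  mul_mem' {g h} hg hh := by
    show ap (((g * h : fixP P) : (OG Q)) : Grp Q) (w : ι → F) = w
    rw [Subgroup.coe_mul, Subgroup.coe_mul, ap_mul, hh, hg]
  inv_mem' {g} hg := by
    show ap (((g⁻¹ : fixP P) : (OG Q)) : Grp Q) (w : ι → F) = w
    conv_lhs => rw [Subgroup.coe_inv, Subgroup.coe_inv, ← (show _ = _ from hg), ap_inv_ap]

theorem isCharacter_coef {χ : (OG Q) → ℂ} (hχ : IsCharacter (OG Q) χ) (w : P.W) :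
    IsCharacter (wstab P w) (fun g => coef hb P χ w ((g : fixP P) : (OG Q))) := by
  refine SLMinDegree.isCharacter_eigen (root hb P) ((fixP P).subtype.comp (wstab P w).subtype)
    (wch P w) (fun g => actW P (g : fixP P)) (fun g x => ?_)
    (fun g x => fix_mul_root hb P (g : fixP P) x) hχ
  rw [wch_apply, wch_apply]
  congr 1
  show B (w : ι → F) (ap (((g : fixP P) : (OG Q)) : Grp Q) (x : ι → F)) = _
  conv_lhs => rw [← (show _ = _ from g.2), ap_b]

theorem exists_nat_coef {χ : (OG Q) → ℂ} (hχ : IsCharacter (OG Q) χ) (w : P.W) :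
    ∃ n : ℕ, coef hb P χ w 1 = n := by
  obtain ⟨n, hn⟩ := exists_nat_degree (isCharacter_coef hb P hχ w)
  exact ⟨n, hn⟩

theorem coef_eq_zero {χ : (OG Q) → ℂ} (hχ : IsClassFunction (OG Q) χ) {w : P.W} (g : fixP P)
    (hg : g ∉ wstab P w) : coef hb P χ w (g : OG Q) = 0 := by
  obtain ⟨w', hw'⟩ : ∃ w' : P.W, w' = (actW P g).symm w - w := ⟨_, rfl⟩
  have hne : w' ≠ 0 := fun h => hg (by
    have h2 : (actW P g).symm w = w := sub_eq_zero.1 (hw' ▸ h)
    show ap ((g : OG Q) : Grp Q) (w : ι → F) = w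
    conv_rhs => rw [← (actW P g).apply_symm_apply w, h2]
    rfl)
  obtain ⟨z, -, hz⟩ := exists_wch_ne hb P hne
  have hd : wch P w (actW P g z - z) ≠ 1 := by
    have e : B (w : ι → F) ((actW P g z : P.W) : ι → F) =
        B (((actW P g).symm w : P.W) : ι → F) (z : ι → F) := by
      conv_lhs => rw [← (actW P g).apply_symm_apply w]
      exact ap_b _ _ _
    rw [wch_apply, hw', Submodule.coe_sub, b_sub_left] at hz
    rw [wch_apply, Submodule.coe_sub, b_sub_right, e]
    exact hz
  set d := actW P g z - z with hddef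
  have hc : ∀ x, χ (root hb P (x + d) * (g : OG Q)) = χ (root hb P x * (g : OG Q)) := fun x => by
    rw [← hχ (root hb P x * (g : OG Q)) (root hb P (-z))]
    congr 1
    have h1 : (g : OG Q) * (root hb P (-z))⁻¹ = root hb P (actW P g z) * (g : OG Q) := by
      rw [show (root hb P (-z))⁻¹ = root hb P z from inv_eq_of_mul_eq_one_left (by
        rw [← AddChar.map_add_eq_mul, add_neg_cancel, AddChar.map_zero_eq_one]), fix_mul_root]
    rw [mul_assoc, mul_assoc, h1, ← mul_assoc, ← mul_assoc, ← AddChar.map_add_eq_mul,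
      ← AddChar.map_add_eq_mul]
    congr 2
    rw [hddef]; abel
  have h : coef hb P χ w (g : OG Q) * wch P w d = coef hb P χ w (g : OG Q) := by
    simp only [coef, mul_assoc, Finset.sum_mul]
    congr 1
    refine (Fintype.sum_equiv (Equiv.addRight d) _ _ fun x => ?_).symm
    rw [Equiv.coe_addRight, hc, (wch P w).map_add_eq_mul, mul_inv]
    have := wch_ne_zero P w d
    field_simp
  exact (mul_eq_zero.1 (show coef hb P χ w (g : OG Q) * (wch P w d - 1) = 0 by
    rw [mul_sub, mul_one, h, sub_self])).resolve_right (sub_ne_zero.2 hd)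

/-- The multiplicities are invariant under the stabilizer of the two points. -/
theorem coef_move {χ : (OG Q) → ℂ} (hχ : IsClassFunction (OG Q) χ) {g : (OG Q)} {c d : F} (hc : c ≠ 0)
    (hd : d ≠ 0) (hv : ap (g : Grp Q) P.v = c • P.v) (hf : ap (g : Grp Q) P.f = d • P.f) (w : P.W) :
    coef hb P χ (c⁻¹ • ⟨ap (g : Grp Q) (w : ι → F), mem_W_move P hc hd hv hf w.2⟩) 1 =
      coef hb P χ w 1 := by
  let e : P.W → P.W := fun x => c • ⟨ap (g : Grp Q) (x : ι → F), mem_W_move P hc hd hv hf x.2⟩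
  have hinj : Function.Injective e := fun x y h =>
    Subtype.ext (ap_inj _ (congrArg Subtype.val (smul_right_injective P.W hc h)))
  have he : Function.Bijective e := (Finite.injective_iff_bijective (f := e)).1 hinj
  simp only [coef]
  congr 1
  refine (Fintype.sum_bijective e he _ _ fun x => ?_).symm
  rw [mul_one, mul_one, ← hχ (root hb P x) g, conj_root hb P hc hd hv hf]
  congr 2
  rw [wch_apply, wch_apply]
  congr 1
  show B (w : ι → F) (x : ι → F) =
    B (c⁻¹ • ap (g : Grp Q) (w : ι → F)) (c • ap (g : Grp Q) (x : ι → F))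
  rw [b_smul_left, b_smul_right, ap_b, inv_mul_cancel_left₀ hc]

end CfsgLib.OrthMinDegree
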